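/-
The standard extraspecial group of order 243 in dimension nine, as Kronecker products of two copies of the
group of order 27.
-/
import Cfsg.Agent.Lib.Classical.LinThree.HessStd

set_option autoImplicit false
set_option linter.unusedSectionVars false

namespace Cfsg.Agent.Classical.TriFrame

open Matrix Kronecker
open Cfsg.Agent.Classical.LinThree.Hess

variable {F : Type*} [Field F] {ω : F}

/-- Nine coordinates. -/
abbrev P9 := Fin 3 × Fin 3

/-- The indices of the frame. -/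
abbrev Ix := (Fin 3 × Fin 3) × (Fin 3 × Fin 3)

/-- The frame elements. -/
def W (ω : F) (a : Ix) : Matrix P9 P9 F := rm ω a.1 ⊗ₖ rm ω a.2

/-- The commutator form on one factor. -/
def sg3 (e f : Fin 3 × Fin 3) : Fin 3 := e.2 * f.1 - f.2 * e.1

/-- The commutator form. -/
def sg (a b : Ix) : Fin 3 := sg3 a.1 b.1 + sg3 a.2 b.2

theorem sg3_add_right (e f g : Fin 3 × Fin 3) : sg3 e (f + g) = sg3 e f + sg3 e g := by
  revert e f g; decide +kernel

theorem sg3_swap (e f : Fin 3 × Fin 3) : sg3 f e = -sg3 e f := by revert e f; decide +kernel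

theorem sg_add_right (a b c : Ix) : sg a (b + c) = sg a b + sg a c := by
  simp only [sg, Prod.fst_add, Prod.snd_add, sg3_add_right]; abel

theorem sg_swap (a b : Ix) : sg b a = -sg a b := by simp only [sg, sg3_swap a.1, sg3_swap a.2]; abel

theorem sg_add_left (a b c : Ix) : sg (a + b) c = sg a c + sg b c := by
  rw [sg_swap c, sg_add_right, sg_swap a c, sg_swap b c]; abel

theorem sg_self (a : Ix) : sg a a = 0 := by simp only [sg, sg3, sub_self, add_zero]

theorem sg_zero_right (a : Ix) : sg a 0 = 0 := by simp [sg, sg3]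

theorem sg_zero_left (a : Ix) : sg 0 a = 0 := by simp [sg, sg3]

theorem W_zero : W ω 0 = 1 := by simp [W, rm_zero, one_kronecker_one]

theorem W_mul (h : Om ω) (a b : Ix) :
    W ω a * W ω b = pw ω (a.1.2 * b.1.1 + a.2.2 * b.2.1) • W ω (a + b) := by
  rw [W, W, ← mul_kronecker_mul, rm_mul h, rm_mul h, smul_kronecker, kronecker_smul, smul_smul, ← pw_add h]
  rfl

theorem W_comm (h : Om ω) (a b : Ix) : W ω a * W ω b = pw ω (sg a b) • (W ω b * W ω a) := by
  rw [W_mul h, W_mul h, add_comm b a, smul_smul, ← pw_add h]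
  congr 2
  simp only [sg, sg3]; abel

theorem det_W (h : Om ω) (a : Ix) : (W ω a).det = 1 := by
  rw [W, det_kronecker, det_rm h, det_rm h]; simp

theorem isUnit_W (h : Om ω) (a : Ix) : IsUnit (W ω a) := by
  rw [Matrix.isUnit_iff_isUnit_det, det_W h]; exact isUnit_one

theorem trace_W (h : Om ω) {a : Ix} (ha : a ≠ 0) : (W ω a).trace = 0 := by
  rw [W, trace_kronecker]
  by_cases h1 : a.1 = 0
  · have h2 : a.2 ≠ 0 := fun e => ha (Prod.ext h1 e)
    rw [trace_rm h h2, mul_zero]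
  · rw [trace_rm h h1, zero_mul]

theorem trace_W_zero : (W ω 0).trace = (9 : F) := by
  rw [W_zero, Matrix.trace_one]
  simp

theorem nine_ne (h : Om ω) : (9 : F) ≠ 0 := by
  have := mul_ne_zero h.three h.three
  norm_num at this ⊢
  exact this

theorem W_ne_zero (h : Om ω) (a : Ix) : W ω a ≠ 0 := fun e => by
  have := det_W h a
  rw [e, Matrix.det_zero] at this
  exact zero_ne_one this

theorem W_mul_inv (h : Om ω) (a : Ix) : ∃ c, W ω a * W ω (-a) = pw ω c • (1 : Matrix P9 P9 F) :=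
  ⟨_, by rw [W_mul h, add_neg_cancel, W_zero]⟩

/-- Proportional frame elements have the same index. -/
theorem W_inj (h : Om ω) {a b : Ix} {c : F} (e : W ω a = c • W ω b) : a = b := by
  by_contra hne
  obtain ⟨d, hd⟩ := W_mul_inv h b
  have h1 : W ω a * W ω (-b) = (c * pw ω d) • (1 : Matrix P9 P9 F) := by
    rw [e, Matrix.smul_mul, hd, smul_smul]
  rw [W_mul h] at h1
  have h2 := congrArg Matrix.trace h1
  rw [Matrix.trace_smul, trace_W h (fun q => hne (add_neg_eq_zero.mp q)), smul_zero, Matrix.trace_smul,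
    Matrix.trace_one] at h2
  have h3 : c * pw ω d * 9 = 0 := by rw [smul_eq_mul] at h2; simpa using h2.symm
  rcases mul_eq_zero.mp h3 with h4 | h4
  · rcases mul_eq_zero.mp h4 with h5 | h5
    · exact W_ne_zero h a (by rw [e, h5, zero_smul])
    · exact pw_ne_zero h d h5
  · exact nine_ne h h4

theorem span_W (h : Om ω) : Submodule.span F (Set.range (W ω)) = ⊤ := by
  rw [eq_top_iff]
  intro X _
  rw [Matrix.matrix_eq_sum_single X]
  refine Submodule.sum_mem _ fun i _ => Submodule.sum_mem _ fun j _ => ?_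
  have key : ∀ A B : Matrix (Fin 3) (Fin 3) F, A ⊗ₖ B ∈ Submodule.span F (Set.range (W ω)) := by
    intro A B
    have hA : A ∈ Submodule.span F (Set.range (rm ω)) := span_rm h ▸ Submodule.mem_top
    induction hA using Submodule.span_induction with
    | mem y hy =>
      obtain ⟨e, rfl⟩ := hy
      have hB : B ∈ Submodule.span F (Set.range (rm ω)) := span_rm h ▸ Submodule.mem_top
      induction hB using Submodule.span_induction with
      | mem z hz => obtain ⟨f, rfl⟩ := hz; exact Submodule.subset_span ⟨(e, f), rfl⟩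
      | zero => simp
      | add a b _ _ ha hb => rw [kronecker_add]; exact add_mem ha hb
      | smul c a _ ha => rw [kronecker_smul]; exact Submodule.smul_mem _ c ha
    | zero => simp
    | add a b _ _ ha hb => rw [add_kronecker]; exact add_mem ha hb
    | smul c a _ ha => rw [smul_kronecker]; exact Submodule.smul_mem _ c ha
  obtain ⟨a, b⟩ := i
  obtain ⟨c, d⟩ := j
  have e : Matrix.single (a, b) (c, d) (X (a, b) (c, d)) =
      Matrix.single a c (X (a, b) (c, d)) ⊗ₖ Matrix.single b d (1 : F) := by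
    rw [single_kronecker_single, mul_one]
  rw [e]
  exact key _ _

theorem scalar_of_commute9 (h : Om ω) {X : Matrix P9 P9 F} (hX : ∀ a, X * W ω a = W ω a * X) :
    ∃ c : F, X = c • (1 : Matrix P9 P9 F) := by
  have hall : ∀ Y, X * Y = Y * X := fun Y => by
    have hY : Y ∈ Submodule.span F (Set.range (W ω)) := span_W h ▸ Submodule.mem_top
    induction hY using Submodule.span_induction with
    | mem y hy => obtain ⟨e, rfl⟩ := hy; exact hX e
    | zero => simp
    | add a b _ _ ha hb => rw [mul_add, add_mul, ha, hb]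
    | smul c a _ ha => rw [Matrix.mul_smul, Matrix.smul_mul, ha]
  obtain ⟨c, hc⟩ := Matrix.mem_range_scalar_of_commute_single (M := X) fun i j _ => (hall _).symm
  exact ⟨c, by rw [← hc]; ext i j; simp [Matrix.scalar_apply, Matrix.one_apply, Matrix.diagonal_apply]⟩

theorem pw_exists (h : Om ω) {μ : F} (hμ : μ * μ * μ = 1) : ∃ c, μ = pw ω c := by
  have h1 : (μ - 1) * (μ - ω) * (μ - ω * ω) = 0 := by
    linear_combination hμ + (-μ * μ + μ * ω) * h.root - h.cube
  rcases mul_eq_zero.mp h1 with h2 | h2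
  · rcases mul_eq_zero.mp h2 with h3 | h3
    · exact ⟨0, by rw [pw_zero]; exact sub_eq_zero.mp h3⟩
    · exact ⟨1, by rw [pw_one_val]; exact sub_eq_zero.mp h3⟩
  · exact ⟨2, by rw [pw_two_val]; exact sub_eq_zero.mp h2⟩

theorem exists_sg3 : ∀ u v : Fin 3, ∃ e : Fin 3 × Fin 3, sg3 e (1, 0) = u ∧ sg3 e (0, 1) = v := by decide

theorem add_ext1 {v v' : Fin 3 → Fin 3} (hv : ∀ x y, v (x + y) = v x + v y) (hv' : ∀ x y, v' (x + y) = v' x + v' y)
    (h1 : v 1 = v' 1) (x : Fin 3) : v x = v' x := by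
  have h2 : v 2 = v' 2 := by
    rw [show (2 : Fin 3) = 1 + 1 by decide, hv, hv', h1]
  have h0 : v 0 = v' 0 := by
    rw [show (0 : Fin 3) = 1 + 2 by decide, hv, hv', h1, h2]
  fin_cases x
  exacts [h0, h1, h2]

theorem add_ext3 {v v' : Fin 3 × Fin 3 → Fin 3} (hv : ∀ x y, v (x + y) = v x + v y)
    (hv' : ∀ x y, v' (x + y) = v' x + v' y) (h1 : v (1, 0) = v' (1, 0)) (h2 : v (0, 1) = v' (0, 1))
    (e : Fin 3 × Fin 3) : v e = v' e := by
  have e1 := add_ext1 (v := fun x => v (x, 0)) (v' := fun x => v' (x, 0))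
    (fun x y => by rw [← hv]; simp) (fun x y => by rw [← hv']; simp) h1 e.1
  have e2 := add_ext1 (v := fun x => v (0, x)) (v' := fun x => v' (0, x))
    (fun x y => by rw [← hv]; simp) (fun x y => by rw [← hv']; simp) h2 e.2
  rw [show e = (e.1, 0) + (0, e.2) by simp, hv, hv', e1, e2]

/-- A non-zero matrix commuting up to scalars with the small frame is a multiple of a frame element. -/
theorem rm_of_twisted (h : Om ω) {X : Matrix (Fin 3) (Fin 3) F} (hX0 : X ≠ 0)
    (hX : ∀ e, ∃ μ : F, X * rm ω e = μ • (rm ω e * X)) : ∃ (c : F) (b : Fin 3 × Fin 3), c ≠ 0 ∧ X = c • rm ω b := by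
  choose μ hμ using hX
  have hmul : ∀ e f, μ (e + f) = μ e * μ f := by
    intro e f
    have h1 : X * (rm ω e * rm ω f) = (μ e * μ f) • ((rm ω e * rm ω f) * X) := by
      rw [← Matrix.mul_assoc, hμ, Matrix.smul_mul, Matrix.mul_assoc, hμ, Matrix.mul_smul, smul_smul,
        ← Matrix.mul_assoc]
    rw [rm_mul h, Matrix.mul_smul, hμ, Matrix.smul_mul, smul_comm (μ e * μ f)] at h1
    have h2 := smul_right_injective (Matrix (Fin 3) (Fin 3) F) (pw_ne_zero h _) h1
    have hne : rm ω (e + f) * X ≠ 0 := fun q => hX0 (by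
      have hu : IsUnit (rm ω (e + f)) := by rw [Matrix.isUnit_iff_isUnit_det, det_rm h]; exact isUnit_one
      exact hu.mul_right_eq_zero.mp q)
    exact smul_left_injective F hne h2
  have h0 : μ 0 = 1 := by
    have h1 := hμ 0
    rw [rm_zero, Matrix.mul_one, Matrix.one_mul] at h1
    exact smul_left_injective F hX0 (show μ 0 • X = (1 : F) • X by rw [one_smul, ← h1])
  have hcube : ∀ e, μ e * μ e * μ e = 1 := fun e => by
    rw [← hmul, ← hmul, show e + e + e = 0 by revert e; decide, h0]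
  choose u hu using fun e => pw_exists h (hcube e)
  obtain ⟨b, hb1, hb2⟩ := exists_sg3 (u (1, 0)) (u (0, 1))
  have hlin : ∀ e, u e = sg3 b e := by
    have hadd : ∀ e f, u (e + f) = u e + u f := fun e f => by
      apply pw_injective h
      rw [pw_add h, ← hu, ← hu, ← hu, hmul]
    exact add_ext3 hadd (fun x y => sg3_add_right b x y) hb1.symm hb2.symm
  obtain ⟨Y, hY⟩ : ∃ Y, Y = rm ω (-b) * X := ⟨_, rfl⟩
  obtain ⟨c, hc⟩ : ∃ c : F, Y = c • (1 : Matrix (Fin 3) (Fin 3) F) := by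
    refine scalar_of_commute h fun e => ?_
    have hk : sg3 b e + ((-b).2 * e.1 - e.2 * (-b).1) = 0 :=
      (show ∀ b e : Fin 3 × Fin 3, sg3 b e + ((-b).2 * e.1 - e.2 * (-b).1) = 0 by decide +kernel) b e
    rw [hY, Matrix.mul_assoc, hμ, hu, hlin, Matrix.mul_smul, ← Matrix.mul_assoc, rm_comm h (-b) e,
      Matrix.smul_mul, smul_smul, ← pw_add h, hk, pw_zero, one_smul, Matrix.mul_assoc]
  have hbb : rm ω b * rm ω (-b) = pw ω (b.2 * (-b).1) • (1 : Matrix (Fin 3) (Fin 3) F) := by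
    rw [rm_mul h, add_neg_cancel, rm_zero]
  have e1 : pw ω (b.2 * (-b).1) • X = c • rm ω b := by
    rw [hY] at hc
    calc pw ω (b.2 * (-b).1) • X = rm ω b * (rm ω (-b) * X) := by
          rw [← Matrix.mul_assoc, hbb, Matrix.smul_mul, Matrix.one_mul]
      _ = _ := by rw [hc, Matrix.mul_smul, Matrix.mul_one]
  refine ⟨(pw ω (b.2 * (-b).1))⁻¹ * c, b, fun q => hX0 ?_, ?_⟩
  · rw [← inv_smul_smul₀ (pw_ne_zero h (b.2 * (-b).1)) X, e1, smul_smul, q, zero_smul]
  · rw [← inv_smul_smul₀ (pw_ne_zero h (b.2 * (-b).1)) X, e1, smul_smul]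

/-- A non-zero matrix commuting up to scalars with the frame is a multiple of a frame element. -/
theorem W_of_twisted (h : Om ω) {X : Matrix P9 P9 F} (hX0 : X ≠ 0)
    (hX : ∀ a, ∃ μ : F, X * W ω a = μ • (W ω a * X)) : ∃ (c : F) (b : Ix), c ≠ 0 ∧ X = c • W ω b := by
  choose μ hμ using hX
  have hmul : ∀ e f, μ (e + f) = μ e * μ f := by
    intro e f
    have h1 : X * (W ω e * W ω f) = (μ e * μ f) • ((W ω e * W ω f) * X) := by
      rw [← Matrix.mul_assoc, hμ, Matrix.smul_mul, Matrix.mul_assoc, hμ, Matrix.mul_smul, smul_smul,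
        ← Matrix.mul_assoc]
    rw [W_mul h, Matrix.mul_smul, hμ, Matrix.smul_mul, smul_comm (μ e * μ f)] at h1
    have h2 := smul_right_injective (Matrix P9 P9 F) (pw_ne_zero h _) h1
    exact smul_left_injective F (fun q => hX0 ((isUnit_W h (e + f)).mul_right_eq_zero.mp q)) h2
  have h0 : μ 0 = 1 := by
    have h1 := hμ 0
    rw [W_zero, Matrix.mul_one, Matrix.one_mul] at h1
    exact smul_left_injective F hX0 (show μ 0 • X = (1 : F) • X by rw [one_smul, ← h1])
  have h3 : ∀ e : Ix, e + e + e = 0 := by decide +kernel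
  choose u hu using fun e => pw_exists h (show μ e * μ e * μ e = 1 by rw [← hmul, ← hmul, h3, h0])
  have hadd : ∀ e f, u (e + f) = u e + u f := fun e f => by
    apply pw_injective h
    rw [pw_add h, ← hu, ← hu, ← hu, hmul]
  obtain ⟨b1, hb1, hb2⟩ := exists_sg3 (u ((1, 0), 0)) (u ((0, 1), 0))
  obtain ⟨b2, hb3, hb4⟩ := exists_sg3 (u (0, (1, 0))) (u (0, (0, 1)))
  have hlin : ∀ e, u e = sg (b1, b2) e := by
    intro e
    have e1 := add_ext3 (v := fun x => u (x, 0)) (fun x y => by rw [← hadd]; simp)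
      (fun x y => sg3_add_right b1 x y) hb1.symm hb2.symm e.1
    have e2 := add_ext3 (v := fun x => u (0, x)) (fun x y => by rw [← hadd]; simp)
      (fun x y => sg3_add_right b2 x y) hb3.symm hb4.symm e.2
    rw [show e = (e.1, 0) + (0, e.2) by simp, hadd, e1, e2]
    simp [sg]
  obtain ⟨Y, hY⟩ : ∃ Y, Y = W ω (-(b1, b2)) * X := ⟨_, rfl⟩
  obtain ⟨c, hc⟩ : ∃ c : F, Y = c • (1 : Matrix P9 P9 F) := by
    refine scalar_of_commute9 h fun e => ?_
    have hk : sg (b1, b2) e + sg (-(b1, b2)) e = 0 := by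
      rw [← sg_add_left, add_neg_cancel, sg_zero_left]
    rw [hY, Matrix.mul_assoc, hμ, hu, hlin, Matrix.mul_smul, ← Matrix.mul_assoc, W_comm h (-(b1, b2)) e,
      Matrix.smul_mul, smul_smul, ← pw_add h, hk, pw_zero, one_smul, Matrix.mul_assoc]
  obtain ⟨d, hd⟩ := W_mul_inv h (b1, b2)
  have e1 : pw ω d • X = c • W ω (b1, b2) := by
    rw [hY] at hc
    calc pw ω d • X = W ω (b1, b2) * (W ω (-(b1, b2)) * X) := by
          rw [← Matrix.mul_assoc, hd, Matrix.smul_mul, Matrix.one_mul]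
      _ = _ := by rw [hc, Matrix.mul_smul, Matrix.mul_one]
  refine ⟨(pw ω d)⁻¹ * c, (b1, b2), fun q => hX0 ?_, ?_⟩
  · rw [← inv_smul_smul₀ (pw_ne_zero h d) X, e1, smul_smul, q, zero_smul]
  · rw [← inv_smul_smul₀ (pw_ne_zero h d) X, e1, smul_smul]

/-- `M` permutes the frame by `f`. -/
def Acts (ω : F) (M : Matrix P9 P9 F) (f : Ix → Ix) : Prop :=
  ∀ a, ∃ c : F, c ≠ 0 ∧ M * W ω a = c • (W ω (f a) * M)

theorem Acts.mul {M M' : Matrix P9 P9 F} {f f' : Ix → Ix} (hM : Acts ω M f) (hM' : Acts ω M' f') :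
    Acts ω (M * M') (f ∘ f') := fun a => by
  obtain ⟨c', hc0', hc'⟩ := hM' a
  obtain ⟨c, hc0, hc⟩ := hM (f' a)
  refine ⟨c' * c, mul_ne_zero hc0' hc0, ?_⟩
  rw [Matrix.mul_assoc, hc', Matrix.mul_smul, ← Matrix.mul_assoc, hc, Matrix.smul_mul, smul_smul, Matrix.mul_assoc,
    Function.comp_apply]

theorem Acts.one : Acts ω (1 : Matrix P9 P9 F) id := fun a => ⟨1, one_ne_zero, by simp⟩

theorem Acts.smul {M : Matrix P9 P9 F} {f : Ix → Ix} (hM : Acts ω M f) (c : F) : Acts ω (c • M) f := fun a => by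
  obtain ⟨d, hd0, hd⟩ := hM a
  exact ⟨d, hd0, by rw [Matrix.smul_mul, hd, Matrix.mul_smul, smul_comm]⟩

theorem Acts.frame (h : Om ω) (b : Ix) : Acts ω (W ω b) id := fun a => ⟨_, pw_ne_zero h _, W_comm h b a⟩

theorem Acts.unique (h : Om ω) {M : Matrix P9 P9 F} (hM : IsUnit M) {f f' : Ix → Ix} (hf : Acts ω M f)
    (hf' : Acts ω M f') : f = f' := by
  funext a
  obtain ⟨c, hc0, hc⟩ := hf a
  obtain ⟨c', hc0', hc'⟩ := hf' a
  rw [hc] at hc'
  rw [← Matrix.smul_mul, ← Matrix.smul_mul] at hc'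
  have e := hM.mul_right_cancel hc'
  exact W_inj h (c := c' * c⁻¹) (by
    rw [← inv_smul_smul₀ hc0 (W ω (f a)), e, smul_smul, mul_comm])

theorem Acts.injective (h : Om ω) {M : Matrix P9 P9 F} (hM : IsUnit M) {f : Ix → Ix} (hf : Acts ω M f) :
    Function.Injective f := by
  intro a b e
  obtain ⟨c, hc0, hc⟩ := hf a
  obtain ⟨c', hc0', hc'⟩ := hf b
  rw [e] at hc
  have e2 : M * W ω a = M * ((c * c'⁻¹) • W ω b) := by
    rw [Matrix.mul_smul, hc, hc', smul_smul, mul_assoc, inv_mul_cancel₀ hc0', mul_one]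
  exact W_inj h (hM.mul_left_cancel e2)

theorem Acts.add (h : Om ω) {M : Matrix P9 P9 F} (hM : IsUnit M) {f : Ix → Ix} (hf : Acts ω M f) (a b : Ix) :
    f (a + b) = f a + f b := by
  obtain ⟨c, hc0, hc⟩ := hf a
  obtain ⟨c', hc0', hc'⟩ := hf b
  obtain ⟨d, hd0, hd⟩ := hf (a + b)
  have e1 : M * (W ω a * W ω b) = (c * c') • ((W ω (f a) * W ω (f b)) * M) := by
    rw [← Matrix.mul_assoc, hc, Matrix.smul_mul, Matrix.mul_assoc, hc', Matrix.mul_smul, smul_smul,
      ← Matrix.mul_assoc]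
  rw [W_mul h, W_mul h, Matrix.mul_smul, hd, Matrix.smul_mul, smul_smul, smul_smul,
    ← Matrix.smul_mul, ← Matrix.smul_mul] at e1
  have e2 := hM.mul_right_cancel e1
  obtain ⟨k, hk⟩ : ∃ k, k = pw ω (a.1.2 * b.1.1 + a.2.2 * b.2.1) * d := ⟨_, rfl⟩
  rw [← hk] at e2
  refine W_inj h (c := k⁻¹ * (c * c' * pw ω ((f a).1.2 * (f b).1.1 + (f a).2.2 * (f b).2.1))) ?_
  rw [← smul_smul, ← e2, inv_smul_smul₀ (hk ▸ mul_ne_zero (pw_ne_zero h _) hd0)]

theorem Acts.pres (h : Om ω) {M : Matrix P9 P9 F} (hM : IsUnit M) {f : Ix → Ix} (hf : Acts ω M f) (a b : Ix) :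
    sg (f a) (f b) = sg a b := by
  obtain ⟨c, hc0, hc⟩ := hf a
  obtain ⟨c', hc0', hc'⟩ := hf b
  have e1 : ∀ (a b : Ix) (c c' : F), M * W ω a = c • (W ω (f a) * M) → M * W ω b = c' • (W ω (f b) * M) →
      M * (W ω a * W ω b) = (c * c') • ((W ω (f a) * W ω (f b)) * M) := fun a b c c' hc hc' => by
    rw [← Matrix.mul_assoc, hc, Matrix.smul_mul, Matrix.mul_assoc, hc', Matrix.mul_smul, smul_smul,
      ← Matrix.mul_assoc]
  have e2 := e1 a b c c' hc hc'
  rw [W_comm h a b, Matrix.mul_smul, e1 b a c' c hc' hc, W_comm h (f a) (f b), Matrix.smul_mul, smul_smul,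
    smul_smul, mul_comm c' c] at e2
  have e3 := smul_left_injective F (fun q => W_ne_zero h (f b)
    ((isUnit_W h (f a)).mul_left_eq_zero.mp (hM.mul_left_eq_zero.mp q))) e2
  have e4 : pw ω (sg a b) = pw ω (sg (f a) (f b)) :=
    mul_right_cancel₀ (mul_ne_zero hc0 hc0') (e3.trans (mul_comm _ _))
  exact (pw_injective h e4).symm

end Cfsg.Agent.Classical.TriFrame
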