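/-
Coordinates for an extraspecial group of order 243 in degree nine.
-/
import Cfsg.Agent.Lib.Classical.TriFrame.Model
import Cfsg.Agent.Lib.Classical.SymplecticClassTwo

set_option autoImplicit false
set_option linter.unusedSectionVars false
set_option linter.style.haveILetI false

namespace Cfsg.Agent.Classical.TriFrame

open Matrix Kronecker Cfsg.Geo
open Cfsg.Agent.Classical
open Cfsg.Agent.Classical.LinThree.Hess

universe u

variable {F : Type u} [Field F] [Fintype F]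

theorem W_cube {ω : F} (h : Om ω) (a : Ix) : W ω a * W ω a * W ω a = 1 := by
  rw [W_mul h, Matrix.smul_mul, W_mul h, smul_smul, ← pw_add h,
    show a + a + a = 0 from (show ∀ a : Ix, a + a + a = 0 by decide +kernel) a, W_zero,
    show a.1.2 * a.1.1 + a.2.2 * a.2.1 + ((a + a).1.2 * a.1.1 + (a + a).2.2 * a.2.1) = 0 from
      (show ∀ a : Ix, a.1.2 * a.1.1 + a.2.2 * a.2.1 + ((a + a).1.2 * a.1.1 + (a + a).2.2 * a.2.1) = 0 by
        decide +kernel) a, pw_zero, one_smul]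

/-- **Coordinates.** -/
theorem exists_coords9 {R : Subgroup (GL (Fin 9) F)} (hexp : ∀ g ∈ R, g ^ 3 = 1)
    (hsc : ∀ x ∈ R, ∀ y ∈ R, x * y * x⁻¹ * y⁻¹ ∈ scalars (Fin 9) F)
    (habs : ActsAbsolutelyIrreducibly (matrixSet R)) (h3 : (3 : F) ≠ 0) (hcard : Nat.card R = 243)
    (hZ : Nat.card (Subgroup.center R) = 3) :
    ∃ (ω : F) (Pm : Matrix (Fin 9) P9 F) (Qm : Matrix P9 (Fin 9) F), Om ω ∧ Qm * Pm = 1 ∧ Pm * Qm = 1 ∧
      ∀ g : GL (Fin 9) F, g ∈ R ↔ ∃ c a, Qm * (g : Matrix (Fin 9) (Fin 9) F) * Pm = pw ω c • W ω a := by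
  classical
  haveI : Fact (Nat.Prime 3) := ⟨Nat.prime_three⟩
  haveI : Nonempty (Fin 9) := ⟨0⟩
  have hsval : ∀ {g : GL (Fin 9) F}, g ∈ scalars (Fin 9) F →
      ∃ c : F, c ≠ 0 ∧ (g : Matrix (Fin 9) (Fin 9) F) = c • (1 : Matrix (Fin 9) (Fin 9) F) := by
    intro g hg
    obtain ⟨c, hc⟩ := (mem_scalars_iff _).mp hg
    exact ⟨(c : F), c.ne_zero, hc⟩
  have hcube : ∀ {g : GL (Fin 9) F}, g ∈ R →
      (g : Matrix (Fin 9) (Fin 9) F) * (g : Matrix (Fin 9) (Fin 9) F) * (g : Matrix (Fin 9) (Fin 9) F) = 1 := by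
    intro g hg
    rw [← Units.val_mul, ← Units.val_mul, show g * g * g = g ^ 3 by rw [pow_succ, pow_two], hexp g hg, Units.val_one]
  have hcube' : ∀ {g : GL (Fin 9) F} {c : F}, g ∈ R → (g : Matrix (Fin 9) (Fin 9) F) = c • (1 : Matrix (Fin 9) (Fin 9) F) →
      c * c * c = 1 := by
    intro g c hg e
    have := congrFun (congrFun (hcube hg) 0) 0
    simp [e] at this
    linear_combination this
  -- twists
  have htw : ∀ {x y : GL (Fin 9) F}, x ∈ R → y ∈ R → ∃ c : F, c * c * c = 1 ∧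
      (x : Matrix (Fin 9) (Fin 9) F) * (y : Matrix (Fin 9) (Fin 9) F) =
        c • ((y : Matrix (Fin 9) (Fin 9) F) * (x : Matrix (Fin 9) (Fin 9) F)) := by
    intro x y hx hy
    obtain ⟨c, -, hc⟩ := hsval (hsc x hx y hy)
    refine ⟨c, hcube' (R.mul_mem (R.mul_mem (R.mul_mem hx hy) (R.inv_mem hx)) (R.inv_mem hy)) hc, ?_⟩
    rw [← Units.val_mul, ← Units.val_mul, show x * y = x * y * x⁻¹ * y⁻¹ * (y * x) by group, Units.val_mul, hc,
      Matrix.smul_mul, Matrix.one_mul]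
  have hne : Subgroup.center R ≠ ⊤ := fun h => by
    rw [h, Subgroup.card_top, hcard] at hZ
    omega
  obtain ⟨a1, ha1, b1, hb1, hab⟩ : ∃ a ∈ R, ∃ b ∈ R, a * b ≠ b * a := by
    by_contra h
    push Not at h
    exact hne (eq_top_iff.mpr fun a _ => Subgroup.mem_center_iff.mpr fun b => Subtype.ext (h b b.2 a a.2))
  obtain ⟨ω, hω3, hω⟩ := htw ha1 hb1
  have hω1 : ω ≠ 1 := fun e => hab (Units.ext (by rw [Units.val_mul, Units.val_mul, hω, e, one_smul]))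
  have hroot : ω * ω + ω + 1 = 0 := by
    have h : (ω - 1) * (ω * ω + ω + 1) = 0 := by linear_combination hω3
    exact (mul_eq_zero.mp h).resolve_left (sub_ne_zero.mpr hω1)
  have h : Om ω := ⟨hroot, h3⟩
  -- the scalars
  have hsm : ∀ c : Fin 3, ∃ z ∈ R, (z : Matrix (Fin 9) (Fin 9) F) = pw ω c • (1 : Matrix (Fin 9) (Fin 9) F) := by
    have e : ((a1 * b1 * a1⁻¹ * b1⁻¹ : GL (Fin 9) F) : Matrix (Fin 9) (Fin 9) F) = ω • (1 : Matrix (Fin 9) (Fin 9) F) := by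
      refine (b1 * a1).isUnit.mul_right_cancel ?_
      rw [← Units.val_mul, show a1 * b1 * a1⁻¹ * b1⁻¹ * (b1 * a1) = a1 * b1 by group, Units.val_mul, hω, Matrix.smul_mul,
        Matrix.one_mul, Units.val_mul]
    intro c
    refine ⟨(a1 * b1 * a1⁻¹ * b1⁻¹) ^ (c : ℕ), R.pow_mem (R.mul_mem (R.mul_mem (R.mul_mem ha1 hb1) (R.inv_mem ha1))
      (R.inv_mem hb1)) _, ?_⟩
    rw [Units.val_pow_eq_pow_val, e, smul_pow, one_pow]
    rfl
  -- the centraliser of the first pair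
  have hadj : ∀ r ∈ R, ∃ (i k : Fin 3), ∀ u, u = a1 ∨ u = b1 →
      ((r * a1 ^ (i : ℕ) * b1 ^ (k : ℕ) : GL (Fin 9) F) : Matrix (Fin 9) (Fin 9) F) * (u : Matrix (Fin 9) (Fin 9) F) =
        (u : Matrix (Fin 9) (Fin 9) F) * ((r * a1 ^ (i : ℕ) * b1 ^ (k : ℕ) : GL (Fin 9) F) : Matrix (Fin 9) (Fin 9) F) := by
    intro r hr
    obtain ⟨s, hs3, hs⟩ := htw hr ha1
    obtain ⟨t, ht3, ht⟩ := htw hr hb1
    obtain ⟨ms, rfl⟩ := pw_exists h hs3
    obtain ⟨mt, rfl⟩ := pw_exists h ht3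
    have hba : (b1 : Matrix (Fin 9) (Fin 9) F) * (a1 : Matrix (Fin 9) (Fin 9) F) =
        (ω * ω) • ((a1 : Matrix (Fin 9) (Fin 9) F) * (b1 : Matrix (Fin 9) (Fin 9) F)) := by
      rw [hω, smul_smul, hω3, one_smul]
    have hpow : ∀ (X Y : Matrix (Fin 9) (Fin 9) F) (c : F), X * Y = c • (Y * X) → ∀ n : ℕ, X ^ n * Y = c ^ n • (Y * X ^ n) := by
      intro X Y c e n
      induction n with
      | zero => simp
      | succ n ih =>
        rw [pow_succ, Matrix.mul_assoc, e, Matrix.mul_smul, ← Matrix.mul_assoc, ih, Matrix.smul_mul, smul_smul,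
          Matrix.mul_assoc, pow_succ']
    have hw : ∀ (n : ℕ) (m : Fin 3), n % 3 = m.val → ω ^ n = pw ω m := by
      intro n m e
      rw [pw, ← Nat.div_add_mod n 3, pow_add, pow_mul, show ω ^ 3 = 1 by linear_combination hω3, one_pow, one_mul, e]
    refine ⟨-mt, ms, fun u hu => ?_⟩
    rw [Units.val_mul, Units.val_mul, Units.val_pow_eq_pow_val, Units.val_pow_eq_pow_val]
    rcases hu with rfl | rfl
    · rw [Matrix.mul_assoc _ _ (u : Matrix (Fin 9) (Fin 9) F), hpow _ _ _ hba, Matrix.mul_smul, ← Matrix.mul_assoc,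
        Matrix.mul_assoc (r : Matrix (Fin 9) (Fin 9) F), ((Commute.refl (u : Matrix (Fin 9) (Fin 9) F)).pow_left _).eq,
        ← Matrix.mul_assoc, hs, Matrix.smul_mul, Matrix.smul_mul, smul_smul,
        show (ω * ω) ^ (ms : ℕ) * pw ω ms = 1 by
          rw [pw, ← mul_pow, hω3, one_pow], one_smul]
      simp only [Matrix.mul_assoc]
    · rw [Matrix.mul_assoc _ _ (u : Matrix (Fin 9) (Fin 9) F), ((Commute.refl (u : Matrix (Fin 9) (Fin 9) F)).pow_left _).eq,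
        ← Matrix.mul_assoc, Matrix.mul_assoc (r : Matrix (Fin 9) (Fin 9) F), hpow _ _ _ hω, Matrix.mul_smul,
        ← Matrix.mul_assoc, ht]
      simp only [Matrix.smul_mul, smul_smul]
      rw [show ω ^ ((-mt : Fin 3) : ℕ) * pw ω mt = (1 : F) from
          (show pw ω (-mt) * pw ω mt = (1 : F) by rw [← pw_add h, neg_add_cancel, pw_zero])]
      first
        | (rw [one_smul]; simp only [Matrix.mul_assoc])
        | simp [Matrix.mul_assoc]
  -- the second pair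
  obtain ⟨a2, ha2, b2, hb2, ha2a, ha2b, hb2a, hb2b, hω2⟩ : ∃ a2 ∈ R, ∃ b2 ∈ R,
      (a2 : Matrix (Fin 9) (Fin 9) F) * (a1 : Matrix (Fin 9) (Fin 9) F) = (a1 : Matrix (Fin 9) (Fin 9) F) * (a2 : Matrix (Fin 9) (Fin 9) F) ∧
      (a2 : Matrix (Fin 9) (Fin 9) F) * (b1 : Matrix (Fin 9) (Fin 9) F) = (b1 : Matrix (Fin 9) (Fin 9) F) * (a2 : Matrix (Fin 9) (Fin 9) F) ∧
      (b2 : Matrix (Fin 9) (Fin 9) F) * (a1 : Matrix (Fin 9) (Fin 9) F) = (a1 : Matrix (Fin 9) (Fin 9) F) * (b2 : Matrix (Fin 9) (Fin 9) F) ∧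
      (b2 : Matrix (Fin 9) (Fin 9) F) * (b1 : Matrix (Fin 9) (Fin 9) F) = (b1 : Matrix (Fin 9) (Fin 9) F) * (b2 : Matrix (Fin 9) (Fin 9) F) ∧
      (a2 : Matrix (Fin 9) (Fin 9) F) * (b2 : Matrix (Fin 9) (Fin 9) F) =
        ω • ((b2 : Matrix (Fin 9) (Fin 9) F) * (a2 : Matrix (Fin 9) (Fin 9) F)) := by
    obtain ⟨Cs, hCs⟩ : ∃ Cs : Set (GL (Fin 9) F), ∀ u, u ∈ Cs ↔ u ∈ R ∧
        (u : Matrix (Fin 9) (Fin 9) F) * (a1 : Matrix (Fin 9) (Fin 9) F) = (a1 : Matrix (Fin 9) (Fin 9) F) * (u : Matrix (Fin 9) (Fin 9) F) ∧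
        (u : Matrix (Fin 9) (Fin 9) F) * (b1 : Matrix (Fin 9) (Fin 9) F) = (b1 : Matrix (Fin 9) (Fin 9) F) * (u : Matrix (Fin 9) (Fin 9) F) :=
      ⟨{u | _}, fun u => Iff.rfl⟩
    choose i k hik using hadj
    have hmemC : ∀ r (hr : r ∈ R), r * a1 ^ (i r hr : ℕ) * b1 ^ (k r hr : ℕ) ∈ Cs := fun r hr =>
      (hCs _).mpr ⟨R.mul_mem (R.mul_mem hr (R.pow_mem ha1 _)) (R.pow_mem hb1 _), hik r hr a1 (Or.inl rfl),
        hik r hr b1 (Or.inr rfl)⟩
    obtain ⟨x, hx, y, hy, hxy⟩ : ∃ x ∈ Cs, ∃ y ∈ Cs, x * y ≠ y * x := by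
      by_contra hcon
      push Not at hcon
      -- then they are all scalars and the group is too small
      have hscal : ∀ u ∈ Cs, ∃ c : Fin 3, (u : Matrix (Fin 9) (Fin 9) F) = pw ω c • (1 : Matrix (Fin 9) (Fin 9) F) := by
        intro u hu
        obtain ⟨huR, hua, hub⟩ := (hCs u).mp hu
        have hca : Commute (u : Matrix (Fin 9) (Fin 9) F) (a1 : Matrix (Fin 9) (Fin 9) F) := hua
        have hcb : Commute (u : Matrix (Fin 9) (Fin 9) F) (b1 : Matrix (Fin 9) (Fin 9) F) := hub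
        obtain ⟨c, hc⟩ := habs.2 (u : Matrix (Fin 9) (Fin 9) F) (by
          rintro _ ⟨r, hr, rfl⟩
          show (u : Matrix (Fin 9) (Fin 9) F) * (r : Matrix (Fin 9) (Fin 9) F) = (r : Matrix (Fin 9) (Fin 9) F) * (u : Matrix (Fin 9) (Fin 9) F)
          have e := hcon u hu _ (hmemC r hr)
          have e' := congrArg Units.val e
          simp only [Units.val_mul, Units.val_pow_eq_pow_val] at e'
          have hP : Commute (u : Matrix (Fin 9) (Fin 9) F)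
              ((a1 : Matrix (Fin 9) (Fin 9) F) ^ (i r hr : ℕ) * (b1 : Matrix (Fin 9) (Fin 9) F) ^ (k r hr : ℕ)) :=
            (hca.pow_right _).mul_right (hcb.pow_right _)
          have hfin : (u : Matrix (Fin 9) (Fin 9) F) * (r : Matrix (Fin 9) (Fin 9) F) *
              ((a1 : Matrix (Fin 9) (Fin 9) F) ^ (i r hr : ℕ) * (b1 : Matrix (Fin 9) (Fin 9) F) ^ (k r hr : ℕ)) =
              (r : Matrix (Fin 9) (Fin 9) F) * (u : Matrix (Fin 9) (Fin 9) F) *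
              ((a1 : Matrix (Fin 9) (Fin 9) F) ^ (i r hr : ℕ) * (b1 : Matrix (Fin 9) (Fin 9) F) ^ (k r hr : ℕ)) := by
            rw [Matrix.mul_assoc (r : Matrix (Fin 9) (Fin 9) F) (u : Matrix (Fin 9) (Fin 9) F), hP.eq]
            simp only [Matrix.mul_assoc] at e' ⊢
            exact e'
          exact ((a1.isUnit.pow _).mul (b1.isUnit.pow _)).mul_right_cancel hfin)
        obtain ⟨c', hc'⟩ := pw_exists h (hcube' huR hc)
        exact ⟨c', by rw [hc, hc']⟩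
      obtain ⟨Φ, hΦ⟩ : ∃ Φ : R → Fin 3 × (Fin 3 × Fin 3), ∀ r : R, ((r : GL (Fin 9) F) : Matrix (Fin 9) (Fin 9) F) *
          ((a1 : Matrix (Fin 9) (Fin 9) F) ^ ((Φ r).2.1 : ℕ) * (b1 : Matrix (Fin 9) (Fin 9) F) ^ ((Φ r).2.2 : ℕ)) =
            pw ω (Φ r).1 • (1 : Matrix (Fin 9) (Fin 9) F) := by
        choose c hc using fun r : R => hscal _ (hmemC r.1 r.2)
        refine ⟨fun r => (c r, (i r.1 r.2, k r.1 r.2)), fun r => ?_⟩
        have := hc r
        rwa [Units.val_mul, Units.val_mul, Units.val_pow_eq_pow_val, Units.val_pow_eq_pow_val, Matrix.mul_assoc] at this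
      have hinj : Function.Injective Φ := fun r r' e => by
        have e1 := hΦ r
        rw [e, ← hΦ r'] at e1
        exact Subtype.ext (Units.ext (((a1.isUnit.pow _).mul (b1.isUnit.pow _)).mul_right_cancel e1))
      have := Nat.card_le_card_of_injective Φ hinj
      rw [hcard] at this
      simp at this
    obtain ⟨hxR, hxa, hxb⟩ := (hCs x).mp hx
    obtain ⟨hyR, hya, hyb⟩ := (hCs y).mp hy
    obtain ⟨c, hc3, hc⟩ := htw hxR hyR
    obtain ⟨m, rfl⟩ := pw_exists h hc3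
    fin_cases m
    · exact absurd (Units.ext (by rw [Units.val_mul, Units.val_mul, hc]; simp [pw_zero])) hxy
    · exact ⟨x, hxR, y, hyR, hxa, hxb, hya, hyb, by rw [hc]; simp [pw_one_val]⟩
    · refine ⟨y, hyR, x, hxR, hya, hyb, hxa, hxb, ?_⟩
      rw [hc, smul_smul]
      simp [pw, pow_two, ← mul_assoc, hω3]
  -- a common eigenvector
  have heig : ∀ A : Matrix (Fin 9) (Fin 9) F, A * A * A = 1 → ∀ v : Fin 9 → F, v ≠ 0 →
      ∃ (c : Fin 3) (w : Fin 9 → F), w ≠ 0 ∧ A *ᵥ w = pw ω c • w ∧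
        ∃ d e g : F, w = d • v + e • (A *ᵥ v) + g • (A *ᵥ (A *ᵥ v)) := by
    intro A hA v hv
    by_cases h1 : A *ᵥ v = v
    · exact ⟨0, v, hv, by rw [pw_zero, one_smul, h1], 1, 0, 0, by simp⟩
    obtain ⟨w, hw⟩ : ∃ w, w = A *ᵥ v - v := ⟨_, rfl⟩
    have hw0 : w ≠ 0 := hw ▸ sub_ne_zero.mpr h1
    by_cases h2 : A *ᵥ w = ω • w
    · exact ⟨1, w, hw0, by rw [pw_one_val, h2], -1, 1, 0, by rw [hw]; module⟩
    refine ⟨2, A *ᵥ w - ω • w, sub_ne_zero.mpr h2, ?_, ω, -1 - ω, 1, ?_⟩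
    · have h3' : A *ᵥ (A *ᵥ (A *ᵥ v)) = v := by rw [Matrix.mulVec_mulVec, Matrix.mulVec_mulVec, hA, Matrix.one_mulVec]
      rw [pw_two_val, hw]
      simp only [Matrix.mulVec_sub, Matrix.mulVec_smul, h3', smul_sub, smul_smul]
      match_scalars <;> grind
    · rw [hw]
      simp only [Matrix.mulVec_sub]
      module
  obtain ⟨m1, v0, hv0, hv0a, -⟩ := heig _ (hcube ha1) (Pi.single 0 1)
    (fun e => one_ne_zero (α := F) (by simpa using congrFun e 0))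
  obtain ⟨m2, v, hv, hva2, d, e, g, hvc⟩ := heig _ (hcube ha2) v0 hv0
  have hva1 : (a1 : Matrix (Fin 9) (Fin 9) F) *ᵥ v = pw ω m1 • v := by
    have hc : ∀ w, (a1 : Matrix (Fin 9) (Fin 9) F) *ᵥ w = pw ω m1 • w →
        (a1 : Matrix (Fin 9) (Fin 9) F) *ᵥ ((a2 : Matrix (Fin 9) (Fin 9) F) *ᵥ w) = pw ω m1 • ((a2 : Matrix (Fin 9) (Fin 9) F) *ᵥ w) :=
      fun w hw => by rw [Matrix.mulVec_mulVec, ← ha2a, ← Matrix.mulVec_mulVec, hw, Matrix.mulVec_smul]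
    rw [hvc, Matrix.mulVec_add, Matrix.mulVec_add, Matrix.mulVec_smul, Matrix.mulVec_smul, Matrix.mulVec_smul, hv0a,
      hc v0 hv0a, hc _ (hc v0 hv0a), smul_comm d, smul_comm e, smul_comm g, ← smul_add, ← smul_add]
  obtain ⟨z1, hz1, hz1v⟩ := hsm (-m1)
  obtain ⟨z2, hz2, hz2v⟩ := hsm (-m2)
  obtain ⟨A1, hA1⟩ : ∃ A1, A1 = ((z1 * a1 : GL (Fin 9) F) : Matrix (Fin 9) (Fin 9) F) := ⟨_, rfl⟩
  obtain ⟨A2, hA2⟩ : ∃ A2, A2 = ((z2 * a2 : GL (Fin 9) F) : Matrix (Fin 9) (Fin 9) F) := ⟨_, rfl⟩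
  obtain ⟨B1, hB1⟩ : ∃ B1, B1 = (b1 : Matrix (Fin 9) (Fin 9) F) := ⟨_, rfl⟩
  obtain ⟨B2, hB2⟩ : ∃ B2, B2 = (b2 : Matrix (Fin 9) (Fin 9) F) := ⟨_, rfl⟩
  have hA1' : A1 = pw ω (-m1) • (a1 : Matrix (Fin 9) (Fin 9) F) := by
    rw [hA1, Units.val_mul, hz1v, Matrix.smul_mul, Matrix.one_mul]
  have hA2' : A2 = pw ω (-m2) • (a2 : Matrix (Fin 9) (Fin 9) F) := by
    rw [hA2, Units.val_mul, hz2v, Matrix.smul_mul, Matrix.one_mul]
  have e1 : A1 *ᵥ v = v := by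
    rw [hA1', Matrix.smul_mulVec, hva1, smul_smul, ← pw_add h, neg_add_cancel, pw_zero, one_smul]
  have e2 : A2 *ᵥ v = v := by
    rw [hA2', Matrix.smul_mulVec, hva2, smul_smul, ← pw_add h, neg_add_cancel, pw_zero, one_smul]
  have r1 : A1 * B1 = ω • (B1 * A1) := by
    rw [hA1', hB1, Matrix.smul_mul, hω, Matrix.mul_smul, smul_comm]
  have r2 : A2 * B2 = ω • (B2 * A2) := by
    rw [hA2', hB2, Matrix.smul_mul, hω2, Matrix.mul_smul, smul_comm]
  have r3 : A1 * B2 = B2 * A1 := by rw [hA1', hB2, Matrix.smul_mul, ← hb2a, Matrix.mul_smul]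
  have r4 : A2 * B1 = B1 * A2 := by rw [hA2', hB1, Matrix.smul_mul, ha2b, Matrix.mul_smul]
  have r5 : B2 * B1 = B1 * B2 := by rw [hB1, hB2, hb2b]
  have hB1c : B1 * B1 * B1 = 1 := hB1 ▸ hcube hb1
  have hB2c : B2 * B2 * B2 = 1 := hB2 ▸ hcube hb2
  obtain ⟨Pm, hPm⟩ : ∃ Pm : Matrix (Fin 9) P9 F, ∀ x, Pm *ᵥ Pi.single x 1 = (B1 ^ (x.1 : ℕ) * B2 ^ (x.2 : ℕ)) *ᵥ v :=
    ⟨Matrix.of fun r x => ((B1 ^ (x.1 : ℕ) * B2 ^ (x.2 : ℕ)) *ᵥ v) r, fun x => by
      rw [Matrix.mulVec_single_one]; rfl⟩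
  have hp3 : ∀ (X : Matrix (Fin 9) (Fin 9) F), X * X * X = 1 → ∀ i : Fin 3, X * X ^ (i : ℕ) = X ^ ((i + 1 : Fin 3) : ℕ) := by
    intro X hX i
    fin_cases i
    · simp
    · simp [pow_two]
    · simpa [pow_two, ← Matrix.mul_assoc] using hX
  -- the four generators in the new coordinates
  have hgen : ∀ (M : Matrix (Fin 9) (Fin 9) F) (N : Matrix P9 P9 F), (∀ x, M *ᵥ (Pm *ᵥ Pi.single x 1) = Pm *ᵥ (N *ᵥ Pi.single x 1)) →
      M * Pm = Pm * N := fun M N hMN => Matrix.ext_of_mulVec_single fun x => by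
    rw [← Matrix.mulVec_mulVec, ← Matrix.mulVec_mulVec]; exact hMN x
  have hcomm1 : ∀ (X Y : Matrix (Fin 9) (Fin 9) F) (c : F), X * Y = c • (Y * X) → ∀ n : ℕ, X * Y ^ n = c ^ n • (Y ^ n * X) := by
    intro X Y c e n
    induction n with
    | zero => simp
    | succ n ih =>
      rw [pow_succ, ← Matrix.mul_assoc, ih, Matrix.smul_mul, Matrix.mul_assoc, e, Matrix.mul_smul, smul_smul,
        ← Matrix.mul_assoc, pow_succ]
  have hW1 : ∀ x : P9, W ω (((0, 1), 0) : Ix) *ᵥ Pi.single x 1 = pw ω x.1 • Pi.single x 1 := by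
    rintro ⟨a, b⟩
    rw [W, rm_zero]
    funext ⟨i, k⟩
    fin_cases a <;> fin_cases b <;> fin_cases i <;> fin_cases k <;>
      simp [rm, mono, pw_zero, fin_three_facts, Matrix.one_apply, kroneckerMap_apply]
  have hW2 : ∀ x : P9, W ω ((0, (0, 1)) : Ix) *ᵥ Pi.single x 1 = pw ω x.2 • Pi.single x 1 := by
    rintro ⟨a, b⟩
    rw [W, rm_zero]
    funext ⟨i, k⟩
    fin_cases a <;> fin_cases b <;> fin_cases i <;> fin_cases k <;>
      simp [rm, mono, pw_zero, fin_three_facts, Matrix.one_apply, kroneckerMap_apply]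
  have hW3 : ∀ x : P9, W ω (((1, 0), 0) : Ix) *ᵥ Pi.single x 1 = Pi.single (x.1 + 1, x.2) 1 := by
    rintro ⟨a, b⟩
    rw [W, rm_zero]
    funext ⟨i, k⟩
    fin_cases a <;> fin_cases b <;> fin_cases i <;> fin_cases k <;>
      simp [rm, mono, pw_zero, fin_three_facts, Matrix.one_apply, kroneckerMap_apply]
  have hW4 : ∀ x : P9, W ω ((0, (1, 0)) : Ix) *ᵥ Pi.single x 1 = Pi.single (x.1, x.2 + 1) 1 := by
    rintro ⟨a, b⟩
    rw [W, rm_zero]
    funext ⟨i, k⟩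
    fin_cases a <;> fin_cases b <;> fin_cases i <;> fin_cases k <;>
      simp [rm, mono, pw_zero, fin_three_facts, Matrix.one_apply, kroneckerMap_apply]
  have g1 : A1 * Pm = Pm * W ω (((0, 1), 0) : Ix) := hgen _ _ fun x => by
    rw [hW1, Matrix.mulVec_smul, hPm, Matrix.mulVec_mulVec, ← Matrix.mul_assoc, hcomm1 _ _ _ r1, Matrix.smul_mul,
      Matrix.mul_assoc, ((show Commute A1 B2 from r3).pow_right _).eq, ← Matrix.mul_assoc, Matrix.smul_mulVec,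
      ← Matrix.mulVec_mulVec, e1]
    rfl
  have g2 : A2 * Pm = Pm * W ω ((0, (0, 1)) : Ix) := hgen _ _ fun x => by
    rw [hW2, Matrix.mulVec_smul, hPm, Matrix.mulVec_mulVec, ← Matrix.mul_assoc, ((show Commute A2 B1 from r4).pow_right _).eq,
      Matrix.mul_assoc, hcomm1 _ _ _ r2, Matrix.mul_smul, ← Matrix.mul_assoc, Matrix.smul_mulVec,
      ← Matrix.mulVec_mulVec, e2]
    rfl
  have g3 : B1 * Pm = Pm * W ω (((1, 0), 0) : Ix) := hgen _ _ fun x => by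
    rw [hW3, hPm, hPm, Matrix.mulVec_mulVec, ← Matrix.mul_assoc, hp3 _ hB1c]
  have g4 : B2 * Pm = Pm * W ω ((0, (1, 0)) : Ix) := hgen _ _ fun x => by
    rw [hW4, hPm, hPm, Matrix.mulVec_mulVec, ← Matrix.mul_assoc, ((show Commute B2 B1 from r5).pow_right _).eq,
      Matrix.mul_assoc, hp3 _ hB2c]
  -- an element of the group for every index
  have hall : ∀ a : Ix, ∃ (r : GL (Fin 9) F) (c : Fin 3), r ∈ R ∧
      (r : Matrix (Fin 9) (Fin 9) F) * Pm = Pm * (pw ω c • W ω a) := by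
    obtain ⟨T, hTd⟩ : ∃ T : Set Ix, ∀ a, a ∈ T ↔ ∃ (r : GL (Fin 9) F) (c : Fin 3), r ∈ R ∧
        (r : Matrix (Fin 9) (Fin 9) F) * Pm = Pm * (pw ω c • W ω a) := ⟨{a | _}, fun _ => Iff.rfl⟩
    have hadd : ∀ a b, a ∈ T → b ∈ T → a + b ∈ T := by
      intro a b ha hb
      obtain ⟨r, c, hr, e⟩ := (hTd a).mp ha
      obtain ⟨r', c', hr', e'⟩ := (hTd b).mp hb
      refine (hTd _).mpr ⟨r * r', c + c' + (a.1.2 * b.1.1 + a.2.2 * b.2.1), R.mul_mem hr hr', ?_⟩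
      rw [Units.val_mul, Matrix.mul_assoc, e', ← Matrix.mul_assoc, e, Matrix.mul_assoc, Matrix.smul_mul,
        Matrix.mul_smul (W ω a) (pw ω c') (W ω b), W_mul h, smul_smul, smul_smul, ← pw_add h, ← pw_add h, ← add_assoc]
    have t1 : (((0, 1), 0) : Ix) ∈ T := (hTd _).mpr ⟨z1 * a1, 0, R.mul_mem hz1 ha1, by rw [← hA1, g1, pw_zero, one_smul]⟩
    have t2 : ((0, (0, 1)) : Ix) ∈ T := (hTd _).mpr ⟨z2 * a2, 0, R.mul_mem hz2 ha2, by rw [← hA2, g2, pw_zero, one_smul]⟩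
    have t3 : (((1, 0), 0) : Ix) ∈ T := (hTd _).mpr ⟨b1, 0, hb1, by rw [← hB1, g3, pw_zero, one_smul]⟩
    have t4 : ((0, (1, 0)) : Ix) ∈ T := (hTd _).mpr ⟨b2, 0, hb2, by rw [← hB2, g4, pw_zero, one_smul]⟩
    have t0 : (0 : Ix) ∈ T := (hTd _).mpr ⟨1, 0, R.one_mem, by rw [Units.val_one, Matrix.one_mul, pw_zero, one_smul, W_zero, Matrix.mul_one]⟩
    have hn : ∀ (e : Ix), e ∈ T → ∀ n : ℕ, n • e ∈ T := fun e he n => by
      induction n with
      | zero => rw [zero_smul]; exact t0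
      | succ n ih => rw [succ_nsmul]; exact hadd _ _ ih he
    intro a
    refine (hTd a).mp ?_
    rw [show a = (a.1.1 : ℕ) • (((1, 0), 0) : Ix) + (a.1.2 : ℕ) • (((0, 1), 0) : Ix) +
      (a.2.1 : ℕ) • ((0, (1, 0)) : Ix) + (a.2.2 : ℕ) • ((0, (0, 1)) : Ix) from
      (show ∀ a : Ix, a = (a.1.1 : ℕ) • (((1, 0), 0) : Ix) + (a.1.2 : ℕ) • (((0, 1), 0) : Ix) +
        (a.2.1 : ℕ) • ((0, (1, 0)) : Ix) + (a.2.2 : ℕ) • ((0, (0, 1)) : Ix) by decide +kernel) a]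
    exact hadd _ _ (hadd _ _ (hadd _ _ (hn _ t3 _) (hn _ t1 _)) (hn _ t4 _)) (hn _ t2 _)
  -- the columns are independent
  have hinjP : Function.Injective Pm.mulVec := by
    intro u w e
    obtain ⟨d, hd⟩ : ∃ d, d = u - w := ⟨_, rfl⟩
    have hd0 : Pm *ᵥ d = 0 := by rw [hd, Matrix.mulVec_sub, sub_eq_zero]; exact e
    have hspan : ∀ M ∈ Submodule.span F (Set.range (W ω)), Pm *ᵥ (M *ᵥ d) = 0 := by
      intro M hM
      induction hM using Submodule.span_induction with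
      | mem M hM =>
        obtain ⟨a, rfl⟩ := hM
        obtain ⟨r, c, -, er⟩ := hall a
        have := congrArg (fun M => M *ᵥ d) er
        simp only [← Matrix.mulVec_mulVec, hd0, Matrix.mulVec_zero, Matrix.smul_mulVec, Matrix.mulVec_smul] at this
        exact (smul_eq_zero.mp this.symm).resolve_left (pw_ne_zero h c)
      | zero => simp
      | add M N _ _ hM hN => rw [Matrix.add_mulVec, Matrix.mulVec_add, hM, hN, add_zero]
      | smul c M _ hM => rw [Matrix.smul_mulVec, Matrix.mulVec_smul, hM, smul_zero]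
    by_contra hne
    obtain ⟨x, hx⟩ : ∃ x, d x ≠ 0 := Function.ne_iff.mp (show d ≠ 0 from hd ▸ sub_ne_zero.mpr hne)
    have hz := hspan (Matrix.single (0, 0) x ((d x)⁻¹)) (by rw [span_W h]; exact Submodule.mem_top)
    rw [Matrix.single_mulVec] at hz
    have e0 : (Function.update (0 : P9 → F) (0, 0) ((d x)⁻¹ * d x)) = Pi.single (0, 0) 1 := by
      rw [inv_mul_cancel₀ hx]; rfl
    rw [e0, hPm] at hz
    simp at hz
    exact hv hz
  obtain ⟨e9, -⟩ : ∃ e : P9 ≃ Fin 9, True := ⟨Fintype.equivFinOfCardEq (by simp), trivial⟩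
  obtain ⟨Ps, hPs⟩ : ∃ Ps : Matrix (Fin 9) (Fin 9) F, Ps = Pm.submatrix id e9.symm := ⟨_, rfl⟩
  have hPsv : ∀ w, Ps *ᵥ w = Pm *ᵥ (w ∘ e9) := fun w => by
    rw [hPs, Matrix.submatrix_mulVec_equiv]; rfl
  have hPsu : IsUnit Ps.det := by
    rw [← Matrix.isUnit_iff_isUnit_det, ← Matrix.mulVec_injective_iff_isUnit]
    intro u w e
    rw [hPsv, hPsv] at e
    funext i
    simpa using congrFun (hinjP e) (e9.symm i)
  obtain ⟨Qm, hQm⟩ : ∃ Qm : Matrix P9 (Fin 9) F, Qm = (Ps⁻¹).submatrix e9 id := ⟨_, rfl⟩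
  have hPQ : Pm * Qm = 1 := by
    rw [hQm, show Pm = Ps.submatrix id e9 by rw [hPs, Matrix.submatrix_submatrix]; simp, Matrix.submatrix_mul_equiv,
      Matrix.mul_nonsing_inv _ hPsu]
    simp
  have hQP : Qm * Pm = 1 := by
    rw [hQm, show Pm = Ps.submatrix id e9 by rw [hPs, Matrix.submatrix_submatrix]; simp,
      show (Ps⁻¹).submatrix e9 id * Ps.submatrix id e9 = (Ps⁻¹ * Ps).submatrix e9 e9 from
        (Matrix.submatrix_mul _ _ e9 id e9 Function.bijective_id).symm, Matrix.nonsing_inv_mul _ hPsu,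
      Matrix.submatrix_one_equiv]
  refine ⟨ω, Pm, Qm, h, hQP, hPQ, ?_⟩
  choose r c hr hrc using hall
  choose z hz hzv using hsm
  have hval : ∀ (i : Fin 3) (a : Ix),
      Qm * ((z (i - c a) * r a : GL (Fin 9) F) : Matrix (Fin 9) (Fin 9) F) * Pm = pw ω i • W ω a := fun i a => by
    rw [Units.val_mul, hzv, Matrix.smul_mul, Matrix.one_mul, Matrix.mul_smul, Matrix.smul_mul, Matrix.mul_assoc, hrc,
      Matrix.mul_smul, Matrix.mul_smul, ← Matrix.mul_assoc, hQP, Matrix.one_mul, smul_smul, ← pw_add h, sub_add_cancel]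
  obtain ⟨f, hf⟩ : ∃ f : Fin 3 × Ix → R, ∀ q, (f q : GL (Fin 9) F) = z (q.1 - c q.2) * r q.2 :=
    ⟨fun q => ⟨_, R.mul_mem (hz _) (hr _)⟩, fun _ => rfl⟩
  have hfi : Function.Injective f := fun q q' e => by
    have e' := hval q.1 q.2
    rw [← hf q, e, hf q', hval] at e'
    have e2 : q'.2 = q.2 := W_inj h (c := (pw ω q'.1)⁻¹ * pw ω q.1) (by
      rw [← smul_smul, ← e', inv_smul_smul₀ (pw_ne_zero h _)])
    rw [e2] at e'
    exact Prod.ext (pw_injective h (smul_left_injective F (W_ne_zero h _) e')).symm e2.symm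
  have hfb : Function.Bijective f := (Fintype.bijective_iff_injective_and_card f).mpr ⟨hfi, by
    rw [← Nat.card_eq_fintype_card (α := R), hcard]; simp⟩
  intro g
  constructor
  · intro hg
    obtain ⟨q, hq⟩ := hfb.2 ⟨g, hg⟩
    refine ⟨q.1, q.2, ?_⟩
    rw [← hval, ← hf, hq]
  · rintro ⟨i, a, he⟩
    have : g = (f (i, a) : GL (Fin 9) F) := Units.ext (by
      have e' := congrArg (fun M => Pm * M * Qm) (he.trans (hval i a).symm)
      simp only [← Matrix.mul_assoc, hPQ, Matrix.one_mul] at e'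
      simp only [Matrix.mul_assoc, hPQ, Matrix.mul_one] at e'
      rw [hf]; exact e')
    rw [this]
    exact (f (i, a)).2

end Cfsg.Agent.Classical.TriFrame
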