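/-
Standard elements normalising the standard group of order 243.
-/
import Cfsg.Agent.Lib.Classical.TriFrame.Model

set_option autoImplicit false
set_option linter.unusedSectionVars false

namespace Cfsg.Agent.Classical.TriFrame

open Matrix Kronecker
open Cfsg.Agent.Classical.LinThree.Hess

variable {F : Type*} [Field F] {ω : F}

/-- `X` permutes the small frame by `f`. -/
def Acts3 (ω : F) (X : Matrix (Fin 3) (Fin 3) F) (f : Fin 3 × Fin 3 → Fin 3 × Fin 3) : Prop :=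
  ∀ e, ∃ c : F, c ≠ 0 ∧ X * rm ω e = c • (rm ω (f e) * X)

theorem Acts3.kron {A B : Matrix (Fin 3) (Fin 3) F} {f g : Fin 3 × Fin 3 → Fin 3 × Fin 3} (hA : Acts3 ω A f)
    (hB : Acts3 ω B g) : Acts ω (A ⊗ₖ B) (Prod.map f g) := fun a => by
  obtain ⟨c, hc0, hc⟩ := hA a.1
  obtain ⟨d, hd0, hd⟩ := hB a.2
  refine ⟨c * d, mul_ne_zero hc0 hd0, ?_⟩
  rw [W, W, ← mul_kronecker_mul, hc, hd, smul_kronecker, kronecker_smul, smul_smul, mul_kronecker_mul]
  rfl

theorem Acts3.one : Acts3 ω (1 : Matrix (Fin 3) (Fin 3) F) id := fun e => ⟨1, one_ne_zero, by simp⟩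

theorem Acts3.qm (h : Om ω) (k : Fin 3) : Acts3 ω (qm ω k) (act k) := fun e => by
  obtain ⟨c, hc⟩ := qm_rm h k e
  exact ⟨_, pw_ne_zero h c, hc⟩

/-- The shear, as a diagonal matrix. -/
def sh (ω : F) : Matrix (Fin 3) (Fin 3) F := mono ω id fun i => i * i

/-- The action of the shear. -/
def shf (e : Fin 3 × Fin 3) : Fin 3 × Fin 3 := (e.1, e.2 + (e.1 + e.1))

theorem Acts3.sh (h : Om ω) : Acts3 ω (sh ω) shf := fun e => by
  obtain ⟨c, hc⟩ : ∃ c : Fin 3, ∀ i : Fin 3, i - e.1 = (i - (shf e).1) ∧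
      i * i + e.2 * (i - e.1) = c + ((shf e).2 * (i - (shf e).1) + (i - (shf e).1) * (i - (shf e).1)) := by
    revert e
    decide +kernel
  refine ⟨_, pw_ne_zero h c, ?_⟩
  rw [TriFrame.sh, rm, rm, mono_mul_mono h, mono_mul_mono h]
  exact mono_smul h hc

theorem det_sh (h : Om ω) : (sh ω).det = ω * ω := by
  have := h.cube
  simp [sh, mono, Matrix.det_fin_three, pw_zero, pw_one_val]

/-- Symplectic maps of the small index set are words in the shear and the quarter turns. -/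
theorem exists_word3 : ∀ u v : Fin 3 × Fin 3, sg3 u v = sg3 (1, 0) (0, 1) → ∃ j : Fin 3, ∃ o : Option (Fin 3),
    ∃ s : Bool, ((fun e => (shf^[(j : ℕ)]) (o.elim id act ((if s then (fun x => -x) else id) e))) (1, 0) = u ∧
      (fun e => (shf^[(j : ℕ)]) (o.elim id act ((if s then (fun x => -x) else id) e))) (0, 1) = v) := by
  decide +kernel

/-- The powers of a small frame element. -/
def rp (ω : F) (e : Fin 3 × Fin 3) (k : Fin 3) : Matrix (Fin 3) (Fin 3) F :=
  pw ω ((k + k) * (k - 1) * (e.1 * e.2)) • rm ω (k * e.1, k * e.2)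

theorem rp_add (h : Om ω) (e : Fin 3 × Fin 3) (k l : Fin 3) : rp ω e (k + l) = rp ω e k * rp ω e l := by
  rw [rp, rp, rp, Matrix.smul_mul, Matrix.mul_smul, rm_mul h, smul_smul, smul_smul, ← pw_add h, ← pw_add h]
  have h1 : ((k * e.1, k * e.2) + (l * e.1, l * e.2) : Fin 3 × Fin 3) = ((k + l) * e.1, (k + l) * e.2) := by
    revert k l e; decide +kernel
  have h2 : (k + l + (k + l)) * (k + l - 1) * (e.1 * e.2) =
      (k + k) * (k - 1) * (e.1 * e.2) + (l + l) * (l - 1) * (e.1 * e.2) + k * e.2 * (l * e.1) := by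
    clear h1; revert k l e; decide +kernel
  rw [h1, h2]

theorem rp_zero (e : Fin 3 × Fin 3) : rp ω e 0 = (1 : Matrix (Fin 3) (Fin 3) F) := by
  rw [rp, show ((0 * e.1, 0 * e.2) : Fin 3 × Fin 3) = 0 by revert e; decide +kernel, rm_zero,
    show ((0 : Fin 3) + 0) * (0 - 1) * (e.1 * e.2) = 0 by revert e; decide +kernel, pw_zero, one_smul]

theorem rp_one (e : Fin 3 × Fin 3) : rp ω e 1 = rm ω e := by
  rw [rp, show ((1 * e.1, 1 * e.2) : Fin 3 × Fin 3) = e by revert e; decide +kernel,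
    show ((1 : Fin 3) + 1) * (1 - 1) * (e.1 * e.2) = 0 by revert e; decide +kernel, pw_zero, one_smul]

/-- A block diagonal element with linearly growing translations. -/
def dg (ω : F) (i : Fin 3) (e : Fin 3 × Fin 3) : Matrix P9 P9 F := blockDiagonal fun k => rp ω e (k - i)

/-- The action of `dg`. -/
def dgf (e : Fin 3 × Fin 3) (a : Ix) : Ix := (a.1 + (a.2.1 * e.1, a.2.1 * e.2), (a.2.1, a.2.2 + sg3 e a.1))

theorem W_fst (e : Fin 3 × Fin 3) (b : Fin 3) : W ω (e, (0, b)) = blockDiagonal fun k => pw ω (b * k) • rm ω e := by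
  ext ⟨i, k⟩ ⟨j, l⟩
  simp only [W, kroneckerMap_apply, blockDiagonal_apply, Matrix.smul_apply, smul_eq_mul]
  by_cases hkl : k = l
  · subst hkl
    rw [if_pos rfl, mul_comm]
    simp [rm, mono]
  · rw [if_neg hkl]
    simp [rm, mono, Ne.symm hkl]

theorem W_shift (h : Om ω) (a : Fin 3) : W ω (0, (a, 0)) = (1 : Matrix (Fin 3) (Fin 3) F) ⊗ₖ rm ω (a, 0) := by
  rw [W, rm_zero]

theorem W_split (h : Om ω) (a : Ix) : ∃ c : Fin 3, W ω a = pw ω c • (W ω (a.1, (0, a.2.2)) * W ω (0, (a.2.1, 0))) := by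
  have e : ((a.1, (0, a.2.2)) : Ix) + (0, (a.2.1, 0)) = a := by
    obtain ⟨u, v, w⟩ := a; simp
  refine ⟨-(((a.1, (0, a.2.2)) : Ix).1.2 * ((0, (a.2.1, 0)) : Ix).1.1 +
    ((a.1, (0, a.2.2)) : Ix).2.2 * ((0, (a.2.1, 0)) : Ix).2.1), ?_⟩
  rw [W_mul h, smul_smul, ← pw_add h, neg_add_cancel, pw_zero, one_smul, e]

theorem blockDiagonal_mul_shift (M : Fin 3 → Matrix (Fin 3) (Fin 3) F) (a : Fin 3) :
    blockDiagonal M * ((1 : Matrix (Fin 3) (Fin 3) F) ⊗ₖ rm ω (a, 0)) =
      Matrix.of fun x y : P9 => if y.2 = x.2 - a then M x.2 x.1 y.1 else 0 := by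
  ext ⟨i, k⟩ ⟨j, l⟩
  rw [Matrix.mul_apply, Finset.sum_eq_single (j, k)]
  · simp [blockDiagonal_apply, kroneckerMap_apply, rm, mono, pw_zero, zero_mul]
  · rintro ⟨x, y⟩ - hne
    by_cases hy : k = y
    · subst hy
      have : x ≠ j := fun e => hne (by rw [e])
      simp [blockDiagonal_apply, kroneckerMap_apply, Matrix.one_apply, this]
    · simp [blockDiagonal_apply, hy]
  · simp

theorem shift_mul_blockDiagonal (M : Fin 3 → Matrix (Fin 3) (Fin 3) F) (a : Fin 3) :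
    ((1 : Matrix (Fin 3) (Fin 3) F) ⊗ₖ rm ω (a, 0)) * blockDiagonal M =
      Matrix.of fun x y : P9 => if y.2 = x.2 - a then M (x.2 - a) x.1 y.1 else 0 := by
  ext ⟨i, k⟩ ⟨j, l⟩
  rw [Matrix.mul_apply, Finset.sum_eq_single (i, k - a)]
  · simp [blockDiagonal_apply, kroneckerMap_apply, rm, mono, pw_zero, zero_mul, eq_comm]
  · rintro ⟨x, y⟩ - hne
    by_cases hy : y = k - a
    · subst hy
      have : i ≠ x := fun e => hne (by rw [e])
      simp [kroneckerMap_apply, Matrix.one_apply, this]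
    · simp [kroneckerMap_apply, rm, mono, hy]
  · simp

theorem Acts.dg (h : Om ω) (i : Fin 3) (e : Fin 3 × Fin 3) : Acts ω (dg ω i e) (dgf e) := by
  intro a
  obtain ⟨c1, hc1⟩ := W_split h a
  obtain ⟨c2, hc2⟩ := W_split h (dgf e a)
  obtain ⟨c, hc⟩ : ∃ c : Fin 3, ∀ k : Fin 3,
      rp ω e (k - i) * rm ω a.1 = pw ω (c + (sg3 e a.1 * k)) • (rm ω (a.1 + (a.2.1 * e.1, a.2.1 * e.2)) *
        rp ω e (k - a.2.1 - i)) := by
    have hdec : ∀ (e f : Fin 3 × Fin 3) (i d : Fin 3), ∃ c : Fin 3, ∀ k : Fin 3,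
        (k - i + (k - i)) * (k - i - 1) * (e.1 * e.2) + (k - i) * e.2 * f.1 =
          c + sg3 e f * k + ((k - d - i + (k - d - i)) * (k - d - i - 1) * (e.1 * e.2) +
            (f + (d * e.1, d * e.2)).2 * ((k - d - i) * e.1)) ∧
        ((k - i) * e.1, (k - i) * e.2) + f = (f + (d * e.1, d * e.2)) + ((k - d - i) * e.1, (k - d - i) * e.2) := by
      decide +kernel
    obtain ⟨c, hc⟩ := hdec e a.1 i a.2.1
    refine ⟨c, fun k => ?_⟩
    obtain ⟨h1, h2⟩ := hc k
    rw [rp, rp, Matrix.smul_mul, Matrix.mul_smul, rm_mul h, rm_mul h, smul_smul, smul_smul, smul_smul,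
      ← pw_add h, ← pw_add h, ← pw_add h, h1, h2]
    congr 2
    abel
  refine ⟨pw ω (c1 + c - c2), pw_ne_zero h _, ?_⟩
  have key : TriFrame.dg ω i e * (W ω (a.1, (0, a.2.2)) * W ω (0, (a.2.1, 0))) =
      pw ω c • ((W ω ((dgf e a).1, (0, (dgf e a).2.2)) * W ω (0, ((dgf e a).2.1, 0))) * TriFrame.dg ω i e) := by
    rw [W_fst, W_fst, W_shift h, W_shift h, TriFrame.dg, ← Matrix.mul_assoc, ← blockDiagonal_mul,
      blockDiagonal_mul_shift, Matrix.mul_assoc (blockDiagonal _), shift_mul_blockDiagonal]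
    ext ⟨x, k⟩ ⟨y, l⟩
    rw [Matrix.smul_apply, Matrix.mul_apply (M := blockDiagonal _)]
    simp only [Matrix.of_apply, blockDiagonal_apply, dgf]
    rw [Fintype.sum_prod_type]
    simp only [ite_mul, zero_mul, Finset.sum_ite_eq, Finset.mem_univ, if_true]
    by_cases hl : l = k - a.2.1
    · simp only [if_pos hl]
      have e1 := congrFun (congrFun (hc k) x) y
      rw [Matrix.mul_smul, Matrix.smul_apply, smul_eq_mul, e1, Matrix.smul_apply, smul_eq_mul, ← mul_assoc,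
        ← pw_add h, Matrix.mul_apply, Finset.mul_sum, smul_eq_mul, Finset.mul_sum]
      refine Finset.sum_congr rfl fun z _ => ?_
      simp only [hl, Matrix.smul_apply, smul_eq_mul, ↓reduceIte]
      rw [← mul_assoc, ← mul_assoc, ← mul_assoc, ← pw_add h]
      congr 3
      have : ∀ x k c b : Fin 3, b * k + (c + x * k) = c + (b + x) * k := by decide +kernel
      exact this _ _ _ _
    · simp [hl]
  rw [hc1, hc2, Matrix.mul_smul, key, Matrix.smul_mul, smul_smul, smul_smul, ← pw_add h, ← pw_add h,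
    sub_add_cancel]

/-- The exchange of the two factors, negated to have determinant one. -/
def sw (F : Type*) [Field F] : Matrix P9 P9 F := Matrix.of fun x y => if y = (x.2, x.1) then -1 else 0

theorem sw_mul (X : Matrix P9 P9 F) : sw F * X = Matrix.of fun x y => -X (x.2, x.1) y := by
  ext x y
  rw [Matrix.mul_apply, Finset.sum_eq_single (x.2, x.1)]
  · simp [sw]
  · intro b _ hb; simp [sw, hb]
  · simp

theorem mul_sw (X : Matrix P9 P9 F) : X * sw F = Matrix.of fun x y => -X x (y.2, y.1) := by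
  ext x y
  rw [Matrix.mul_apply, Finset.sum_eq_single (y.2, y.1)]
  · simp [sw]
  · intro b _ hb
    have : y ≠ (b.2, b.1) := fun e => hb (by rw [e])
    simp [sw, this]
  · simp

theorem sw_kron (A B : Matrix (Fin 3) (Fin 3) F) : sw F * (A ⊗ₖ B) = (B ⊗ₖ A) * sw F := by
  rw [sw_mul, mul_sw]
  ext ⟨i, k⟩ ⟨j, l⟩
  simp [kroneckerMap_apply, mul_comm]

theorem Acts.sw (h : Om ω) : Acts ω (sw F) Prod.swap := fun a => ⟨1, one_ne_zero, by
  rw [one_smul, W, W, sw_kron]; rfl⟩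

end Cfsg.Agent.Classical.TriFrame
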