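/-
If no element is supported on one eigenblock, centralisers of frame elements normalise the frame.
-/
import Cfsg.Agent.Lib.Classical.TriFrame.Elems

set_option autoImplicit false
set_option linter.unusedSectionVars false

namespace Cfsg.Agent.Classical.TriFrame

open Matrix Kronecker
open Cfsg.Agent.Classical.LinThree.Hess

variable {F : Type*} [Field F] {ω : F}

/-- A matrix lying in the group. -/
def Mem (X : Subgroup (GL P9 F)) (M : Matrix P9 P9 F) : Prop := ∃ g ∈ X, (g : Matrix P9 P9 F) = M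

/-- The group contains the standard elements. -/
structure Gens (ω : F) (X : Subgroup (GL P9 F)) : Prop where
  om : Om ω
  det : ∀ g ∈ X, (g : Matrix P9 P9 F).det = 1
  frame : ∀ a, Mem X (W ω a)
  quarter : ∀ k, Mem X (qm ω k ⊗ₖ (1 : Matrix (Fin 3) (Fin 3) F))
  shear : Mem X (sh ω ⊗ₖ (1 : Matrix (Fin 3) (Fin 3) F))
  swap : Mem X (sw F)
  lin : ∀ i e, Mem X (dg ω i e)

/-- Some element acts by scalars on two blocks and not on the third. -/
def Mixed (X : Subgroup (GL P9 F)) : Prop :=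
  ∃ M : Fin 3 → Matrix (Fin 3) (Fin 3) F, Mem X (blockDiagonal M) ∧
    ∃ i, (∀ k, k ≠ i → ∃ c : F, M k = c • 1) ∧ ∀ c : F, M i ≠ c • 1

variable {X : Subgroup (GL P9 F)}

theorem Mem.mul {A B : Matrix P9 P9 F} (hA : Mem X A) (hB : Mem X B) : Mem X (A * B) := by
  obtain ⟨g, hg, rfl⟩ := hA
  obtain ⟨k, hk, rfl⟩ := hB
  exact ⟨g * k, X.mul_mem hg hk, rfl⟩

theorem Mem.one : Mem X (1 : Matrix P9 P9 F) := ⟨1, X.one_mem, rfl⟩

theorem Mem.isUnit {A : Matrix P9 P9 F} (hA : Mem X A) : IsUnit A := by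
  obtain ⟨g, -, rfl⟩ := hA
  exact g.isUnit

theorem Mem.inv {A B : Matrix P9 P9 F} (hA : Mem X A) (hAB : A * B = 1) : Mem X B := by
  obtain ⟨g, hg, rfl⟩ := hA
  refine ⟨g⁻¹, X.inv_mem hg, ?_⟩
  rw [← Matrix.one_mul B, ← Units.inv_mul g, Matrix.mul_assoc, hAB, Matrix.mul_one]

theorem Mem.pow {A : Matrix P9 P9 F} (hA : Mem X A) (n : ℕ) : Mem X (A ^ n) := by
  induction n with
  | zero => rw [pow_zero]; exact Mem.one
  | succ n ih => rw [pow_succ]; exact ih.mul hA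

theorem Mem.conj {A B A' : Matrix P9 P9 F} (hA : Mem X A) (hB : Mem X B) (h : A * B = A' * A) : Mem X A' := by
  obtain ⟨g, hg, rfl⟩ := hA
  obtain ⟨k, hk, rfl⟩ := hB
  refine ⟨g * k * g⁻¹, X.mul_mem (X.mul_mem hg hk) (X.inv_mem hg), ?_⟩
  rw [Units.val_mul, Units.val_mul, h, Matrix.mul_assoc, Units.mul_inv, Matrix.mul_one]

theorem bd_units {M : Fin 3 → Matrix (Fin 3) (Fin 3) F} (h : IsUnit (blockDiagonal M)) (k : Fin 3) :
    IsUnit (M k).det := by
  rw [Matrix.isUnit_iff_isUnit_det, det_blockDiagonal] at h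
  exact isUnit_of_dvd_unit (Finset.dvd_prod_of_mem (fun k => (M k).det) (Finset.mem_univ k)) h

/-- Commutators of block diagonal elements. -/
theorem Mem.comm {M D : Fin 3 → Matrix (Fin 3) (Fin 3) F} (hM : Mem X (blockDiagonal M))
    (hD : Mem X (blockDiagonal D)) : Mem X (blockDiagonal fun k => M k * D k * (M k)⁻¹ * (D k)⁻¹) := by
  have hi : ∀ {M : Fin 3 → Matrix (Fin 3) (Fin 3) F}, Mem X (blockDiagonal M) →
      Mem X (blockDiagonal fun k => (M k)⁻¹) := fun {M} hM => hM.inv (by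
    rw [← blockDiagonal_mul, ← blockDiagonal_one]
    exact congrArg blockDiagonal (funext fun k => Matrix.mul_nonsing_inv _ (bd_units hM.isUnit k)))
  have := ((hM.mul hD).mul (hi hM)).mul (hi hD)
  rwa [← blockDiagonal_mul, ← blockDiagonal_mul, ← blockDiagonal_mul] at this

theorem smul_one_of_scalar (i : Fin 3) {M : Fin 3 → Matrix (Fin 3) (Fin 3) F} (hmix : ¬ Mixed X)
    (hM : Mem X (blockDiagonal M)) (hs : ∀ k, k ≠ i → ∃ c : F, M k = c • 1) : ∃ c : F, M i = c • 1 := by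
  by_contra hc
  push Not at hc
  exact hmix ⟨M, hM, i, hs, hc⟩

theorem det_rp (h : Om ω) (e : Fin 3 × Fin 3) (k : Fin 3) : IsUnit (rp ω e k).det := by
  rw [rp, Matrix.det_smul, det_rm h, mul_one]
  exact (isUnit_iff_ne_zero.mpr (pw_ne_zero h _)).pow _

theorem third : ∀ i j : Fin 3, i ≠ j → ∃ l, l ≠ i ∧ l ≠ j ∧ ∀ m, m = i ∨ m = j ∨ m = l := by decide

theorem steps : ∀ l : Fin 3, l - (l - 1) = 1 ∧ l - (l + 1) = 2 ∧ ∀ k, k ≠ l → k = l - 1 ∨ k = l + 1 := by decide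

theorem comm_self_one {A B : Matrix (Fin 3) (Fin 3) F} (hA : IsUnit A.det) (hB : IsUnit B.det) (h : A * B = B * A) :
    A * B * A⁻¹ * B⁻¹ = 1 := by
  rw [h, Matrix.mul_assoc B, Matrix.mul_nonsing_inv _ hA, Matrix.mul_one, Matrix.mul_nonsing_inv _ hB]

/-- **Block diagonal elements permute the small frames.** -/
theorem acts3_block (hX : Gens ω X) (hmix : ¬ Mixed X) {M : Fin 3 → Matrix (Fin 3) (Fin 3) F}
    (hM : Mem X (blockDiagonal M)) (l : Fin 3) (u : Fin 3 × Fin 3) :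
    ∃ (c : F) (v : Fin 3 × Fin 3), c ≠ 0 ∧ M l * rm ω u = c • (rm ω v * M l) := by
  have h := hX.om
  have hMu := bd_units hM.isUnit
  obtain ⟨U, hU⟩ : ∃ U : Fin 3 → Fin 3 → Matrix (Fin 3) (Fin 3) F, ∀ i k, U i k = rp ω u (k - i) :=
    ⟨_, fun _ _ => rfl⟩
  -- the commutator with `u`
  obtain ⟨C, hC⟩ : ∃ C : Matrix (Fin 3) (Fin 3) F, C = M l * rm ω u * (M l)⁻¹ * (rm ω u)⁻¹ := ⟨_, rfl⟩
  have key : ∀ e, ∃ μ : F, C * rm ω e = μ • (rm ω e * C) := by
    intro e
    -- first kill `l - 1`, then `l + 1`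
    have h1 := hM.comm (hX.lin (l - 1) u)
    have h2 := h1.comm (hX.lin (l + 1) e)
    obtain ⟨hl1, hl2, hl3⟩ := steps l
    obtain ⟨c, hc⟩ := smul_one_of_scalar l hmix h2 (fun k hk => ⟨1, by
      rw [one_smul]
      rcases hl3 k hk with rfl | rfl
      · refine comm_self_one ?_ (det_rp h _ _) ?_ <;>
          simp only [sub_self, rp_zero, Matrix.mul_one, Matrix.mul_nonsing_inv _ (hMu _), inv_one] <;> simp
      · refine comm_self_one ?_ (det_rp h _ _) (by rw [sub_self, rp_zero, Matrix.mul_one, Matrix.one_mul])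
        simp [Matrix.det_nonsing_inv, (hMu _).ne_zero, (det_rp h u _).ne_zero]⟩)
    rw [hl1, hl2, rp_one, ← hC] at hc
    -- commuting up to scalars with the square gives the same for `e`
    have he2 : rp ω e 2 = rm ω e * rm ω e := by
      rw [show (2 : Fin 3) = 1 + 1 by decide, rp_add h, rp_one]
    have hru : IsUnit (rm ω e).det := by rw [det_rm h]; exact isUnit_one
    have hCu : IsUnit C.det := by
      rw [hC]; simp [Matrix.det_nonsing_inv, det_rm h, (hMu _).ne_zero]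
    have hsq : C * (rm ω e * rm ω e) = c • ((rm ω e * rm ω e) * C) := by
      rw [← he2]
      have := congrArg (fun Y => Y * rp ω e 2 * C) hc
      simp only [Matrix.smul_mul, Matrix.one_mul] at this
      rw [← this, Matrix.mul_assoc _ (rp ω e 2)⁻¹, Matrix.nonsing_inv_mul _ (det_rp h _ _), Matrix.mul_one,
        Matrix.mul_assoc, Matrix.nonsing_inv_mul _ hCu, Matrix.mul_one]
    have h3 : rm ω e * rm ω e * rm ω e = 1 := by
      rw [← rp_one e, ← rp_add h, ← rp_add h, show (1 : Fin 3) + 1 + 1 = 0 by decide, rp_zero]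
    -- `e = e⁴`
    refine ⟨c * c, ?_⟩
    have e4 : rm ω e * rm ω e * (rm ω e * rm ω e) = rm ω e := by
      rw [← Matrix.mul_assoc, h3, Matrix.one_mul]
    calc C * rm ω e = C * (rm ω e * rm ω e) * (rm ω e * rm ω e) := by rw [Matrix.mul_assoc, e4]
      _ = _ := by
        rw [hsq, Matrix.smul_mul, Matrix.mul_assoc _ C, hsq, Matrix.mul_smul, smul_smul, ← Matrix.mul_assoc, e4]
  have hru : IsUnit (rm ω u).det := by rw [det_rm h]; exact isUnit_one
  have hC0 : C ≠ 0 := fun q => by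
    have : IsUnit C.det := by rw [hC]; simp [Matrix.det_nonsing_inv, det_rm h, (hMu _).ne_zero]
    rw [q, Matrix.det_zero] at this
    exact not_isUnit_zero this
  obtain ⟨c, b, hc0, hcb⟩ := rm_of_twisted h hC0 key
  refine ⟨c * pw ω (b.2 * u.1), b + u, mul_ne_zero hc0 (pw_ne_zero h _), ?_⟩
  have e1 : C * rm ω u * M l = M l * rm ω u := by
    rw [hC, Matrix.mul_assoc _ (rm ω u)⁻¹, Matrix.nonsing_inv_mul _ hru, Matrix.mul_one, Matrix.mul_assoc,
      Matrix.nonsing_inv_mul _ (hMu l), Matrix.mul_one]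
  rw [← e1, hcb, Matrix.smul_mul, rm_mul h, smul_smul, Matrix.smul_mul]

theorem Acts.inv (h : Om ω) {A B : Matrix P9 P9 F} (hAB : A * B = 1) {f : Ix → Ix} (hf : Acts ω A f) :
    ∃ f', Acts ω B f' := by
  have hA : IsUnit A := IsUnit.of_mul_eq_one B hAB
  obtain ⟨f', hf'⟩ := (Finite.injective_iff_bijective.mp (hf.injective h hA)).surjective.hasRightInverse
  refine ⟨f', fun a => ?_⟩
  obtain ⟨c, hc0, hc⟩ := hf (f' a)
  rw [hf' a] at hc
  refine ⟨c⁻¹, inv_ne_zero hc0, hA.mul_left_cancel ?_⟩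
  rw [← Matrix.mul_assoc, hAB, Matrix.one_mul, Matrix.mul_smul, ← Matrix.mul_assoc, hc, Matrix.smul_mul, smul_smul,
    inv_mul_cancel₀ hc0, one_smul, Matrix.mul_assoc, hAB, Matrix.mul_one]

theorem kron_one (P : Matrix (Fin 3) (Fin 3) F) :
    P ⊗ₖ (1 : Matrix (Fin 3) (Fin 3) F) = blockDiagonal fun _ => P := by
  ext ⟨i, k⟩ ⟨j, l⟩
  simp only [kroneckerMap_apply, blockDiagonal_apply, Matrix.one_apply]
  split_ifs <;> simp

theorem one_kron_diag (c : Fin 3 → F) :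
    (1 : Matrix (Fin 3) (Fin 3) F) ⊗ₖ Matrix.diagonal c = blockDiagonal fun k => c k • 1 := by
  ext ⟨i, k⟩ ⟨j, l⟩
  simp only [kroneckerMap_apply, blockDiagonal_apply, Matrix.diagonal_apply, Matrix.smul_apply, Matrix.one_apply,
    smul_eq_mul]
  split_ifs <;> simp_all

theorem Acts3.mul {A B : Matrix (Fin 3) (Fin 3) F} {f g : Fin 3 × Fin 3 → Fin 3 × Fin 3} (hA : Acts3 ω A f)
    (hB : Acts3 ω B g) : Acts3 ω (A * B) (f ∘ g) := fun e => by
  obtain ⟨c', hc0', hc'⟩ := hB e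
  obtain ⟨c, hc0, hc⟩ := hA (g e)
  refine ⟨c' * c, mul_ne_zero hc0' hc0, ?_⟩
  rw [Matrix.mul_assoc, hc', Matrix.mul_smul, ← Matrix.mul_assoc, hc, Matrix.smul_mul, smul_smul, Matrix.mul_assoc,
    Function.comp_apply]

theorem Acts3.pres (h : Om ω) {A : Matrix (Fin 3) (Fin 3) F} (hA : IsUnit A) {f : Fin 3 × Fin 3 → Fin 3 × Fin 3}
    (hf : Acts3 ω A f) (a b : Fin 3 × Fin 3) : sg3 (f a) (f b) = sg3 a b := by
  obtain ⟨c, hc0, hc⟩ := hf a
  obtain ⟨d, hd0, hd⟩ := hf b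
  have e1 : ∀ (a b : Fin 3 × Fin 3) (c d : F), A * rm ω a = c • (rm ω (f a) * A) →
      A * rm ω b = d • (rm ω (f b) * A) → A * (rm ω a * rm ω b) = (c * d) • ((rm ω (f a) * rm ω (f b)) * A) :=
    fun a b c d hc hd => by
      rw [← Matrix.mul_assoc, hc, Matrix.smul_mul, Matrix.mul_assoc, hd, Matrix.mul_smul, smul_smul,
        ← Matrix.mul_assoc]
  have hu : ∀ e, IsUnit (rm ω e) := fun e => by rw [Matrix.isUnit_iff_isUnit_det, det_rm h]; exact isUnit_one
  have e2 := e1 a b c d hc hd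
  rw [rm_comm h a b, Matrix.mul_smul, e1 b a d c hd hc, rm_comm h (f a) (f b), Matrix.smul_mul, smul_smul,
    smul_smul, mul_comm d c] at e2
  have e3 := smul_left_injective F (fun q => by
    have := ((hu (f b)).mul (hu (f a))).mul hA
    rw [q] at this
    exact not_isUnit_zero this) e2
  have e4 : pw ω (sg3 a b) = pw ω (sg3 (f a) (f b)) := mul_right_cancel₀ (mul_ne_zero hc0 hd0) (e3.trans (mul_comm _ _))
  exact (pw_injective h e4).symm

theorem Acts3.add (h : Om ω) {A : Matrix (Fin 3) (Fin 3) F} (hA : IsUnit A) {f : Fin 3 × Fin 3 → Fin 3 × Fin 3}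
    (hf : Acts3 ω A f) (a b : Fin 3 × Fin 3) : f (a + b) = f a + f b := by
  have hext : ∀ x y : Fin 3 × Fin 3, (∀ z, sg3 z x = sg3 z y) → x = y := by decide +kernel
  refine hext _ _ fun z => ?_
  have hsurj : Function.Surjective f := by
    refine (Finite.injective_iff_surjective.mp fun x y e => hext x y fun z => ?_)
    rw [← Acts3.pres h hA hf z x, e, Acts3.pres h hA hf z y]
  obtain ⟨w, rfl⟩ := hsurj z
  rw [sg3_add_right, hf.pres h hA, hf.pres h hA, hf.pres h hA, sg3_add_right]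

/-- The symplectic maps of the small index set are realised by blockwise constant elements. -/
theorem exists_realise (hX : Gens ω X) {f : Fin 3 × Fin 3 → Fin 3 × Fin 3} (hadd : ∀ a b, f (a + b) = f a + f b)
    (hsg : sg3 (f (1, 0)) (f (0, 1)) = sg3 (1, 0) (0, 1)) :
    ∃ P, Acts3 ω P f ∧ Mem X (P ⊗ₖ (1 : Matrix (Fin 3) (Fin 3) F)) := by
  have h := hX.om
  obtain ⟨j, o, s, hw1, hw2⟩ := exists_word3 _ _ hsg
  have hk : ∀ A B : Matrix (Fin 3) (Fin 3) F, (A ⊗ₖ (1 : Matrix (Fin 3) (Fin 3) F)) *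
      (B ⊗ₖ (1 : Matrix (Fin 3) (Fin 3) F)) = (A * B) ⊗ₖ (1 : Matrix (Fin 3) (Fin 3) F) := fun A B => by
    rw [← mul_kronecker_mul, Matrix.one_mul]
  have hsh : ∀ n : ℕ, ∃ P, Acts3 ω P (shf^[n]) ∧ Mem X (P ⊗ₖ (1 : Matrix (Fin 3) (Fin 3) F)) := by
    intro n
    induction n with
    | zero => exact ⟨1, Acts3.one, by rw [one_kronecker_one]; exact Mem.one⟩
    | succ n ih =>
      obtain ⟨P, hP, hPm⟩ := ih
      exact ⟨P * sh ω, hP.mul (Acts3.sh h), hk P _ ▸ hPm.mul hX.shear⟩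
  have ho : ∃ P, Acts3 ω P (o.elim id act) ∧ Mem X (P ⊗ₖ (1 : Matrix (Fin 3) (Fin 3) F)) := by
    cases o with
    | none => exact ⟨1, Acts3.one, by rw [one_kronecker_one]; exact Mem.one⟩
    | some k => exact ⟨qm ω k, Acts3.qm h k, hX.quarter k⟩
  have hs : ∃ P, Acts3 ω P (if s then (fun x => -x) else id) ∧ Mem X (P ⊗ₖ (1 : Matrix (Fin 3) (Fin 3) F)) := by
    cases s with
    | false => exact ⟨1, Acts3.one, by rw [one_kronecker_one]; exact Mem.one⟩
    | true =>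
      refine ⟨qm ω 0 * qm ω 0, ?_, hk _ _ ▸ (hX.quarter 0).mul (hX.quarter 0)⟩
      intro e
      obtain ⟨c, hc0, hc⟩ := ((Acts3.qm h 0).mul (Acts3.qm h 0)) e
      exact ⟨c, hc0, by rw [hc, Function.comp_apply, act_act]; rfl⟩
  obtain ⟨P1, h1, m1⟩ := hsh (j : ℕ)
  obtain ⟨P2, h2, m2⟩ := ho
  obtain ⟨P3, h3, m3⟩ := hs
  refine ⟨P1 * (P2 * P3), fun e => ?_, hk _ _ ▸ m1.mul (hk _ _ ▸ m2.mul m3)⟩
  obtain ⟨c, hc0, hc⟩ := (h1.mul (h2.mul h3)) e
  refine ⟨c, hc0, ?_⟩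
  rw [hc]
  congr 3
  have hlin : ∀ (j : Fin 3) (o : Option (Fin 3)) (s : Bool) (a b : Fin 3 × Fin 3),
      (shf^[(j : ℕ)]) (o.elim id act ((if s then (fun x => -x) else id) (a + b))) =
        (shf^[(j : ℕ)]) (o.elim id act ((if s then (fun x => -x) else id) a)) +
          (shf^[(j : ℕ)]) (o.elim id act ((if s then (fun x => -x) else id) b)) := by
    decide +kernel
  have e1 := add_ext1 (v := fun x => (f (x, 0)).1)
    (v' := fun x => ((shf^[(j : ℕ)]) (o.elim id act ((if s then (fun x => -x) else id) (x, 0)))).1)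
    (fun x y => by rw [← Prod.fst_add, ← hadd]; simp) (fun x y => by rw [← Prod.fst_add, ← hlin]; simp)
    (congrArg Prod.fst hw1.symm) e.1
  have e2 := add_ext1 (v := fun x => (f (x, 0)).2)
    (v' := fun x => ((shf^[(j : ℕ)]) (o.elim id act ((if s then (fun x => -x) else id) (x, 0)))).2)
    (fun x y => by rw [← Prod.snd_add, ← hadd]; simp) (fun x y => by rw [← Prod.snd_add, ← hlin]; simp)
    (congrArg Prod.snd hw1.symm) e.1
  have e3 := add_ext1 (v := fun x => (f (0, x)).1)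
    (v' := fun x => ((shf^[(j : ℕ)]) (o.elim id act ((if s then (fun x => -x) else id) (0, x)))).1)
    (fun x y => by rw [← Prod.fst_add, ← hadd]; simp) (fun x y => by rw [← Prod.fst_add, ← hlin]; simp)
    (congrArg Prod.fst hw2.symm) e.2
  have e4 := add_ext1 (v := fun x => (f (0, x)).2)
    (v' := fun x => ((shf^[(j : ℕ)]) (o.elim id act ((if s then (fun x => -x) else id) (0, x)))).2)
    (fun x y => by rw [← Prod.snd_add, ← hadd]; simp) (fun x y => by rw [← Prod.snd_add, ← hlin]; simp)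
    (congrArg Prod.snd hw2.symm) e.2
  show (shf^[(j : ℕ)]) (o.elim id act ((if s then (fun x => -x) else id) e)) = f e
  rw [show e = (e.1, 0) + (0, e.2) by simp, hlin, hadd, ← Prod.ext e1 e2, ← Prod.ext e3 e4]

/-- **Centralisers of frame elements.** -/
theorem cent_block (hX : Gens ω X) (hmix : ¬ Mixed X) {M : Fin 3 → Matrix (Fin 3) (Fin 3) F}
    (hM : Mem X (blockDiagonal M)) : ∃ f, Acts ω (blockDiagonal M) f := by
  have h := hX.om
  have hMu := bd_units hM.isUnit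
  have hMu' : ∀ k, IsUnit (M k) := fun k => (Matrix.isUnit_iff_isUnit_det _).mpr (hMu k)
  choose c f hc0 hf using acts3_block hX hmix hM 0
  have hf0 : Acts3 ω (M 0) f := fun u => ⟨c u, hc0 u, hf u⟩
  obtain ⟨P, hP, hPm⟩ := exists_realise hX (hf0.add h (hMu' 0)) (hf0.pres h (hMu' 0) _ _)
  obtain ⟨fP, hfP⟩ : ∃ fP, Acts ω (P ⊗ₖ (1 : Matrix (Fin 3) (Fin 3) F)) fP := ⟨_, hP.kron Acts3.one⟩
  have hPu : IsUnit P := (Matrix.isUnit_iff_isUnit_det _).mpr (bd_units (kron_one P ▸ hPm.isUnit) 0)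
  have hPd := (Matrix.isUnit_iff_isUnit_det _).mp hPu
  -- remove the common part
  obtain ⟨N, hN⟩ : ∃ N : Fin 3 → Matrix (Fin 3) (Fin 3) F, ∀ k, N k = P⁻¹ * M k := ⟨_, fun _ => rfl⟩
  have hNm : Mem X (blockDiagonal N) := by
    have hi : Mem X (blockDiagonal fun _ : Fin 3 => P⁻¹) := by
      rw [kron_one] at hPm
      refine hPm.inv ?_
      rw [← blockDiagonal_mul, ← blockDiagonal_one]
      exact congrArg blockDiagonal (funext fun _ => Matrix.mul_nonsing_inv _ hPd)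
    have := hi.mul hM
    rw [← blockDiagonal_mul] at this
    convert this using 3
    exact hN _
  have hMN : blockDiagonal M = P ⊗ₖ (1 : Matrix (Fin 3) (Fin 3) F) * blockDiagonal N := by
    rw [kron_one, ← blockDiagonal_mul]
    refine congrArg blockDiagonal (funext fun k => ?_)
    rw [hN, ← Matrix.mul_assoc, Matrix.mul_nonsing_inv _ hPd, Matrix.one_mul]
  have hN0 : ∀ u, ∃ μ : F, N 0 * rm ω u = μ • (rm ω u * N 0) := by
    intro u
    obtain ⟨d, hd0, hd⟩ := hP u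
    refine ⟨c u * d⁻¹, ?_⟩
    have e1 : P⁻¹ * rm ω (f u) = d⁻¹ • (rm ω u * P⁻¹) := by
      have e2 : P⁻¹ * (P * rm ω u) * P⁻¹ = d • (P⁻¹ * rm ω (f u) * (P * P⁻¹)) := by
        rw [hd, Matrix.mul_smul, Matrix.smul_mul]
        simp only [Matrix.mul_assoc]
      rw [Matrix.mul_nonsing_inv _ hPd, Matrix.mul_one, ← Matrix.mul_assoc P⁻¹, Matrix.nonsing_inv_mul _ hPd,
        Matrix.one_mul] at e2
      rw [e2, smul_smul, inv_mul_cancel₀ hd0, one_smul]
    rw [hN, Matrix.mul_assoc, hf, Matrix.mul_smul, ← Matrix.mul_assoc, e1, Matrix.smul_mul, smul_smul,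
      Matrix.mul_assoc]
  -- the other two blocks
  have hNu := bd_units hNm.isUnit
  have hNall : ∀ k u, ∃ μ : F, N k * rm ω u = μ • (rm ω u * N k) := by
    intro k u
    by_cases hk : k = 0
    · exact hk ▸ hN0 u
    obtain ⟨l, hl0, hlk, hl⟩ := third 0 k (Ne.symm hk)
    have h1 := hNm.comm (hX.lin l u)
    obtain ⟨μ, hμ⟩ := smul_one_of_scalar k hmix h1 (fun m hm => by
      rcases hl m with rfl | rfl | rfl
      · obtain ⟨μ, hμ⟩ : ∃ μ : F, N 0 * rp ω u (0 - l) = μ • (rp ω u (0 - l) * N 0) := by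
          obtain ⟨μ, hμ⟩ := hN0 ((0 - l) * u.1, (0 - l) * u.2)
          exact ⟨μ, by rw [rp, Matrix.mul_smul, hμ, Matrix.smul_mul, smul_comm]⟩
        refine ⟨μ, ?_⟩
        rw [hμ, Matrix.smul_mul, Matrix.smul_mul, Matrix.mul_assoc _ (N 0), Matrix.mul_nonsing_inv _ (hNu 0),
          Matrix.mul_one, Matrix.mul_nonsing_inv _ (det_rp h u _)]
      · exact absurd rfl hm
      · exact ⟨1, (comm_self_one (hNu _) (det_rp h _ _) (by rw [sub_self, rp_zero, Matrix.mul_one, Matrix.one_mul])).trans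
          (one_smul F _).symm⟩)
    have e1 : N k * rp ω u (k - l) = μ • (rp ω u (k - l) * N k) := by
      have := congrArg (fun Y => Y * rp ω u (k - l) * N k) hμ
      simp only [Matrix.smul_mul, Matrix.one_mul] at this
      rw [← this, Matrix.mul_assoc _ (rp ω u (k - l))⁻¹, Matrix.nonsing_inv_mul _ (det_rp h _ _), Matrix.mul_one,
        Matrix.mul_assoc, Matrix.nonsing_inv_mul _ (hNu k), Matrix.mul_one]
    have hd : k - l = 1 ∨ k - l + (k - l) = 1 := by
      have : ∀ d : Fin 3, d ≠ 0 → d = 1 ∨ d + d = 1 := by decide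
      exact this _ (sub_ne_zero.mpr (Ne.symm hlk))
    rcases hd with hd | hd
    · rw [hd, rp_one] at e1
      exact ⟨μ, e1⟩
    · refine ⟨μ * μ, ?_⟩
      rw [← rp_one u, ← hd, rp_add h, ← Matrix.mul_assoc, e1, Matrix.smul_mul, Matrix.mul_assoc, e1, Matrix.mul_smul,
        smul_smul, Matrix.mul_assoc]
  choose d b hd0 hb using fun k => rm_of_twisted h
    (fun q => by have := hNu k; rw [q, Matrix.det_zero] at this; exact not_isUnit_zero this) (hNall k)
  -- remove the linear translations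
  obtain ⟨e, he⟩ : ∃ e, e = -(b 1 - b 0) := ⟨_, rfl⟩
  obtain ⟨A, hA⟩ : ∃ A, A = dg ω 0 e * W ω (-b 0, (0, 0)) := ⟨_, rfl⟩
  have hAm : Mem X A := hA ▸ (hX.lin 0 e).mul (hX.frame _)
  obtain ⟨fA, hfA⟩ : ∃ fA, Acts ω A fA := ⟨_, hA ▸ (Acts.dg h 0 e).mul (Acts.frame h _)⟩
  have hT := hAm.mul hNm
  have hAN : A * blockDiagonal N = blockDiagonal fun k => rp ω e k * rm ω (-b 0) * N k := by
    rw [hA, W_fst, dg, ← blockDiagonal_mul, ← blockDiagonal_mul]
    refine congrArg blockDiagonal (funext fun k => ?_)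
    rw [sub_zero, show (0 : Fin 3) * k = 0 by revert k; decide, pw_zero, one_smul]
  have hs0 : ∃ t : F, rp ω e 0 * rm ω (-b 0) * N 0 = t • 1 := by
    refine ⟨d 0 * pw ω ((-b 0).2 * (b 0).1), ?_⟩
    rw [rp_zero, Matrix.one_mul, hb, Matrix.mul_smul, rm_mul h, neg_add_cancel, rm_zero, smul_smul]
  have hs1 : ∃ t : F, rp ω e 1 * rm ω (-b 0) * N 1 = t • 1 := by
    refine ⟨d 1 * (pw ω (e.2 * (-b 0).1) * pw ω ((e + -b 0).2 * (b 1).1)), ?_⟩
    rw [rp_one, hb, Matrix.mul_smul, rm_mul h, Matrix.smul_mul, rm_mul h, smul_smul, smul_smul,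
      show e + -b 0 + b 1 = 0 by rw [he]; abel, rm_zero, mul_assoc]
  have hs2 : ∃ t : F, rp ω e 2 * rm ω (-b 0) * N 2 = t • 1 :=
    smul_one_of_scalar 2 hmix (hAN ▸ hT) (fun k hk => by
      fin_cases k
      · exact hs0
      · exact hs1
      · exact absurd rfl hk)
  obtain ⟨t, ht⟩ : ∃ t : Fin 3 → F, ∀ k, rp ω e k * rm ω (-b 0) * N k = t k • 1 := by
    choose t ht using fun k => (show ∃ t : F, rp ω e k * rm ω (-b 0) * N k = t • 1 by
      fin_cases k; exacts [hs0, hs1, hs2])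
    exact ⟨t, ht⟩
  rw [show (fun k => rp ω e k * rm ω (-b 0) * N k) = fun k => t k • 1 from funext ht, ← one_kron_diag] at hAN
  rw [hAN] at hT
  -- block scalars come from an element normalising the small frame
  have hD : Mem X (blockDiagonal fun _ : Fin 3 => Matrix.diagonal t) := by
    rw [← kron_one]; exact hX.swap.conj hT (sw_kron _ _)
  choose cD fD hcD hfD using acts3_block hX hmix hD 0
  obtain ⟨fT, hfT⟩ : ∃ fT, Acts ω ((1 : Matrix (Fin 3) (Fin 3) F) ⊗ₖ Matrix.diagonal t) fT :=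
    ⟨_, Acts3.one.kron (fun u => ⟨cD u, hcD u, hfD u⟩)⟩
  obtain ⟨A', hA'⟩ : ∃ A', A * A' = 1 := hAm.isUnit.exists_right_inv
  obtain ⟨fA', hfA'⟩ := hfA.inv h hA'
  refine ⟨fP ∘ fA' ∘ fT, ?_⟩
  rw [hMN, show blockDiagonal N = A' * ((1 : Matrix (Fin 3) (Fin 3) F) ⊗ₖ Matrix.diagonal t) by
    rw [← hAN, ← Matrix.mul_assoc, mul_eq_one_comm.mp hA', Matrix.one_mul]]
  exact hfP.mul (hfA'.mul hfT)

/-- An element commuting with the second clock up to a scalar normalises the frame. -/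
theorem cent_normal (hX : Gens ω X) (hmix : ¬ Mixed X) {g : Matrix P9 P9 F} (hg : Mem X g) {c : F}
    (hc : g * W ω (0, (0, 1)) = c • (W ω (0, (0, 1)) * g)) : ∃ f, Acts ω g f := by
  have h := hX.om
  have hW : W ω (0, (0, 1)) = blockDiagonal fun k => pw ω k • (1 : Matrix (Fin 3) (Fin 3) F) := by
    rw [W_fst, rm_zero]
    refine congrArg blockDiagonal (funext fun k => ?_)
    rw [show (1 : Fin 3) * k = k by revert k; decide]
  have hent : ∀ (Y : Matrix P9 P9 F) (d : F), Y * W ω (0, (0, 1)) = d • (W ω (0, (0, 1)) * Y) →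
      ∀ x y : P9, Y x y ≠ 0 → pw ω y.2 = d * pw ω x.2 := by
    intro Y d hY x y hne
    have e : (blockDiagonal fun k => pw ω k • (1 : Matrix (Fin 3) (Fin 3) F)) =
        Matrix.diagonal fun x : P9 => pw ω x.2 := by
      ext ⟨i, k⟩ ⟨j, l⟩
      simp only [blockDiagonal_apply, Matrix.smul_apply, Matrix.one_apply, Matrix.diagonal_apply, smul_eq_mul,
        Prod.mk.injEq]
      split_ifs <;> simp_all
    rw [hW, e] at hY
    have := congrFun (congrFun hY x) y
    rw [Matrix.mul_diagonal, Matrix.smul_apply, Matrix.diagonal_mul, smul_eq_mul, mul_comm] at this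
    exact mul_right_cancel₀ hne (this.trans (by ring))
  obtain ⟨j, hj⟩ : ∃ j, c = pw ω j := by
    obtain ⟨x, y, hxy⟩ : ∃ x y, g x y ≠ 0 := by
      by_contra hn
      push Not at hn
      exact not_isUnit_zero (((Matrix.ext hn : g = 0)) ▸ hg.isUnit)
    refine ⟨y.2 - x.2, mul_right_cancel₀ (pw_ne_zero h x.2) ?_⟩
    rw [← pw_add h, sub_add_cancel, hent g c hc x y hxy]
  -- compensate with a shift
  obtain ⟨s, hs⟩ : ∃ s : Ix, s = (0, (j, 0)) := ⟨_, rfl⟩
  obtain ⟨g', hg'⟩ : ∃ g', g' = W ω s * g := ⟨_, rfl⟩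
  have hg'm : Mem X g' := hg' ▸ (hX.frame s).mul hg
  have hcomm : g' * W ω (0, (0, 1)) = (1 : F) • (W ω (0, (0, 1)) * g') := by
    have hsg : j + sg s (0, (0, 1)) = 0 := by
      rw [hs]
      exact (show ∀ j : Fin 3, j + sg ((0, (j, 0)) : Ix) (0, (0, 1)) = 0 by decide) j
    rw [hg', Matrix.mul_assoc, hc, Matrix.mul_smul, ← Matrix.mul_assoc, W_comm h s, Matrix.smul_mul, smul_smul, hj,
      ← pw_add h, hsg, pw_zero, Matrix.mul_assoc]
  have hblk : g' = blockDiagonal fun k => Matrix.of fun i l => g' (i, k) (l, k) := by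
    ext ⟨i, k⟩ ⟨l, m⟩
    rw [blockDiagonal_apply]
    by_cases hkm : k = m
    · subst hkm; simp
    · rw [if_neg hkm]
      by_contra hne
      have := hent g' 1 hcomm _ _ hne
      rw [one_mul] at this
      exact hkm (pw_injective h this).symm
  obtain ⟨f, hf⟩ := cent_block hX hmix (hblk ▸ hg'm)
  rw [← hblk] at hf
  obtain ⟨s', hs'⟩ : ∃ s', W ω s * s' = 1 := (isUnit_W h s).exists_right_inv
  obtain ⟨f', hf'⟩ := (Acts.frame h s).inv h hs'
  refine ⟨f' ∘ f, ?_⟩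
  have : g = s' * g' := by rw [hg', ← Matrix.mul_assoc, mul_eq_one_comm.mp hs', Matrix.one_mul]
  rw [this]
  exact hf'.mul hf


end Cfsg.Agent.Classical.TriFrame
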