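/-
The projective group, the part permuting the frame and the realisation of the symplectic maps.
-/
import Cfsg.Agent.Lib.Classical.TriFrame.Cent

set_option autoImplicit false
set_option linter.unusedSectionVars false
set_option linter.style.haveILetI false

namespace Cfsg.Agent.Classical.TriFrame

open Matrix Kronecker
open Cfsg.Agent.Classical.LinThree.Hess

variable {F : Type*} [Field F] {ω : F} {X : Subgroup (GL P9 F)}

/-- The projective group. -/
abbrev PG9 (F : Type*) [Field F] := GL P9 F ⧸ Subgroup.center (GL P9 F)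

/-- The projection. -/
def pj9 (F : Type*) [Field F] : GL P9 F →* PG9 F := QuotientGroup.mk' _

theorem pj9_eq_one {x : GL P9 F} :
    pj9 F x = 1 ↔ ∃ c : F, (x : Matrix P9 P9 F) = c • (1 : Matrix P9 P9 F) := by
  rw [pj9, QuotientGroup.mk'_apply, QuotientGroup.eq_one_iff, Matrix.GeneralLinearGroup.center_eq_range_scalar]
  constructor
  · rintro ⟨u, rfl⟩
    exact ⟨(u : F), by ext i j; rcases eq_or_ne i j with rfl | hij <;> simp [*]⟩
  · rintro ⟨c, hc⟩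
    have hc0 : c ≠ 0 := fun q => not_isUnit_zero (show IsUnit (0 : Matrix P9 P9 F) by
      rw [show (0 : Matrix P9 P9 F) = x by rw [hc, q, zero_smul]]; exact x.isUnit)
    exact ⟨Units.mk0 c hc0, Units.ext (by
      rw [hc]; ext i j; rcases eq_or_ne i j with rfl | hij <;> simp [*])⟩

theorem pj9_eq {x y : GL P9 F} :
    pj9 F x = pj9 F y ↔ ∃ c : F, c ≠ 0 ∧ (x : Matrix P9 P9 F) = c • (y : Matrix P9 P9 F) := by
  rw [← inv_mul_eq_one, ← map_inv, ← map_mul, pj9_eq_one]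
  constructor
  · rintro ⟨c, hc⟩
    have e := congrArg (fun M => (x : Matrix P9 P9 F) * M) hc
    simp only [← Units.val_mul, mul_inv_cancel_left, Matrix.mul_smul, Matrix.mul_one] at e
    have hc0 : c ≠ 0 := fun q => (x⁻¹ * y).ne_zero (by rw [hc, q, zero_smul])
    exact ⟨c⁻¹, inv_ne_zero hc0, by rw [e, smul_smul, inv_mul_cancel₀ hc0, one_smul]⟩
  · rintro ⟨c, hc0, hc⟩
    refine ⟨c⁻¹, ?_⟩
    rw [Units.val_mul, show (y : Matrix P9 P9 F) = c⁻¹ • (x : Matrix P9 P9 F) by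
      rw [hc, smul_smul, inv_mul_cancel₀ hc0, one_smul], Matrix.mul_smul, ← Units.val_mul, inv_mul_cancel, Units.val_one]

theorem pj9_comm {x y : GL P9 F} : pj9 F x * pj9 F y = pj9 F y * pj9 F x ↔
    ∃ c : F, c ≠ 0 ∧
      (x : Matrix P9 P9 F) * (y : Matrix P9 P9 F) = c • ((y : Matrix P9 P9 F) * (x : Matrix P9 P9 F)) := by
  rw [← map_mul, ← map_mul, pj9_eq, Units.val_mul, Units.val_mul]

/-- Commuting up to a scalar is commuting when the trace is not zero. -/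
theorem commute_of_trace {x y : GL P9 F} (ht : (y : Matrix P9 P9 F).trace ≠ 0)
    (h : pj9 F x * pj9 F y = pj9 F y * pj9 F x) :
    (x : Matrix P9 P9 F) * (y : Matrix P9 P9 F) = (y : Matrix P9 P9 F) * (x : Matrix P9 P9 F) := by
  obtain ⟨c, -, hc⟩ := pj9_comm.mp h
  have e := congrArg (fun M => (M * ((x⁻¹ : GL P9 F) : Matrix P9 P9 F)).trace) hc
  simp only [Matrix.smul_mul, Matrix.trace_smul, Matrix.mul_assoc, smul_eq_mul] at e
  rw [Matrix.trace_mul_comm, Matrix.mul_assoc, ← Units.val_mul, inv_mul_cancel, Units.val_one, Matrix.mul_one,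
    ← Units.val_mul, mul_inv_cancel, Units.val_one, Matrix.mul_one] at e
  have hc1 : c = 1 := (mul_eq_right₀ ht).mp e.symm
  rw [hc, hc1, one_smul]

variable [Fintype F]

/-- The elements of the group permuting the frame. -/
def NN (h : Om ω) (X : Subgroup (GL P9 F)) : Subgroup (GL P9 F) where
  carrier := {g | g ∈ X ∧ ∃ f, Acts ω (g : Matrix P9 P9 F) f}
  one_mem' := ⟨X.one_mem, id, by rw [Units.val_one]; exact Acts.one⟩
  mul_mem' := by
    rintro a b ⟨ha, f, hf⟩ ⟨hb, f', hf'⟩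
    exact ⟨X.mul_mem ha hb, _, by rw [Units.val_mul]; exact hf.mul hf'⟩
  inv_mem' := by
    rintro a ⟨ha, f, hf⟩
    exact ⟨X.inv_mem ha, hf.inv h (by rw [← Units.val_mul, mul_inv_cancel, Units.val_one])⟩

theorem mem_NN {h : Om ω} {g : GL P9 F} : g ∈ NN h X ↔ g ∈ X ∧ ∃ f, Acts ω (g : Matrix P9 P9 F) f := Iff.rfl

theorem NN_le (h : Om ω) : NN h X ≤ X := fun _ hg => hg.1

theorem mem_NN_of_pj {h : Om ω} {g : GL P9 F} (hg : g ∈ X) (hp : pj9 F g ∈ (NN h X).map (pj9 F)) : g ∈ NN h X := by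
  obtain ⟨n, ⟨-, f, hf⟩, hn⟩ := hp
  obtain ⟨c, -, hc⟩ := pj9_eq.mp hn.symm
  exact ⟨hg, f, hc ▸ hf.smul c⟩

/-- A map of the indices is realised. -/
def Real (ω : F) (X : Subgroup (GL P9 F)) (f : Ix → Ix) : Prop := ∃ g ∈ X, Acts ω (g : Matrix P9 P9 F) f

theorem Real.comp {f f' : Ix → Ix} (hf : Real ω X f) (hf' : Real ω X f') : Real ω X (f ∘ f') := by
  obtain ⟨g, hg, hgf⟩ := hf
  obtain ⟨g', hg', hgf'⟩ := hf'
  exact ⟨g * g', X.mul_mem hg hg', by rw [Units.val_mul]; exact hgf.mul hgf'⟩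

theorem real_of_mem {M : Matrix P9 P9 F} (hM : Mem X M) {f : Ix → Ix} (hf : Acts ω M f) : Real ω X f := by
  obtain ⟨g, hg, rfl⟩ := hM
  exact ⟨g, hg, hf⟩

theorem Real.mem {f : Ix → Ix} (hf : Real ω X f) : ∃ M, Mem X M ∧ Acts ω M f := by
  obtain ⟨g, hg, hgf⟩ := hf
  exact ⟨_, ⟨g, hg, rfl⟩, hgf⟩

theorem Real.props (h : Om ω) {f : Ix → Ix} (hf : Real ω X f) :
    Function.Injective f ∧ (∀ a b, f (a + b) = f a + f b) ∧ ∀ a b, sg (f a) (f b) = sg a b := by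
  obtain ⟨g, -, hgf⟩ := hf
  exact ⟨hgf.injective h g.isUnit, hgf.add h g.isUnit, hgf.pres h g.isUnit⟩

theorem Real.zero (h : Om ω) {f : Ix → Ix} (hf : Real ω X f) : f 0 = 0 := by
  have e := (hf.props h).2.1 0 0
  rw [add_zero] at e
  have e' := congrArg (fun v => v - f 0) e
  simpa using e'.symm

/-- The inverse of a realised map is realised. -/
theorem Real.inv (h : Om ω) {f : Ix → Ix} (hf : Real ω X f) : ∃ f', Real ω X f' ∧ (∀ a, f' (f a) = a) ∧ ∀ a, f (f' a) = a := by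
  obtain ⟨g, hg, hgf⟩ := hf
  obtain ⟨f', hf'⟩ := hgf.inv h (show (g : Matrix P9 P9 F) * ((g⁻¹ : GL P9 F) : Matrix P9 P9 F) = 1 by
    rw [← Units.val_mul, mul_inv_cancel, Units.val_one])
  have e1 := Acts.unique h (1 : GL P9 F).isUnit (f := f ∘ f') (f' := id) (by
    have := hgf.mul hf'
    rwa [← Units.val_mul, mul_inv_cancel] at this) (by rw [Units.val_one]; exact Acts.one)
  have hinj := hgf.injective h g.isUnit
  exact ⟨f', ⟨g⁻¹, X.inv_mem hg, hf'⟩, fun a => hinj (congrFun e1 (f a)), fun a => congrFun e1 a⟩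

theorem sl3_map : ∀ a : Fin 3 × Fin 3, a ≠ 0 → ∀ z : Fin 3 × Fin 3, z = (1, 0) ∨ z = (0, 1) →
    ∃ v w : Fin 3 × Fin 3, sg3 v w = sg3 (1, 0) (0, 1) ∧ (z.1 * v.1 + z.2 * w.1, z.1 * v.2 + z.2 * w.2) = a := by
  decide +kernel

theorem lin3_add : ∀ v w a b : Fin 3 × Fin 3,
    (((a + b).1 * v.1 + (a + b).2 * w.1, (a + b).1 * v.2 + (a + b).2 * w.2) : Fin 3 × Fin 3) =
      (a.1 * v.1 + a.2 * w.1, a.1 * v.2 + a.2 * w.2) + (b.1 * v.1 + b.2 * w.1, b.1 * v.2 + b.2 * w.2) := by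
  decide +kernel

variable (hX : Gens ω X)

include hX

theorem real_swap : Real ω X Prod.swap := real_of_mem hX.swap (Acts.sw hX.om)

theorem real_first {f : Fin 3 × Fin 3 → Fin 3 × Fin 3} (hadd : ∀ a b, f (a + b) = f a + f b)
    (hsg : sg3 (f (1, 0)) (f (0, 1)) = sg3 (1, 0) (0, 1)) : Real ω X (Prod.map f id) := by
  obtain ⟨P, hP, hPm⟩ := exists_realise hX hadd hsg
  exact real_of_mem hPm (hP.kron Acts3.one)

theorem real_second {f : Fin 3 × Fin 3 → Fin 3 × Fin 3} (hadd : ∀ a b, f (a + b) = f a + f b)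
    (hsg : sg3 (f (1, 0)) (f (0, 1)) = sg3 (1, 0) (0, 1)) : Real ω X (Prod.map id f) := by
  have := ((real_swap hX).comp (real_first hX hadd hsg)).comp (real_swap hX)
  exact this

theorem real_dg (e : Fin 3 × Fin 3) : Real ω X (dgf e) := real_of_mem (hX.lin 0 e) (Acts.dg hX.om 0 e)

theorem first_map {a : Fin 3 × Fin 3} (ha : a ≠ 0) {z : Fin 3 × Fin 3} (hz : z = (1, 0) ∨ z = (0, 1)) :
    ∃ g, Real ω X (Prod.map g id) ∧ Real ω X (Prod.map id g) ∧ g z = a ∧ g 0 = 0 := by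
  obtain ⟨v, w, hvw, he⟩ := sl3_map a ha z hz
  refine ⟨fun a => (a.1 * v.1 + a.2 * w.1, a.1 * v.2 + a.2 * w.2), real_first hX (lin3_add v w) ?_,
    real_second hX (lin3_add v w) ?_, he, by simp⟩ <;> simpa using hvw

/-- The realised maps are transitive on the non-zero indices. -/
theorem real_trans {a : Ix} (ha : a ≠ 0) : ∃ f, Real ω X f ∧ f ((1, 0), 0) = a := by
  have key : ∀ a : Ix, a.1 ≠ 0 → ∃ f, Real ω X f ∧ f ((1, 0), 0) = a := by
    rintro ⟨a1, a2⟩ (ha1 : a1 ≠ 0)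
    obtain ⟨g1, hg1, -, hg1e, -⟩ := first_map hX ha1 (z := (1, 0)) (Or.inl rfl)
    by_cases ha2 : a2 = 0
    · exact ⟨_, hg1, by simp [Prod.map, hg1e, ha2]⟩
    obtain ⟨g2, -, hg2, hg2e, -⟩ := first_map hX ha2 (z := (0, 1)) (Or.inr rfl)
    obtain ⟨e, he⟩ : ∃ e : Fin 3 × Fin 3, dgf e ((1, 0), 0) = ((1, 0), (0, 1)) :=
      (show ∃ e : Fin 3 × Fin 3, dgf e (((1, 0), 0) : Ix) = ((1, 0), (0, 1)) by decide +kernel)
    exact ⟨_, (hg1.comp hg2).comp (real_dg hX e), by simp [Prod.map, he, hg1e, hg2e]⟩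
  by_cases h1 : a.1 = 0
  · have h2 : a.2 ≠ 0 := fun e => ha (Prod.ext h1 e)
    obtain ⟨f, hf, hfe⟩ := key a.swap h2
    exact ⟨_, (real_swap hX).comp hf, by rw [Function.comp_apply, hfe, Prod.swap_swap]⟩
  · exact key a h1

/-- **Every symplectic map is realised.** -/
theorem exists_sp {f : Ix → Ix} (hadd : ∀ a b, f (a + b) = f a + f b) (hsg : ∀ a b, sg (f a) (f b) = sg a b) :
    Real ω X f := by
  have hext : ∀ x : Ix, (∀ z, sg z x = 0) → x = 0 := by decide +kernel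
  have hne : ∀ a, a ≠ 0 → f a ≠ 0 := fun a ha e => ha (hext a fun z => by rw [← hsg, e, sg_zero_right])
  obtain ⟨g, hg, hge⟩ := real_trans hX (hne ((1, 0), 0) (by decide))
  obtain ⟨g', hg', hg'g, hgg'⟩ := hg.inv hX.om
  obtain ⟨-, ga, gs⟩ := hg'.props hX.om
  obtain ⟨f1, hf1⟩ : ∃ f1, f1 = g' ∘ f := ⟨_, rfl⟩
  have h1a : ∀ a b, f1 (a + b) = f1 a + f1 b := fun a b => by simp only [hf1, Function.comp_apply, hadd, ga]
  have h1s : ∀ a b, sg (f1 a) (f1 b) = sg a b := fun a b => by simp only [hf1, Function.comp_apply, gs, hsg]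
  have h1e : f1 ((1, 0), 0) = ((1, 0), 0) := by rw [hf1, Function.comp_apply, ← hge, hg'g]
  -- now move the second vector
  obtain ⟨v, hv⟩ : ∃ v, v = f1 ((0, 1), 0) := ⟨_, rfl⟩
  have hv1 : v.1.2 = 1 := by
    have := h1s ((1, 0), 0) ((0, 1), 0)
    rw [h1e, ← hv] at this
    revert this
    exact (show ∀ v : Ix, sg ((1, 0), 0) v = sg ((1, 0), 0) ((0, 1), 0) → v.1.2 = 1 by decide +kernel) v
  obtain ⟨k, hk, hk0, hkv⟩ : ∃ k, Real ω X k ∧ k ((1, 0), 0) = ((1, 0), 0) ∧ k ((0, 1), 0) = v := by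
    have hs : ∀ x : Fin 3, Real ω X (Prod.map (fun a : Fin 3 × Fin 3 => (a.1 + a.2 * x, a.2)) id) := fun x =>
      real_first hX (fun a b => by simp [add_mul]; abel) ((show ∀ x : Fin 3,
        sg3 ((1 : Fin 3) + 0 * x, (0 : Fin 3)) (0 + 1 * x, 1) = sg3 (1, 0) (0, 1) by decide) x)
    have hq : ∀ k : Fin 3, Real ω X (Prod.map (act k) id) := fun k =>
      real_of_mem (hX.quarter k) ((Acts3.qm hX.om k).kron Acts3.one)
    have hdec : ∀ v : Ix, v.1.2 = 1 → ∃ (x : Fin 3) (e : Fin 3 × Fin 3),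
        (Prod.map (fun a : Fin 3 × Fin 3 => (a.1 + a.2 * x, a.2)) id ∘ (Prod.map (act 0) id ∘ Prod.map (act 0) id ∘
          Prod.map (act 0) id) ∘ (Prod.swap ∘ dgf e ∘ Prod.swap) ∘ Prod.map (act 0) id) ((1, 0), 0) = ((1, 0), 0) ∧
        (Prod.map (fun a : Fin 3 × Fin 3 => (a.1 + a.2 * x, a.2)) id ∘ (Prod.map (act 0) id ∘ Prod.map (act 0) id ∘
          Prod.map (act 0) id) ∘ (Prod.swap ∘ dgf e ∘ Prod.swap) ∘ Prod.map (act 0) id) ((0, 1), 0) = v := by
      decide +kernel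
    obtain ⟨x, e, h1, h2⟩ := hdec v hv1
    exact ⟨_, (hs x).comp (((hq 0).comp ((hq 0).comp (hq 0))).comp
      (((real_swap hX).comp ((real_dg hX e).comp (real_swap hX))).comp (hq 0))), h1, h2⟩
  obtain ⟨k', hk', hk'k, hkk'⟩ := hk.inv hX.om
  obtain ⟨-, ka, ks⟩ := hk'.props hX.om
  obtain ⟨f2, hf2⟩ : ∃ f2, f2 = k' ∘ f1 := ⟨_, rfl⟩
  have h2a : ∀ a b, f2 (a + b) = f2 a + f2 b := fun a b => by simp only [hf2, Function.comp_apply, h1a, ka]
  have h2s : ∀ a b, sg (f2 a) (f2 b) = sg a b := fun a b => by simp only [hf2, Function.comp_apply, ks, h1s]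
  have h2e : f2 ((1, 0), 0) = ((1, 0), 0) := by rw [hf2, Function.comp_apply, h1e]; conv_lhs => rw [← hk0, hk'k]
  have h2f : f2 ((0, 1), 0) = ((0, 1), 0) := by rw [hf2, Function.comp_apply, ← hv, ← hkv, hk'k]
  obtain ⟨m, hm⟩ : ∃ m : Fin 3 × Fin 3 → Fin 3 × Fin 3, ∀ b, f2 (0, b) = (0, m b) := by
    refine ⟨fun b => (f2 (0, b)).2, fun b => Prod.ext ?_ rfl⟩
    have e1 := h2s ((1, 0), 0) (0, b)
    have e2 := h2s ((0, 1), 0) (0, b)
    rw [h2e] at e1
    rw [h2f] at e2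
    exact (show ∀ (v : Ix) (b : Fin 3 × Fin 3), sg ((1, 0), 0) v = sg ((1, 0), 0) (0, b) →
      sg ((0, 1), 0) v = sg ((0, 1), 0) (0, b) → v.1 = 0 by decide +kernel) _ b e1 e2
  have hma : ∀ a b, m (a + b) = m a + m b := fun a b => by
    have := h2a (0, a) (0, b)
    simp only [Prod.mk_add_mk, add_zero, hm] at this
    exact congrArg Prod.snd this
  have hms : sg3 (m (1, 0)) (m (0, 1)) = sg3 (1, 0) (0, 1) := by
    have := h2s (0, (1, 0)) (0, (0, 1))
    rw [hm, hm] at this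
    simpa [sg, sg3] using this
  have hf2eq : f2 = Prod.map id m := by
    funext a
    have e1 := add_ext3 (v := fun x => (f2 (x, 0)).1.1) (v' := fun x => x.1)
      (fun x y => by rw [← Prod.fst_add, ← Prod.fst_add, ← h2a]; simp) (fun x y => rfl) (by simp [h2e]) (by simp [h2f]) a.1
    have e2 := add_ext3 (v := fun x => (f2 (x, 0)).1.2) (v' := fun x => x.2)
      (fun x y => by rw [← Prod.snd_add, ← Prod.fst_add, ← h2a]; simp) (fun x y => rfl) (by simp [h2e]) (by simp [h2f]) a.1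
    have e3 := add_ext3 (v := fun x => (f2 (x, 0)).2.1) (v' := fun _ => 0)
      (fun x y => by rw [← Prod.fst_add, ← Prod.snd_add, ← h2a]; simp) (fun x y => by simp) (by simp [h2e]) (by simp [h2f]) a.1
    have e4 := add_ext3 (v := fun x => (f2 (x, 0)).2.2) (v' := fun _ => 0)
      (fun x y => by rw [← Prod.snd_add, ← Prod.snd_add, ← h2a]; simp) (fun x y => by simp) (by simp [h2e]) (by simp [h2f]) a.1
    calc f2 a = f2 (a.1, 0) + f2 (0, a.2) := by rw [← h2a]; simp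
      _ = Prod.map id m a := by
        rw [hm, show f2 (a.1, 0) = (a.1, 0) from Prod.ext (Prod.ext e1 e2) (Prod.ext e3 e4)]
        simp [Prod.map]
  have hf : f = g ∘ k ∘ Prod.map id m := by
    rw [← hf2eq, hf2, hf1]
    funext a
    simp [hkk', hgg']
  rw [hf]
  exact hg.comp (hk.comp (real_second hX hma hms))

/-- Commuting up to a scalar with any frame element. -/
theorem cent_any (hmix : ¬ Mixed X) {a : Ix} (ha : a ≠ 0) {g : GL P9 F} (hg : g ∈ X) {c : F}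
    (hc : (g : Matrix P9 P9 F) * W ω a = c • (W ω a * (g : Matrix P9 P9 F))) : g ∈ NN hX.om X := by
  have h := hX.om
  obtain ⟨f, hf, hfe⟩ := real_trans hX ha
  obtain ⟨f0, hf0, hf0e⟩ := real_trans hX (a := ((0, (0, 1)) : Ix)) (by decide)
  obtain ⟨f0', hf0', hf0'e, -⟩ := hf0.inv h
  obtain ⟨n, hn, hnf⟩ := hf.comp hf0'
  have hna : (f ∘ f0') (0, (0, 1)) = a := by rw [Function.comp_apply, ← hf0e, hf0'e, hfe]
  obtain ⟨d, hd0, hd⟩ := hnf (0, (0, 1))
  rw [hna] at hd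
  have hmem : Mem X ((n⁻¹ * g * n : GL P9 F) : Matrix P9 P9 F) := ⟨_, X.mul_mem (X.mul_mem (X.inv_mem hn) hg) hn, rfl⟩
  have hconj : ((n⁻¹ * g * n : GL P9 F) : Matrix P9 P9 F) * W ω (0, (0, 1)) =
      c • (W ω (0, (0, 1)) * ((n⁻¹ * g * n : GL P9 F) : Matrix P9 P9 F)) := by
    refine n.isUnit.mul_left_cancel ?_
    rw [Units.val_mul, Units.val_mul, Matrix.mul_smul]
    simp only [← Matrix.mul_assoc]
    rw [← Units.val_mul n, mul_inv_cancel, Units.val_one, Matrix.one_mul, hd, Matrix.mul_assoc (g : Matrix P9 P9 F),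
      hd, Matrix.mul_smul, ← Matrix.mul_assoc, hc]
    simp only [Matrix.smul_mul, smul_smul, Matrix.mul_assoc, ← Units.val_mul, mul_inv_cancel_left, mul_comm c d, mul_inv_cancel, one_mul]
  obtain ⟨f', hf'⟩ := cent_normal hX hmix hmem hconj
  have hn' : n ∈ NN h X := ⟨hn, _, hnf⟩
  have hm : n⁻¹ * g * n ∈ NN h X := ⟨X.mul_mem (X.mul_mem (X.inv_mem hn) hg) hn, f', hf'⟩
  have := (NN h X).mul_mem ((NN h X).mul_mem hn' hm) ((NN h X).inv_mem hn')
  rwa [show n * (n⁻¹ * g * n) * n⁻¹ = g by group] at this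

end Cfsg.Agent.Classical.TriFrame
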