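/-
A non-scalar group normalised by the standard group of order 27 and its quarter turns meets it.
-/
import Cfsg.Agent.Lib.Classical.TriFrame.Model
import Cfsg.Agent.Lib.Solv.Coprime
import Cfsg.Agent.Lib.Solv.Generation

set_option autoImplicit false
set_option linter.unusedSectionVars false

namespace Cfsg.Agent.Classical.TriFrame.Small

open Matrix
open scoped Pointwise
open Cfsg.Agent Cfsg.Agent.Solv Cfsg.Agent.Classical.LinThree.Hess

variable {F : Type*} [Field F] [Fintype F] {ω : F}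

/-- The projective group. -/
abbrev PG3 (F : Type*) [Field F] := GL (Fin 3) F ⧸ Subgroup.center (GL (Fin 3) F)

/-- The projection. -/
def pj (F : Type*) [Field F] : GL (Fin 3) F →* PG3 F := QuotientGroup.mk' _

theorem pj_eq_one {x : GL (Fin 3) F} :
    pj F x = 1 ↔ ∃ c : F, (x : Matrix (Fin 3) (Fin 3) F) = c • (1 : Matrix (Fin 3) (Fin 3) F) := by
  rw [pj, QuotientGroup.mk'_apply, QuotientGroup.eq_one_iff, Matrix.GeneralLinearGroup.center_eq_range_scalar]
  constructor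
  · rintro ⟨u, rfl⟩
    exact ⟨(u : F), by ext i j; rcases eq_or_ne i j with rfl | hij <;> simp [*]⟩
  · rintro ⟨c, hc⟩
    have hc0 : c ≠ 0 := fun q => not_isUnit_zero (show IsUnit (0 : Matrix (Fin 3) (Fin 3) F) by
      rw [show (0 : Matrix (Fin 3) (Fin 3) F) = x by rw [hc, q, zero_smul]]; exact x.isUnit)
    exact ⟨Units.mk0 c hc0, Units.ext (by
      rw [hc]; ext i j; rcases eq_or_ne i j with rfl | hij <;> simp [*])⟩

theorem pj_comm {x y : GL (Fin 3) F} : pj F x * pj F y = pj F y * pj F x ↔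
    ∃ c : F, (x : Matrix (Fin 3) (Fin 3) F) * (y : Matrix (Fin 3) (Fin 3) F) =
      c • ((y : Matrix (Fin 3) (Fin 3) F) * (x : Matrix (Fin 3) (Fin 3) F)) := by
  rw [← map_mul, ← map_mul, ← mul_inv_eq_one, ← map_inv, ← map_mul, pj_eq_one]
  refine exists_congr fun c => ?_
  constructor
  · intro h
    have := congrArg (fun M => M * ((y * x : GL (Fin 3) F) : Matrix (Fin 3) (Fin 3) F)) h
    simp only [← Units.val_mul, inv_mul_cancel_right, Matrix.smul_mul, Matrix.one_mul] at this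
    simpa [Units.val_mul] using this
  · intro h
    rw [Units.val_mul, Units.val_mul, h, Matrix.smul_mul, ← Units.val_mul, ← Units.val_mul, mul_inv_cancel,
      Units.val_one]

/-- The element with matrix `rm e`. -/
noncomputable def rG (h : Om ω) (e : Fin 3 × Fin 3) : GL (Fin 3) F :=
  GeneralLinearGroup.mkOfDetNeZero (rm ω e) (by rw [det_rm h]; exact one_ne_zero)

theorem rG_val (h : Om ω) (e : Fin 3 × Fin 3) : (rG h e : Matrix (Fin 3) (Fin 3) F) = rm ω e := rfl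

theorem pj_rG_add (h : Om ω) (e f : Fin 3 × Fin 3) : pj F (rG h (e + f)) = pj F (rG h e) * pj F (rG h f) := by
  symm
  rw [← map_mul, ← mul_inv_eq_one, ← map_inv, ← map_mul, pj_eq_one]
  refine ⟨pw ω (e.2 * f.1), ?_⟩
  rw [Units.val_mul, Units.val_mul, rG_val, rG_val, rm_mul h, Matrix.smul_mul, ← rG_val h, ← Units.val_mul,
    mul_inv_cancel, Units.val_one]

/-- The image of the frame. -/
noncomputable def E (h : Om ω) : Subgroup (PG3 F) where
  carrier := Set.range fun e => pj F (rG h e)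
  one_mem' := ⟨0, pj_eq_one.mpr ⟨1, by rw [rG_val, rm_zero, one_smul]⟩⟩
  mul_mem' := by rintro _ _ ⟨e, rfl⟩ ⟨f, rfl⟩; exact ⟨e + f, pj_rG_add h e f⟩
  inv_mem' := by
    rintro _ ⟨e, rfl⟩
    refine ⟨-e, eq_inv_of_mul_eq_one_left ?_⟩
    rw [← pj_rG_add, neg_add_cancel]
    exact pj_eq_one.mpr ⟨1, by rw [rG_val, rm_zero, one_smul]⟩

theorem card_E_dvd (h : Om ω) : Nat.card (E h) ∣ 9 := by
  let φ : Multiplicative (Fin 3 × Fin 3) →* PG3 F :=
    { toFun := fun e => pj F (rG h (Multiplicative.toAdd e))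
      map_one' := pj_eq_one.mpr ⟨1, by simp [rG_val, rm_zero]⟩
      map_mul' := fun e f => pj_rG_add h _ _ }
  have : E h = φ.range := by
    ext x
    constructor
    · rintro ⟨e, rfl⟩; exact ⟨Multiplicative.ofAdd e, rfl⟩
    · rintro ⟨e, rfl⟩; exact ⟨_, rfl⟩
  rw [this]
  have h9 : Nat.card (Multiplicative (Fin 3 × Fin 3)) = 9 := by simp
  exact h9 ▸ Subgroup.card_range_dvd φ

theorem E_comm (h : Om ω) : IsMulCommutative (E h) := ⟨⟨by
  rintro ⟨_, e, rfl⟩ ⟨_, f, rfl⟩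
  exact Subtype.ext (by show _ * _ = _ * _; rw [← pj_rG_add, ← pj_rG_add, add_comm])⟩⟩

/-- An element commuting with the image of the frame comes from the frame. -/
theorem of_commute_E (h : Om ω) {x : GL (Fin 3) F} (hx : ∀ e, pj F x * pj F (rG h e) = pj F (rG h e) * pj F x) :
    ∃ (c : F) (b : Fin 3 × Fin 3), c ≠ 0 ∧ (x : Matrix (Fin 3) (Fin 3) F) = c • rm ω b :=
  rm_of_twisted h x.ne_zero fun e => pj_comm.mp (hx e)

/-- A matrix commuting with a clock-diagonal non-scalar matrix and its shift is diagonal. -/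
theorem triple : ∀ u : Fin 3 × Fin 3, u + u + u = 0 := by decide +kernel

theorem line_cases : ∀ u e : Fin 3 × Fin 3, u ≠ 0 → sg3 e u = 0 → ∃ i, (![0, u, u + u] : Fin 3 → Fin 3 × Fin 3) i = e := by
  decide +kernel

theorem line_inj : ∀ u : Fin 3 × Fin 3, u ≠ 0 → Function.Injective (![0, u, u + u] : Fin 3 → Fin 3 × Fin 3) := by
  decide +kernel

theorem commutes_clock (h : Om ω) {u v : Fin 3 × Fin 3} (huv : sg3 u v ≠ 0) {Z Y : Matrix (Fin 3) (Fin 3) F}
    (hZ : Z * rm ω u = rm ω u * Z) (hns : ∀ c : F, Z ≠ c • 1) {Z' : Matrix (Fin 3) (Fin 3) F}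
    (hZ' : rm ω v * Z = Z' * rm ω v) (h1 : Y * Z = Z * Y) (h2 : Y * Z' = Z' * Y) :
    Y * rm ω u = rm ω u * Y := by
  -- the algebra generated by `rm u`
  have h0 : u ≠ 0 := fun q => huv (by rw [q]; simp [sg3])
  obtain ⟨k, hk⟩ : ∃ k, k = sg3 u v := ⟨_, rfl⟩
  have hu3 : rm ω u * rm ω u * rm ω u = pw ω (u.2 * u.1 + (u + u).2 * u.1) • (1 : Matrix (Fin 3) (Fin 3) F) := by
    rw [rm_mul h, Matrix.smul_mul, rm_mul h, smul_smul, ← pw_add h,
      triple u, rm_zero]
  obtain ⟨a, b, c, habc⟩ : ∃ a b c : F, Z = a • 1 + b • rm ω u + c • (rm ω u * rm ω u) := by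
    have hZs : Z ∈ Submodule.span F (Set.range (rm ω)) := span_rm h ▸ Submodule.mem_top
    obtain ⟨z, hz⟩ := (Submodule.mem_span_range_iff_exists_fun F).mp hZs
    obtain ⟨d, hd⟩ : ∃ d : Fin 3 × Fin 3 → F, ∀ e, d e = z e * (pw ω (sg3 e u) - 1) := ⟨_, fun _ => rfl⟩
    have hzero : ∑ e, d e • rm ω e = 0 := by
      have e1 : Z * rm ω u = rm ω u * ∑ e, (z e * pw ω (sg3 e u)) • rm ω e := by
        rw [← hz, Finset.sum_mul, Matrix.mul_sum]
        refine Finset.sum_congr rfl fun e _ => ?_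
        rw [Matrix.smul_mul, rm_comm h e u, smul_smul, Matrix.mul_smul]
        rfl
      have hu : IsUnit (rm ω u) := by rw [Matrix.isUnit_iff_isUnit_det, det_rm h]; exact isUnit_one
      rw [hZ] at e1
      have e2 := hu.mul_left_cancel e1
      simp only [hd, mul_sub, mul_one, sub_smul, Finset.sum_sub_distrib]
      rw [← e2, hz, sub_self]
    have hli : LinearIndependent F (rm ω : Fin 3 × Fin 3 → Matrix (Fin 3) (Fin 3) F) :=
      linearIndependent_of_top_le_span_of_card_eq_finrank (span_rm h).ge (by simp [Module.finrank_matrix])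
    have hd0 := Fintype.linearIndependent_iff.mp hli d hzero
    obtain ⟨Γ, hΓ⟩ : ∃ Γ : Fin 3 → Fin 3 × Fin 3, Γ = ![0, u, u + u] := ⟨_, rfl⟩
    have hmem : ∀ e, z e ≠ 0 → ∃ i, Γ i = e := by
      intro e he
      have h1 := hd0 e
      rw [hd, mul_eq_zero, or_iff_right he, sub_eq_zero] at h1
      have h2 := pw_eq_one h h1
      rw [hΓ]
      exact line_cases u e h0 h2
    have hΓi : Function.Injective Γ := hΓ ▸ line_inj u h0
    refine ⟨z 0, z u, z (u + u) * (pw ω (u.2 * u.1))⁻¹, ?_⟩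
    rw [rm_mul h, smul_smul, mul_assoc, inv_mul_cancel₀ (pw_ne_zero h _), mul_one]
    conv_lhs => rw [← hz]
    rw [← Finset.sum_subset (Finset.subset_univ (Finset.univ.image Γ)) (fun e _ he => by
      by_contra hne
      obtain ⟨i, rfl⟩ := hmem e fun q => hne (by rw [q, zero_smul])
      exact he (Finset.mem_image_of_mem _ (Finset.mem_univ i))),
      Finset.sum_image hΓi.injOn, Fin.sum_univ_three, hΓ]
    simp [rm_zero]
  have hvu : rm ω v * rm ω u = pw ω (-k) • (rm ω u * rm ω v) := by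
    rw [rm_comm h v u, hk]
    congr 2
    simp only [sg3, neg_sub]
  have hvuu : rm ω v * (rm ω u * rm ω u) = pw ω (-k + -k) • (rm ω u * rm ω u * rm ω v) := by
    rw [← Matrix.mul_assoc, hvu, Matrix.smul_mul, Matrix.mul_assoc, hvu, Matrix.mul_smul, smul_smul, ← pw_add h,
      Matrix.mul_assoc]
  have hZ'' : Z' = a • 1 + (b * pw ω (-k)) • rm ω u + (c * pw ω (-k + -k)) • (rm ω u * rm ω u) := by
    have hv : IsUnit (rm ω v) := by rw [Matrix.isUnit_iff_isUnit_det, det_rm h]; exact isUnit_one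
    refine hv.mul_right_cancel ?_
    rw [← hZ', habc]
    simp only [Matrix.mul_add, Matrix.add_mul, Matrix.mul_smul, Matrix.smul_mul, Matrix.one_mul, Matrix.mul_one, hvu,
      hvuu, smul_smul]
  rw [habc] at h1
  rw [hZ''] at h2
  obtain ⟨U, hU⟩ : ∃ U, U = Y * rm ω u - rm ω u * Y := ⟨_, rfl⟩
  obtain ⟨V, hV⟩ : ∃ V, V = Y * (rm ω u * rm ω u) - rm ω u * rm ω u * Y := ⟨_, rfl⟩
  have e1 : b • U + c • V = 0 := by
    rw [hU, hV]
    simp only [Matrix.mul_add, Matrix.add_mul, Matrix.mul_smul, Matrix.smul_mul, Matrix.one_mul, Matrix.mul_one] at h1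
    linear_combination (norm := module) h1
  have e2 : (b * pw ω (-k)) • U + (c * pw ω (-k + -k)) • V = 0 := by
    rw [hU, hV]
    simp only [Matrix.mul_add, Matrix.add_mul, Matrix.mul_smul, Matrix.smul_mul, Matrix.one_mul, Matrix.mul_one] at h2
    linear_combination (norm := module) h2
  have hne : pw ω (-k) ≠ pw ω (-k + -k) := fun q => huv (by
    have := pw_injective h q
    rw [← hk]
    exact (show ∀ k : Fin 3, -k = -k + -k → k = 0 by decide) k this)
  rw [← sub_eq_zero, ← hU]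
  by_cases hb : b = 0
  · have hc : c ≠ 0 := fun q => hns a (by rw [habc, hb, q, zero_smul, zero_smul, add_zero, add_zero])
    rw [hb, zero_smul, zero_add] at e1
    have hV0 := (smul_eq_zero.mp e1).resolve_left hc
    -- `u = u⁴`
    obtain ⟨m, hm⟩ : ∃ m, m = pw ω (u.2 * u.1 + (u + u).2 * u.1) := ⟨_, rfl⟩
    have hm0 : m ≠ 0 := hm ▸ pw_ne_zero h _
    have hA : rm ω u * rm ω u * (rm ω u * rm ω u) = m • rm ω u := by
      rw [← Matrix.mul_assoc, hu3, Matrix.smul_mul, Matrix.one_mul, hm]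
    have hYA : Y * (rm ω u * rm ω u) = rm ω u * rm ω u * Y := sub_eq_zero.mp (hV ▸ hV0)
    have : Y * (m • rm ω u) = (m • rm ω u) * Y := by
      rw [← hA, ← Matrix.mul_assoc, hYA, Matrix.mul_assoc, hYA, ← Matrix.mul_assoc]
    rw [Matrix.mul_smul, Matrix.smul_mul] at this
    rw [hU, sub_eq_zero]
    exact smul_right_injective _ hm0 this
  · have e3 : (b * (pw ω (-k) - pw ω (-k + -k))) • U = 0 := by
      linear_combination (norm := module) e2 - pw ω (-k + -k) • e1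
    exact (smul_eq_zero.mp e3).resolve_left (mul_ne_zero hb (sub_ne_zero.mpr hne))

theorem exists_moved : ∀ u : Fin 3 × Fin 3, u ≠ 0 → (∃ v, sg3 u v ≠ 0) ∧ sg3 u (act 0 u) ≠ 0 ∧
    ∀ e, ∃ i j : Fin 3, e = (i * u.1 + j * (act 0 u).1, i * u.2 + j * (act 0 u).2) := by
  decide +kernel

/-- **The meeting lemma.** -/
theorem exists_frame_elem (h : Om ω) (S : Subgroup (GL (Fin 3) F))
    (hdet : ∀ s ∈ S, (s : Matrix (Fin 3) (Fin 3) F).det = 1)
    (hr : ∀ e, rG h e ∈ Subgroup.normalizer (S : Set (GL (Fin 3) F)))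
    {Q : GL (Fin 3) F} (hQ : (Q : Matrix (Fin 3) (Fin 3) F) = qm ω 0)
    (hQS : Q ∈ Subgroup.normalizer (S : Set (GL (Fin 3) F)))
    (hns : ∃ s ∈ S, ∀ c : F, (s : Matrix (Fin 3) (Fin 3) F) ≠ c • 1) :
    ∃ s ∈ S, ∃ (c : F) (b : Fin 3 × Fin 3), b ≠ 0 ∧ (s : Matrix (Fin 3) (Fin 3) F) = c • rm ω b := by
  classical
  haveI : Fact (Nat.Prime 3) := ⟨Nat.prime_three⟩
  haveI : Finite (PG3 F) := inferInstance
  obtain ⟨K, hK⟩ : ∃ K, K = S.map (pj F) := ⟨_, rfl⟩
  have hmap : ∀ {g : GL (Fin 3) F}, g ∈ Subgroup.normalizer (S : Set (GL (Fin 3) F)) →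
      pj F g ∈ Subgroup.normalizer (K : Set (PG3 F)) := fun {g} hg => by
    rw [hK]
    exact Subgroup.le_normalizer_map (pj F) (Subgroup.mem_map_of_mem _ hg)
  have hEK : E h ≤ Subgroup.normalizer (K : Set (PG3 F)) := by
    rintro _ ⟨e, rfl⟩; exact hmap (hr e)
  by_contra hcon
  push Not at hcon
  -- elements of `K` centralising the frame are trivial
  have hfix : ∀ z ∈ K, (∀ e, z * pj F (rG h e) = pj F (rG h e) * z) → z = 1 := by
    intro z hz hzc
    rw [hK] at hz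
    obtain ⟨s, hs, rfl⟩ := hz
    obtain ⟨c, b, hc0, hb⟩ := of_commute_E h hzc
    by_cases hb0 : b = 0
    · exact pj_eq_one.mpr ⟨c, by rw [hb, hb0, rm_zero]⟩
    · exact absurd hb (hcon s hs c b hb0)
  -- hence its order is prime to three
  have hE3 : IsPGroup 3 (E h) := by
    intro x
    refine ⟨1, Subtype.ext ?_⟩
    obtain ⟨e, he⟩ := x.2
    rw [Subgroup.coe_pow, ← he, pow_one, pow_succ, pow_two, Subgroup.coe_one]
    rw [← pj_rG_add, ← pj_rG_add, triple e]
    exact pj_eq_one.mpr ⟨1, by rw [rG_val, rm_zero, one_smul]⟩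
  have h3 : ¬ 3 ∣ Nat.card K := by
    intro h3
    obtain ⟨x, hx⟩ := exists_prime_orderOf_dvd_card' 3 h3
    obtain ⟨T, hT⟩ : ∃ T, T = Subgroup.normalizer (K : Set (PG3 F)) := ⟨_, rfl⟩
    have hKT : K ≤ T := hT ▸ Subgroup.le_normalizer
    have hET : E h ≤ T := hT ▸ hEK
    obtain ⟨Q', hQ'⟩ := (hE3.of_equiv (Subgroup.subgroupOfEquivOfLe hET).symm).exists_le_sylow
    have hxp : IsPGroup 3 (Subgroup.zpowers (⟨(x : PG3 F), hKT x.2⟩ : T)) := by
      refine IsPGroup.of_card (n := 1) ?_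
      rw [Nat.card_zpowers, ← Subgroup.orderOf_coe, pow_one]
      show orderOf (x : PG3 F) = 3
      rw [Subgroup.orderOf_coe, hx]
    obtain ⟨Q₀, hQ₀⟩ := hxp.exists_le_sylow
    obtain ⟨t, ht⟩ := MulAction.exists_smul_eq T Q₀ Q'
    obtain ⟨y, hy⟩ : ∃ y, y = t * ⟨(x : PG3 F), hKT x.2⟩ * t⁻¹ := ⟨_, rfl⟩
    have hyQ : y ∈ (Q' : Subgroup T) := by
      rw [← ht, hy, Sylow.coe_subgroup_smul, Subgroup.mem_pointwise_smul_iff_inv_smul_mem]
      simpa [MulAut.smul_def, mul_assoc] using hQ₀ (Subgroup.mem_zpowers _)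
    have hyK : (y : PG3 F) ∈ K := by
      have := t.2
      rw [hy]
      simp only [hT] at t this ⊢
      exact (Subgroup.mem_normalizer_iff.mp this _).mp x.2
    have hy1 : (y : PG3 F) ≠ 1 := by
      intro q
      rw [hy] at q
      simp only [Subgroup.coe_mul, InvMemClass.coe_inv, conj_eq_one_iff] at q
      rw [OneMemClass.coe_eq_one.mp q, orderOf_one] at hx
      omega
    -- a fixed point of `E` on the intersection
    obtain ⟨P, hP⟩ : ∃ P, P = K ⊓ (Q' : Subgroup T).map T.subtype := ⟨_, rfl⟩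
    have hEQ : E h ≤ (Q' : Subgroup T).map T.subtype := fun e he => ⟨⟨e, hET he⟩, hQ' he, rfl⟩
    have hEP : E h ≤ Subgroup.normalizer (P : Set (PG3 F)) := fun e he => by
      refine mem_normalizer_of_conj_smul ?_
      rw [hP, Subgroup.smul_inf, conj_smul_of_mem_normalizer (hEK he),
        conj_smul_of_mem_normalizer (Subgroup.le_normalizer (hEQ he))]
    letI : MulAction (E h) P :=
      { smul := fun e z => ⟨(e : PG3 F) * z * (e : PG3 F)⁻¹, (Subgroup.mem_normalizer_iff.mp (hEP e.2) _).mp z.2⟩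
        one_smul := fun z => Subtype.ext (by show ((1 : E h) : PG3 F) * z * ((1 : E h) : PG3 F)⁻¹ = z; simp)
        mul_smul := fun e f z => Subtype.ext (by
          show ((e * f : E h) : PG3 F) * z * ((e * f : E h) : PG3 F)⁻¹ =
            (e : PG3 F) * ((f : PG3 F) * z * (f : PG3 F)⁻¹) * (e : PG3 F)⁻¹
          simp [mul_assoc]) }
    have hPp : IsPGroup 3 P := by
      have := (Q'.isPGroup'.map T.subtype).to_le (show P ≤ (Q' : Subgroup T).map T.subtype from hP ▸ inf_le_right)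
      exact this
    have hyP : (y : PG3 F) ∈ P := hP ▸ ⟨hyK, y, hyQ, rfl⟩
    haveI : Nontrivial P := ⟨⟨⟨_, hyP⟩, 1, fun q => hy1 (congrArg Subtype.val q)⟩⟩
    obtain ⟨n, hn0, hn⟩ := hPp.nontrivial_iff_card.mp ‹_›
    obtain ⟨z, hz, hz1⟩ := hE3.exists_fixed_point_of_prime_dvd_card_of_fixed_point P
      (hn ▸ dvd_pow_self 3 hn0.ne') (a := (1 : P)) (fun e => Subtype.ext (by
        show (e : PG3 F) * 1 * (e : PG3 F)⁻¹ = 1
        simp))
    refine hz1 (Subtype.ext ?_).symm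
    refine hfix z (hP.le z.2).1 fun e => ?_
    have := congrArg Subtype.val (hz ⟨_, e, rfl⟩)
    exact (mul_inv_eq_iff_eq_mul.mp this).symm
  have hco : (Nat.card (E h)).Coprime (Nat.card K) :=
    Nat.Coprime.coprime_dvd_left (card_E_dvd h)
      (show Nat.Coprime (3 ^ 2) (Nat.card K) from Nat.Coprime.pow_left 2 (Nat.prime_three.coprime_iff_not_dvd.mpr h3))
  have hcent : K ⊓ Subgroup.centralizer (E h : Set (PG3 F)) = ⊥ := by
    rw [eq_bot_iff]
    rintro z ⟨hz, hzc⟩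
    exact hfix z hz fun e => ((Subgroup.mem_centralizer_iff.mp hzc) _ ⟨e, rfl⟩).symm
  have hK1 : Nat.card K ≠ 1 := by
    intro q
    obtain ⟨s, hs, hsn⟩ := hns
    rw [Subgroup.card_eq_one] at q
    have : pj F s ∈ K := hK ▸ Subgroup.mem_map_of_mem _ hs
    rw [q, Subgroup.mem_bot] at this
    obtain ⟨c, hc⟩ := pj_eq_one.mp this
    exact hsn c hc
  obtain ⟨l, hl, hlK⟩ := Nat.exists_prime_and_dvd hK1
  haveI := Fact.mk hl
  have hl3 : l ≠ 3 := fun q => h3 (q ▸ hlK)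
  have hsol : Group.IsSolvable (E h) ∨ Group.IsSolvable K :=
    Or.inl (Group.isSolvable_of_comm fun s t => (E_comm h).is_comm.comm s t)
  obtain ⟨P, hP, hPE⟩ := exists_invariant_sylow hEK hco hsol l
  have hPne : P ≠ ⊥ := by
    intro q
    have := hP.2
    rw [q, Subgroup.card_bot] at this
    have hf : 0 < (Nat.card K).factorization l := hl.factorization_pos_of_dvd Nat.card_pos.ne' hlK
    exact absurd this.symm (Nat.one_lt_pow hf.ne' hl.one_lt).ne'
  -- a central element commuting with a frame element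
  obtain ⟨Z, hZ⟩ : ∃ Z : Subgroup (PG3 F), Z = P ⊓ Subgroup.centralizer (P : Set (PG3 F)) := ⟨_, rfl⟩
  have hEZ : E h ≤ Subgroup.normalizer (Z : Set (PG3 F)) := fun e he => by
    refine mem_normalizer_of_conj_smul ?_
    rw [hZ, Subgroup.smul_inf, conj_smul_of_mem_normalizer (hPE he)]
    congr 1
    have hm := Subgroup.mem_normalizer_iff.mp (hPE he)
    ext x
    rw [mem_conj_smul, Subgroup.mem_centralizer_iff, Subgroup.mem_centralizer_iff]
    constructor
    · intro hx v hv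
      have := hx (e⁻¹ * v * e) ((hm _).mpr (by rw [show e * (e⁻¹ * v * e) * e⁻¹ = v by group]; exact hv))
      calc v * x = e * ((e⁻¹ * v * e) * (e⁻¹ * x * e)) * e⁻¹ := by group
        _ = e * ((e⁻¹ * x * e) * (e⁻¹ * v * e)) * e⁻¹ := by rw [this]
        _ = x * v := by group
    · intro hx v hv
      have := hx (e * v * e⁻¹) ((hm v).mp hv)
      calc v * (e⁻¹ * x * e) = e⁻¹ * ((e * v * e⁻¹) * x) * e := by group
        _ = e⁻¹ * (x * (e * v * e⁻¹)) * e := by rw [this]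
        _ = e⁻¹ * x * e * v := by group
  have hZne : Z ≠ ⊥ := by
    haveI : Nontrivial P := (Subgroup.nontrivial_iff_ne_bot P).mpr hPne
    haveI := hP.isPGroup.center_nontrivial
    obtain ⟨w, hw⟩ := exists_ne (1 : Subgroup.center P)
    intro q
    have hwZ : ((w : P) : PG3 F) ∈ Z := hZ ▸ ⟨(w : P).2, Subgroup.mem_centralizer_iff.mpr fun v hv =>
      congrArg Subtype.val (Subgroup.mem_center_iff.mp w.2 ⟨v, hv⟩)⟩
    rw [q, Subgroup.mem_bot] at hwZ
    exact hw (Subtype.ext (Subtype.ext hwZ))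
  obtain ⟨u, hu, z, hzZ, hz1, hzu⟩ : ∃ u : Fin 3 × Fin 3, u ≠ 0 ∧ ∃ z ∈ Z, z ≠ 1 ∧
      z * pj F (rG h u) = pj F (rG h u) * z := by
    by_contra hno
    push Not at hno
    have hgen := gen_eq (E h) Z (E_comm h) hEZ
      (hco.coprime_dvd_right (Subgroup.card_dvd_of_le (hZ ▸ inf_le_left.trans hP.1)))
    refine hZne (eq_bot_iff.mpr (hgen ▸ iSup₂_le fun B hB => ?_))
    obtain ⟨hBE, a, ha, hBa⟩ := hB
    rintro z ⟨hz, hzB⟩
    by_contra hz1
    rw [Subgroup.mem_bot] at hz1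
    have hB0 : ∀ e, pj F (rG h e) ∈ B → e = 0 := fun e he => by
      by_contra he0
      exact hno e he0 z hz hz1 ((Subgroup.mem_centralizer_iff.mp hzB) _ he).symm
    obtain ⟨d, rfl⟩ := ha
    have hle : E h ≤ Subgroup.zpowers (pj F (rG h d)) := by
      refine hBa.ge.trans (sup_le (fun b hb => ?_) le_rfl)
      obtain ⟨e, rfl⟩ := hBE hb
      have := hB0 e hb
      subst this
      show pj F (rG h 0) ∈ _
      rw [show pj F (rG h 0) = 1 from pj_eq_one.mpr ⟨1, by rw [rG_val, rm_zero, one_smul]⟩]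
      exact one_mem _
    have hc2 : pj F (rG h (1, 0)) * pj F (rG h (0, 1)) = pj F (rG h (0, 1)) * pj F (rG h (1, 0)) := by
      rw [← pj_rG_add, ← pj_rG_add, add_comm]
    obtain ⟨i, hi⟩ := Subgroup.mem_zpowers_iff.mp (hle ⟨(1, 0), rfl⟩)
    obtain ⟨j, hj⟩ := Subgroup.mem_zpowers_iff.mp (hle ⟨(0, 1), rfl⟩)
    have hmult : ∀ n : ℤ, ∃ m : Fin 3, pj F (rG h d) ^ n = pj F (rG h (m * d.1, m * d.2)) := by
      intro n
      induction n using Int.induction_on with
      | zero => exact ⟨0, by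
          rw [zpow_zero, show ((0 * d.1, 0 * d.2) : Fin 3 × Fin 3) = 0 by revert d; intros; simp]
          exact (pj_eq_one.mpr ⟨1, by rw [rG_val, rm_zero, one_smul]⟩).symm⟩
      | succ n ih =>
        obtain ⟨m, hm⟩ := ih
        refine ⟨m + 1, ?_⟩
        rw [_root_.zpow_add_one, hm, ← pj_rG_add]
        congr 2
        exact (show ∀ (m : Fin 3) (d : Fin 3 × Fin 3), (m * d.1, m * d.2) + d = ((m + 1) * d.1, (m + 1) * d.2) by
          decide +kernel) m d
      | pred n ih =>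
        obtain ⟨m, hm⟩ := ih
        refine ⟨m - 1, mul_right_cancel (b := pj F (rG h d)) ?_⟩
        rw [_root_.zpow_sub_one, inv_mul_cancel_right, hm, ← pj_rG_add]
        congr 2
        exact (show ∀ (m : Fin 3) (d : Fin 3 × Fin 3), (m * d.1, m * d.2) = ((m - 1) * d.1, (m - 1) * d.2) + d by
          decide +kernel) m d
    have hinj : ∀ e f, pj F (rG h e) = pj F (rG h f) → e = f := by
      intro e f q
      have h1 : pj F (rG h (e - f)) = 1 := mul_right_cancel (b := pj F (rG h f)) (by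
        rw [← pj_rG_add, sub_add_cancel, one_mul, q])
      obtain ⟨c, hc⟩ := pj_eq_one.mp h1
      rw [rG_val] at hc
      by_contra hne
      have := congrArg Matrix.trace hc
      rw [trace_rm h (sub_ne_zero.mpr hne), Matrix.trace_smul, Matrix.trace_one, Fintype.card_fin, smul_eq_mul] at this
      have hc0 : c = 0 := (mul_eq_zero.mp this.symm).resolve_right (by exact_mod_cast h.three)
      have := det_rm h (e - f)
      rw [hc, hc0, zero_smul, Matrix.det_zero] at this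
      exact zero_ne_one this
    obtain ⟨m, hm⟩ := hmult i
    obtain ⟨m', hm'⟩ := hmult j
    rw [hi] at hm
    rw [hj] at hm'
    have h10 := hinj _ _ hm
    have h01 := hinj _ _ hm'
    exact (show ∀ (m m' : Fin 3) (d : Fin 3 × Fin 3),
      ((1, 0) : Fin 3 × Fin 3) = (m * d.1, m * d.2) → ((0, 1) : Fin 3 × Fin 3) = (m' * d.1, m' * d.2) → False by
        decide +kernel) m m' d h10 h01
  -- lifts
  obtain ⟨⟨v, huv⟩, huw, hspan⟩ := exists_moved u hu
  have hlift : ∀ x ∈ P, ∃ s : GL (Fin 3) F, pj F s = x ∧ (s : Matrix (Fin 3) (Fin 3) F).det = 1 ∧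
      ∃ n, ∃ c : F, ((s ^ (l ^ n) : GL (Fin 3) F) : Matrix (Fin 3) (Fin 3) F) = c • 1 := by
    intro x hx
    have hxK := hP.1 hx
    rw [hK] at hxK
    obtain ⟨s, hs, rfl⟩ := hxK
    obtain ⟨n, hn⟩ := hP.isPGroup ⟨_, hx⟩
    refine ⟨s, rfl, hdet s hs, n, pj_eq_one.mp ?_⟩
    rw [map_pow]
    exact congrArg Subtype.val hn
  have hroot : ∀ (n : ℕ) (c : F), c ^ (l ^ n) = 1 → c ^ 3 = 1 → c = 1 := fun n c h1 h2 => by
    have := pow_gcd_eq_one.mpr ⟨h1, h2⟩
    rwa [show Nat.gcd (l ^ n) 3 = 1 from ((Nat.coprime_primes hl Nat.prime_three).mpr hl3).pow_left n, pow_one] at this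
  have htwist : ∀ (s : GL (Fin 3) F) (n : ℕ) (d : F),
      ((s ^ (l ^ n) : GL (Fin 3) F) : Matrix (Fin 3) (Fin 3) F) = d • 1 → ∀ (Y : GL (Fin 3) F) (c : F),
      (s : Matrix (Fin 3) (Fin 3) F) * (Y : Matrix (Fin 3) (Fin 3) F) =
        c • ((Y : Matrix (Fin 3) (Fin 3) F) * (s : Matrix (Fin 3) (Fin 3) F)) → c ^ (l ^ n) = 1 := by
    intro s n d hd Y c hc
    have hpow : ∀ m : ℕ, ((s ^ m : GL (Fin 3) F) : Matrix (Fin 3) (Fin 3) F) * (Y : Matrix (Fin 3) (Fin 3) F) =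
        c ^ m • ((Y : Matrix (Fin 3) (Fin 3) F) * ((s ^ m : GL (Fin 3) F) : Matrix (Fin 3) (Fin 3) F)) := by
      intro m
      induction m with
      | zero => simp
      | succ m ih =>
        rw [pow_succ s, Units.val_mul, Matrix.mul_assoc, hc, Matrix.mul_smul, ← Matrix.mul_assoc, ih, Matrix.smul_mul,
          smul_smul, Matrix.mul_assoc, ← pow_succ' c]
    have := hpow (l ^ n)
    rw [hd, Matrix.smul_mul, Matrix.one_mul, Matrix.mul_smul, Matrix.mul_one, smul_smul] at this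
    have hd0 : d ≠ 0 := fun q => (s ^ (l ^ n)).ne_zero (by rw [hd, q, zero_smul])
    exact mul_right_cancel₀ hd0 ((smul_left_injective F Y.ne_zero this).symm.trans (one_mul d).symm)
  have hdet3 : ∀ (A B : GL (Fin 3) F) (c : F),
      (A : Matrix (Fin 3) (Fin 3) F) * (B : Matrix (Fin 3) (Fin 3) F) =
        c • ((B : Matrix (Fin 3) (Fin 3) F) * (A : Matrix (Fin 3) (Fin 3) F)) → c ^ 3 = 1 := by
    intro A B c hc
    have := congrArg Matrix.det hc
    rw [Matrix.det_smul, Matrix.det_mul, Matrix.det_mul, Fintype.card_fin,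
      mul_comm (B : Matrix (Fin 3) (Fin 3) F).det] at this
    exact mul_right_cancel₀ (mul_ne_zero ((Matrix.isUnit_iff_isUnit_det _).mp A.isUnit).ne_zero
      ((Matrix.isUnit_iff_isUnit_det _).mp B.isUnit).ne_zero) (this.symm.trans (one_mul _).symm)
  have hexact : ∀ x ∈ P, ∀ (s : GL (Fin 3) F), pj F s = x → ∀ (Y : GL (Fin 3) F), x * pj F Y = pj F Y * x →
      (∃ n, ∃ c : F, ((s ^ (l ^ n) : GL (Fin 3) F) : Matrix (Fin 3) (Fin 3) F) = c • 1) →
      (s : Matrix (Fin 3) (Fin 3) F) * (Y : Matrix (Fin 3) (Fin 3) F) =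
        (Y : Matrix (Fin 3) (Fin 3) F) * (s : Matrix (Fin 3) (Fin 3) F) := by
    rintro x - s rfl Y hY ⟨n, d, hd⟩
    obtain ⟨c, hc⟩ := pj_comm.mp hY
    rw [hc, hroot n c (htwist s n d hd Y c hc) (hdet3 s Y c hc), one_smul]
  -- the whole Sylow subgroup commutes with the clock
  have hzP : z ∈ P := (hZ ▸ hzZ : z ∈ P ⊓ _).1
  have hzc : ∀ x ∈ P, x * z = z * x := fun x hx =>
    (Subgroup.mem_centralizer_iff.mp (hZ ▸ hzZ : z ∈ P ⊓ _).2) x hx
  obtain ⟨sz, hsz, -, hszn⟩ := hlift z hzP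
  have hzns : ∀ c : F, (sz : Matrix (Fin 3) (Fin 3) F) ≠ c • 1 := fun c q => hz1 (hsz ▸ pj_eq_one.mpr ⟨c, q⟩)
  have hPu : ∀ x ∈ P, x * pj F (rG h u) = pj F (rG h u) * x := by
    intro x hx
    obtain ⟨s, hs, -, hsn⟩ := hlift x hx
    have hz' : pj F (rG h v) * z * (pj F (rG h v))⁻¹ ∈ Z :=
      (Subgroup.mem_normalizer_iff.mp (hEZ ⟨v, rfl⟩) _).mp hzZ
    have e := commutes_clock h huv (hexact z hzP sz hsz (rG h u) hzu hszn) hzns
      (Z' := ((rG h v * sz * (rG h v)⁻¹ : GL (Fin 3) F) : Matrix (Fin 3) (Fin 3) F))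
      (by rw [← rG_val h v, ← Units.val_mul, ← Units.val_mul, inv_mul_cancel_right])
      (hexact x hx s hs sz (by rw [hsz]; exact hzc x hx) hsn)
      (hexact x hx s hs _ (by
        rw [map_mul, map_mul, map_inv, hsz]
        exact (Subgroup.mem_centralizer_iff.mp (hZ ▸ hz' : _ ∈ P ⊓ _).2) x hx) hsn)
    rw [← hs]
    exact pj_comm.mpr ⟨1, by rw [one_smul, rG_val]; exact e⟩
  -- uniqueness of the invariant Sylow subgroup
  obtain ⟨g, hg⟩ : ∃ g, g = pj F Q := ⟨_, rfl⟩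
  have hgK : g ∈ Subgroup.normalizer (K : Set (PG3 F)) := hg ▸ hmap hQS
  have hgE : ∀ e, g * pj F (rG h e) = pj F (rG h (act 0 e)) * g := by
    intro e
    obtain ⟨c, hc⟩ := qm_rm h 0 e
    rw [hg, ← map_mul, ← map_mul, ← mul_inv_eq_one, ← map_inv, ← map_mul, pj_eq_one]
    refine ⟨pw ω c, ?_⟩
    rw [Units.val_mul, Units.val_mul, hQ, rG_val, hc, ← rG_val h (act 0 e), ← hQ, ← Units.val_mul, Matrix.smul_mul,
      ← Units.val_mul, mul_inv_cancel, Units.val_one]
  have hgP : E h ≤ Subgroup.normalizer ((MulAut.conj g • P : Subgroup (PG3 F)) : Set (PG3 F)) := by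
    rintro _ ⟨e, rfl⟩
    obtain ⟨f, hf⟩ := (show ∀ e : Fin 3 × Fin 3, ∃ f, act 0 f = e by decide +kernel) e
    refine mem_normalizer_of_conj_smul ?_
    rw [conj_smul_conj, ← hf, ← hgE f, ← conj_smul_conj, conj_smul_of_mem_normalizer (hPE ⟨f, rfl⟩)]
  obtain ⟨c, hc, hPg⟩ := invariant_sylow_conj hEK hco hsol hP (hP.conj hgK) hPE hgP
  rw [hcent, Subgroup.mem_bot] at hc
  rw [hc, map_one, one_smul] at hPg
  have hPw : ∀ x ∈ P, x * pj F (rG h (act 0 u)) = pj F (rG h (act 0 u)) * x := by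
    intro x hx
    rw [hPg, mem_conj_smul] at hx
    have := hPu _ hx
    have e1 : g * (g⁻¹ * x * g * pj F (rG h u)) * g⁻¹ = g * (pj F (rG h u) * (g⁻¹ * x * g)) * g⁻¹ := by rw [this]
    calc x * pj F (rG h (act 0 u)) = g * (g⁻¹ * x * g * pj F (rG h u)) * g⁻¹ := by
          rw [eq_mul_inv_of_mul_eq (hgE u).symm]; group
      _ = g * (pj F (rG h u) * (g⁻¹ * x * g)) * g⁻¹ := e1
      _ = _ := by rw [eq_mul_inv_of_mul_eq (hgE u).symm]; group
  obtain ⟨x, hxP, hx1⟩ := (Subgroup.bot_or_exists_ne_one P).resolve_left hPne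
  refine hx1 (hfix x (hP.1 hxP) fun e => ?_)
  obtain ⟨i, j, he⟩ := hspan e
  rw [he]
  have hm : ∀ (w : Fin 3 × Fin 3) (i : Fin 3), x * pj F (rG h w) = pj F (rG h w) * x →
      x * pj F (rG h (i * w.1, i * w.2)) = pj F (rG h (i * w.1, i * w.2)) * x := by
    intro w i hw
    have e1 : pj F (rG h 0) = 1 := pj_eq_one.mpr ⟨1, by rw [rG_val, rm_zero, one_smul]⟩
    fin_cases i
    · simp only [show ((((0 : Fin 3) : ℕ) : ℕ)) = 0 from rfl]
      rw [show (((⟨0, by decide⟩ : Fin 3) * w.1, (⟨0, by decide⟩ : Fin 3) * w.2) : Fin 3 × Fin 3) = 0 by simp, e1,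
        one_mul, mul_one]
    · rw [show (((⟨1, by decide⟩ : Fin 3) * w.1, (⟨1, by decide⟩ : Fin 3) * w.2) : Fin 3 × Fin 3) = w by simp]
      exact hw
    · rw [show (((⟨2, by decide⟩ : Fin 3) * w.1, (⟨2, by decide⟩ : Fin 3) * w.2) : Fin 3 × Fin 3) = w + w from
        (show ∀ w : Fin 3 × Fin 3, ((2 : Fin 3) * w.1, (2 : Fin 3) * w.2) = w + w by decide +kernel) w, pj_rG_add,
        ← mul_assoc, hw, mul_assoc, hw, ← mul_assoc]
  rw [show ((i * u.1 + j * (act 0 u).1, i * u.2 + j * (act 0 u).2) : Fin 3 × Fin 3) =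
    (i * u.1, i * u.2) + (j * (act 0 u).1, j * (act 0 u).2) from rfl, pj_rG_add, ← mul_assoc, hm u i (hPu x hxP),
    mul_assoc, hm _ j (hPw x hxP), ← mul_assoc]

end Cfsg.Agent.Classical.TriFrame.Small
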