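/-
An element acting by scalars on two blocks only gives the whole supported small frames, supported quarter turns
and all diagonal pairs.
-/
import Cfsg.Agent.Lib.Classical.TriFrame.Cent
import Cfsg.Agent.Lib.Classical.TriFrame.Small

set_option autoImplicit false
set_option linter.unusedSectionVars false

namespace Cfsg.Agent.Classical.TriFrame

open Matrix Kronecker
open Cfsg.Agent.Classical.LinThree.Hess

variable {F : Type*} [Field F] {ω : F} {X : Subgroup (GL P9 F)}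

/-- A matrix supported on one block. -/
def sup (i : Fin 3) (M : Matrix (Fin 3) (Fin 3) F) : Matrix P9 P9 F :=
  blockDiagonal fun k => if k = i then M else 1

theorem sup_mul (i : Fin 3) (A B : Matrix (Fin 3) (Fin 3) F) : sup i A * sup i B = sup i (A * B) := by
  rw [sup, sup, sup, ← blockDiagonal_mul]
  refine congrArg blockDiagonal (funext fun k => ?_)
  split_ifs <;> simp

theorem sup_one (i : Fin 3) : sup i (1 : Matrix (Fin 3) (Fin 3) F) = 1 := by
  rw [sup, ← blockDiagonal_one]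
  exact congrArg blockDiagonal (funext fun k => by split_ifs <;> rfl)

theorem sup_apply (i : Fin 3) (A : Matrix (Fin 3) (Fin 3) F) (x y : P9) :
    sup i A x y = if x.2 = i ∧ y.2 = i then A x.1 y.1 else if x = y then 1 else 0 := by
  obtain ⟨a, k⟩ := x
  obtain ⟨b, l⟩ := y
  simp only [sup, blockDiagonal_apply, Prod.mk.injEq]
  by_cases hk : k = l
  · subst hk
    by_cases hi : k = i
    · simp [hi]
    · simp [hi, Matrix.one_apply]
  · by_cases hi : k = i
    · have : l ≠ i := fun q => hk (hi.trans q.symm)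
      simp [hk, this]
    · simp [hk, hi]

theorem sup_conj (i : Fin 3) (P : Matrix (Fin 3) (Fin 3) F) (A B : Matrix (Fin 3) (Fin 3) F) (h : P * A = B * P) :
    (P ⊗ₖ (1 : Matrix (Fin 3) (Fin 3) F)) * sup i A = sup i B * (P ⊗ₖ (1 : Matrix (Fin 3) (Fin 3) F)) := by
  rw [kron_one, sup, sup, ← blockDiagonal_mul, ← blockDiagonal_mul]
  refine congrArg blockDiagonal (funext fun k => ?_)
  split_ifs <;> simp [h]

theorem sup_shift (h : Om ω) (i a : Fin 3) (A : Matrix (Fin 3) (Fin 3) F) :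
    W ω (0, (a, 0)) * sup i A = sup (i + a) A * W ω (0, (a, 0)) := by
  rw [W_shift h, sup, sup, shift_mul_blockDiagonal, blockDiagonal_mul_shift]
  ext x y
  simp only [Matrix.of_apply, sub_eq_iff_eq_add]

theorem kron_one_inj {P : Matrix (Fin 3) (Fin 3) F} (hP : IsUnit (P ⊗ₖ (1 : Matrix (Fin 3) (Fin 3) F))) :
    IsUnit P.det := by
  rw [kron_one] at hP
  exact bd_units hP 0

/-- The elements supported on a block. -/
def Sgrp (X : Subgroup (GL P9 F)) (i : Fin 3) : Subgroup (GL (Fin 3) F) where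
  carrier := {s | Mem X (sup i (s : Matrix (Fin 3) (Fin 3) F))}
  one_mem' := by simp [sup_one, Mem.one]
  mul_mem' := fun {a b} ha hb => by
    have := ha.mul hb
    rwa [sup_mul, ← Units.val_mul] at this
  inv_mem' := fun {a} ha => ha.inv (by rw [sup_mul, ← Units.val_mul, mul_inv_cancel, Units.val_one, sup_one])

theorem mem_Sgrp {i : Fin 3} {s : GL (Fin 3) F} : s ∈ Sgrp X i ↔ Mem X (sup i (s : Matrix (Fin 3) (Fin 3) F)) :=
  Iff.rfl

theorem Sgrp_det (hX : Gens ω X) {i : Fin 3} {s : GL (Fin 3) F} (hs : s ∈ Sgrp X i) :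
    (s : Matrix (Fin 3) (Fin 3) F).det = 1 := by
  obtain ⟨g, hg, e⟩ := hs
  have h1 := hX.det g hg
  rw [e, sup, det_blockDiagonal, Finset.prod_eq_single i (fun k _ hk => by simp [hk]) (by simp), if_pos rfl] at h1
  exact h1

theorem conj_mem_Sgrp {i : Fin 3} {P : GL (Fin 3) F} (hP : Mem X ((P : Matrix (Fin 3) (Fin 3) F) ⊗ₖ (1 : Matrix (Fin 3) (Fin 3) F)))
    {s : GL (Fin 3) F} (hs : s ∈ Sgrp X i) : P * s * P⁻¹ ∈ Sgrp X i :=
  hP.conj hs (sup_conj i _ _ _ (by rw [← Units.val_mul, ← Units.val_mul, inv_mul_cancel_right]))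

theorem mem_normalizer_Sgrp {i : Fin 3} {P : GL (Fin 3) F}
    (hP : Mem X ((P : Matrix (Fin 3) (Fin 3) F) ⊗ₖ (1 : Matrix (Fin 3) (Fin 3) F))) :
    P ∈ Subgroup.normalizer (Sgrp X i : Set (GL (Fin 3) F)) := by
  have hP' : Mem X (((P⁻¹ : GL (Fin 3) F) : Matrix (Fin 3) (Fin 3) F) ⊗ₖ (1 : Matrix (Fin 3) (Fin 3) F)) :=
    hP.inv (by rw [← mul_kronecker_mul, ← Units.val_mul, mul_inv_cancel, Units.val_one, Matrix.one_mul,
      one_kronecker_one])
  refine Subgroup.mem_normalizer_iff.mpr fun s => ⟨conj_mem_Sgrp hP, fun hs => ?_⟩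
  have := conj_mem_Sgrp hP' hs
  rwa [show P⁻¹ * (P * s * P⁻¹) * P⁻¹⁻¹ = s by group] at this

theorem frame_fst (e : Fin 3 × Fin 3) : W ω (e, 0) = rm ω e ⊗ₖ (1 : Matrix (Fin 3) (Fin 3) F) := by
  rw [W, rm_zero]

theorem twisted_of_comm {A B : Matrix (Fin 3) (Fin 3) F} (hA : IsUnit A.det) (hB : IsUnit B.det) {c : F}
    (h : A * B * A⁻¹ * B⁻¹ = c • 1) : A * B = c • (B * A) := by
  have := congrArg (fun Y => Y * B * A) h
  simp only [Matrix.smul_mul, Matrix.one_mul] at this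
  rw [← this, Matrix.mul_assoc _ B⁻¹, Matrix.nonsing_inv_mul _ hB, Matrix.mul_one, Matrix.mul_assoc,
    Matrix.nonsing_inv_mul _ hA, Matrix.mul_one]

variable [Fintype F]

/-- **Supported small frames.** -/
theorem sup_rm_mem (hX : Gens ω X) (hmix : Mixed X) (i : Fin 3) (d : Fin 3) (e : Fin 3 × Fin 3) :
    Mem X (sup i (pw ω d • rm ω e)) := by
  have h := hX.om
  obtain ⟨M, hM, i₀, hsc, hns⟩ := hmix
  have hMu := bd_units hM.isUnit
  -- a non-scalar supported element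
  have hex : ∃ s ∈ Sgrp X i₀, ∀ c : F, (s : Matrix (Fin 3) (Fin 3) F) ≠ c • 1 := by
    by_contra hno
    push Not at hno
    have key : ∀ (P : Matrix (Fin 3) (Fin 3) F), Mem X (P ⊗ₖ (1 : Matrix (Fin 3) (Fin 3) F)) →
        ∃ c : F, M i₀ * P = c • (P * M i₀) := by
      intro P hP
      have hPu := kron_one_inj hP.isUnit
      have h1 := hM.comm (D := fun _ => P) (by rwa [← kron_one])
      have hC : IsUnit (M i₀ * P * (M i₀)⁻¹ * P⁻¹).det := bd_units h1.isUnit i₀
      obtain ⟨c, hc⟩ := hno (GeneralLinearGroup.mkOfDetNeZero _ hC.ne_zero) (by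
        show Mem X (sup i₀ (M i₀ * P * (M i₀)⁻¹ * P⁻¹))
        rw [sup]
        convert h1 using 3
        rename_i k
        by_cases hk : k = i₀
        · rw [if_pos hk, hk]
        · obtain ⟨c, hc⟩ := hsc k hk
          rw [if_neg hk, comm_self_one (hMu k) hPu (by rw [hc, Matrix.smul_mul, Matrix.one_mul, Matrix.mul_smul,
            Matrix.mul_one])])
      exact ⟨c, twisted_of_comm (hMu i₀) hPu hc⟩
    obtain ⟨c, b, hc0, hcb⟩ := rm_of_twisted h (fun q => by
      have := hMu i₀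
      rw [q, Matrix.det_zero] at this
      exact not_isUnit_zero this) (fun e => key _ (frame_fst (ω := ω) e ▸ hX.frame _))
    obtain ⟨μ, hμ⟩ := key _ (hX.quarter 0)
    obtain ⟨d, hd⟩ := qm_rm h 0 b
    rw [hcb, Matrix.smul_mul, Matrix.mul_smul, hd, smul_smul, smul_smul] at hμ
    have hu : IsUnit (qm ω 0) := by rw [Matrix.isUnit_iff_isUnit_det, det_qm h]; exact isUnit_one
    have h2 : c • rm ω b = (μ * (c * pw ω d)) • rm ω (act 0 b) := by
      rw [← Matrix.smul_mul, ← Matrix.smul_mul] at hμ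
      rw [← mul_assoc]
      exact hu.mul_right_cancel hμ
    have hb : b = 0 := by
      by_contra hb0
      have hne : b ≠ act 0 b := (show ∀ b : Fin 3 × Fin 3, b ≠ 0 → b ≠ act 0 b by decide +kernel) b hb0
      have hli : LinearIndependent F (rm ω : Fin 3 × Fin 3 → Matrix (Fin 3) (Fin 3) F) :=
        linearIndependent_of_top_le_span_of_card_eq_finrank (span_rm h).ge (by simp [Module.finrank_matrix])
      exact hc0 (hli.eq_zero_of_smul_mem_span b c (by
        rw [h2]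
        exact Submodule.smul_mem _ _ (Submodule.subset_span ⟨act 0 b, ⟨trivial, Ne.symm hne⟩, rfl⟩)))
    exact hns c (by rw [hcb, hb, rm_zero])
  obtain ⟨Q, hQ⟩ : ∃ Q : GL (Fin 3) F, (Q : Matrix (Fin 3) (Fin 3) F) = qm ω 0 :=
    ⟨GeneralLinearGroup.mkOfDetNeZero (qm ω 0) ((det_qm h 0).symm ▸ one_ne_zero), rfl⟩
  have hrN : ∀ e, Small.rG h e ∈ Subgroup.normalizer (Sgrp X i₀ : Set (GL (Fin 3) F)) := fun e =>
    mem_normalizer_Sgrp (by rw [Small.rG_val, ← frame_fst]; exact hX.frame _)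
  obtain ⟨s, hs, c, b, hb, hsb⟩ := Small.exists_frame_elem h (Sgrp X i₀) (fun s hs => Sgrp_det hX hs) hrN hQ
    (mem_normalizer_Sgrp (hQ ▸ hX.quarter 0)) hex
  -- the translations obtained
  obtain ⟨T, hT⟩ : ∃ T : Fin 3 × Fin 3 → Prop, ∀ e, T e ↔ ∃ d, Mem X (sup i₀ (pw ω d • rm ω e)) :=
    ⟨_, fun e => Iff.rfl⟩
  have hTadd : ∀ e f, T e → T f → T (e + f) := fun e f he hf => by
    obtain ⟨d, hd⟩ := (hT e).mp he
    obtain ⟨d', hd'⟩ := (hT f).mp hf
    refine (hT _).mpr ⟨d + d' + e.2 * f.1, ?_⟩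
    have := hd.mul hd'
    rwa [sup_mul, Matrix.smul_mul, Matrix.mul_smul, rm_mul h, smul_smul, smul_smul, ← pw_add h, ← pw_add h] at this
  have hTact : ∀ k e, T e → T (act k e) := fun k e he => by
    obtain ⟨d, hd⟩ := (hT e).mp he
    obtain ⟨d', hd'⟩ := qm_rm h k e
    refine (hT _).mpr ⟨d + d', (hX.quarter k).conj hd (sup_conj i₀ _ _ _ ?_)⟩
    rw [Matrix.mul_smul, hd', smul_smul, ← pw_add h, Matrix.smul_mul]
  have hTb : T (act 0 b - b) := by
    obtain ⟨d, hd⟩ := qm_rm h 0 b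
    obtain ⟨d', hd'⟩ : ∃ d', rm ω (act 0 b) * rm ω (-b) = pw ω d' • rm ω (act 0 b - b) :=
      ⟨_, by rw [rm_mul h, sub_eq_add_neg]⟩
    obtain ⟨d'', hd''⟩ : ∃ d'', rm ω b * rm ω (-b) = pw ω d'' • (1 : Matrix (Fin 3) (Fin 3) F) :=
      ⟨_, by rw [rm_mul h, add_neg_cancel, rm_zero]⟩
    refine (hT _).mpr ⟨d + d' - d'', ?_⟩
    have h1 := (Sgrp X i₀).mul_mem (conj_mem_Sgrp (hQ ▸ hX.quarter 0) hs) ((Sgrp X i₀).inv_mem hs)
    rw [mem_Sgrp] at h1
    convert h1 using 2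
    have hu : IsUnit (s : Matrix (Fin 3) (Fin 3) F) := s.isUnit
    refine hu.mul_right_cancel ?_
    have eQ : ((Q * s * Q⁻¹ : GL (Fin 3) F) : Matrix (Fin 3) (Fin 3) F) * qm ω 0 =
        (c * pw ω d) • (rm ω (act 0 b) * qm ω 0) := by
      rw [← hQ, ← Units.val_mul, inv_mul_cancel_right, Units.val_mul, hQ, hsb, Matrix.mul_smul, hd, smul_smul]
    have eQ' : ((Q * s * Q⁻¹ : GL (Fin 3) F) : Matrix (Fin 3) (Fin 3) F) = (c * pw ω d) • rm ω (act 0 b) := by
      rw [← Matrix.smul_mul] at eQ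
      exact (hQ ▸ Q.isUnit : IsUnit (qm ω 0)).mul_right_cancel eQ
    have erm : rm ω (act 0 b - b) * rm ω b = (pw ω d'' * (pw ω d')⁻¹) • rm ω (act 0 b) := by
      have : pw ω d' • (rm ω (act 0 b - b) * rm ω b) = pw ω d'' • rm ω (act 0 b) := by
        rw [← Matrix.smul_mul, ← hd', Matrix.mul_assoc]
        have hcomm : rm ω (-b) * rm ω b = rm ω b * rm ω (-b) := by
          rw [rm_mul h, rm_mul h, add_comm]
          congr 2
          exact (show ∀ b : Fin 3 × Fin 3, (-b).2 * b.1 = b.2 * (-b).1 by decide +kernel) b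
        rw [hcomm, hd'', Matrix.mul_smul, Matrix.mul_one]
      rw [← inv_smul_smul₀ (pw_ne_zero h d') (rm ω (act 0 b - b) * rm ω b), this, smul_smul, mul_comm]
    have hne := pw_ne_zero h d'
    have hne'' := pw_ne_zero h d''
    rw [← Units.val_mul, inv_mul_cancel_right, eQ', hsb, Matrix.smul_mul, Matrix.mul_smul, erm, smul_smul, smul_smul]
    congr 1
    have e3 : pw ω (d + d' - d'') * pw ω d'' = pw ω d * pw ω d' := by rw [← pw_add h, ← pw_add h, sub_add_cancel]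
    field_simp
    linear_combination c * e3
  obtain ⟨b₁, hb₁⟩ : ∃ b₁, b₁ = act 0 b - b := ⟨_, rfl⟩
  have hTall : ∀ e, T e := by
    intro e
    have hb1 : b₁ ≠ 0 := hb₁ ▸ (show ∀ b : Fin 3 × Fin 3, b ≠ 0 → act 0 b - b ≠ 0 by decide +kernel) b hb
    have hT0 : T 0 := (hT 0).mpr ⟨0, by rw [pw_zero, one_smul, rm_zero, sup_one]; exact Mem.one⟩
    obtain ⟨x, y, he⟩ := (Small.exists_moved b₁ hb1).2.2 e
    have hmul : ∀ (f : Fin 3 × Fin 3) (x : Fin 3), T f → T (x * f.1, x * f.2) := by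
      intro f x hf
      rcases (show ∀ x : Fin 3, x = 0 ∨ x = 1 ∨ x = 2 by decide) x with rfl | rfl | rfl
      · rwa [show (((0 : Fin 3) * f.1, (0 : Fin 3) * f.2) : Fin 3 × Fin 3) = 0 from
          (show ∀ f : Fin 3 × Fin 3, ((0 : Fin 3) * f.1, (0 : Fin 3) * f.2) = (0 : Fin 3 × Fin 3) by decide +kernel) f]
      · rwa [show (((1 : Fin 3) * f.1, (1 : Fin 3) * f.2) : Fin 3 × Fin 3) = f from
          (show ∀ f : Fin 3 × Fin 3, ((1 : Fin 3) * f.1, (1 : Fin 3) * f.2) = f by decide +kernel) f]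
      · rw [show (((2 : Fin 3) * f.1, (2 : Fin 3) * f.2) : Fin 3 × Fin 3) = f + f from
          (show ∀ f : Fin 3 × Fin 3, ((2 : Fin 3) * f.1, (2 : Fin 3) * f.2) = f + f by decide +kernel) f]
        exact hTadd _ _ hf hf
    have := hTadd _ _ (hmul b₁ x (hb₁ ▸ hTb)) (hmul _ y (hTact 0 _ (hb₁ ▸ hTb)))
    rw [he]
    exact this
  -- all phases
  have hph : ∀ d : Fin 3, Mem X (sup i₀ (pw ω d • (1 : Matrix (Fin 3) (Fin 3) F))) := by
    obtain ⟨d1, hd1⟩ := (hT (1, 0)).mp (hTall _)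
    obtain ⟨d2, hd2⟩ := (hT (0, 1)).mp (hTall _)
    have h1 := hd1.comm hd2
    have e1 : Mem X (sup i₀ (pw ω (-1 : Fin 3) • (1 : Matrix (Fin 3) (Fin 3) F))) := by
      rw [sup]
      convert h1 using 3
      rename_i k
      split_ifs
      · have hu : ∀ (d : Fin 3) (e : Fin 3 × Fin 3), IsUnit (pw ω d • rm ω e).det := fun d e => by
          rw [Matrix.det_smul, det_rm h, mul_one]; exact (isUnit_iff_ne_zero.mpr (pw_ne_zero h _)).pow _
        have e2 : (pw ω d1 • rm ω (1, 0)) * (pw ω d2 • rm ω (0, 1)) =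
            pw ω (-1 : Fin 3) • ((pw ω d2 • rm ω (0, 1)) * (pw ω d1 • rm ω (1, 0))) := by
          rw [Matrix.smul_mul, Matrix.mul_smul, Matrix.smul_mul, Matrix.mul_smul, rm_comm h (1, 0) (0, 1)]
          simp only [smul_smul]
          rw [show ((1, 0) : Fin 3 × Fin 3).2 * ((0, 1) : Fin 3 × Fin 3).1 - ((0, 1) : Fin 3 × Fin 3).2 * ((1, 0) : Fin 3 × Fin 3).1 = (-1 : Fin 3) by decide]
          congr 1
          ring
        rw [e2, Matrix.smul_mul, Matrix.smul_mul, Matrix.mul_assoc _ (pw ω d1 • rm ω (1, 0)),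
          Matrix.mul_nonsing_inv _ (hu _ _), Matrix.mul_one, Matrix.mul_nonsing_inv _ (hu _ _)]
      · simp
    intro d
    rcases (show ∀ d : Fin 3, d = 0 ∨ d = -1 ∨ d = -1 + -1 by decide) d with rfl | rfl | rfl
    · rw [pw_zero, one_smul, sup_one]; exact Mem.one
    · exact e1
    · have := e1.mul e1
      rwa [sup_mul, Matrix.smul_mul, Matrix.one_mul, smul_smul, ← pw_add h] at this
  have h0 : ∀ d e, Mem X (sup i₀ (pw ω d • rm ω e)) := fun d e => by
    obtain ⟨d1, hd1⟩ := (hT e).mp (hTall e)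
    have := (hph (d - d1)).mul hd1
    rwa [sup_mul, Matrix.smul_mul, Matrix.one_mul, smul_smul, ← pw_add h, sub_add_cancel] at this
  have := (hX.frame (0, (i - i₀, 0))).conj (h0 d e) (sup_shift h i₀ (i - i₀) _)
  rwa [add_sub_cancel] at this

end Cfsg.Agent.Classical.TriFrame
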