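/-
Diagonal pairs and supported quarter turns.
-/
import Cfsg.Agent.Lib.Classical.TriFrame.Sup

set_option autoImplicit false
set_option linter.unusedSectionVars false

namespace Cfsg.Agent.Classical.TriFrame

open Matrix Kronecker
open Cfsg.Agent.Classical.LinThree.Hess

variable {F : Type*} [Field F] [Fintype F] {ω : F} {X : Subgroup (GL P9 F)}

/-- The diagonal pair at two coordinates. -/
def pd (ω : F) (x y : P9) : Matrix P9 P9 F := Matrix.diagonal fun z => if z = x then ω else if z = y then ω * ω else 1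

theorem pd_same (hX : Gens ω X) (hmix : Mixed X) {a b : Fin 3} (hab : a ≠ b) (i : Fin 3) :
    Mem X (pd ω (a, i) (b, i)) := by
  have h := hX.om
  obtain ⟨d, f, hdf⟩ := (show ∀ a b : Fin 3, a ≠ b → ∃ d f : Fin 3, ∀ j : Fin 3,
    d + f * (j - 0) = if j = a then 1 else if j = b then 2 else 0 by decide +kernel) a b hab
  convert sup_rm_mem hX hmix i d (0, f) using 1
  ext ⟨x, k⟩ ⟨y, l⟩
  rw [sup_apply]
  simp only [pd, Matrix.diagonal_apply, Prod.mk.injEq, Matrix.smul_apply, smul_eq_mul, rm, mono, Matrix.of_apply]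
  have hx := hdf x
  by_cases hki : k = i
  · by_cases hli : l = i
    · subst hki
      subst hli
      simp only [and_self, and_true, if_true]
      by_cases hxy : x = y
      · subst hxy
        rw [if_pos rfl, if_pos (show x = x - 0 by simp), ← pw_add h]
        rw [hx]
        split_ifs <;> simp_all [pw_zero, pw_one_val, pw_two_val]
      · rw [if_neg hxy, if_neg (show ¬ y = x - 0 by simpa [eq_comm] using hxy), mul_zero]
    · have : ¬ (x = y ∧ k = l) := fun q => hli (q.2 ▸ hki)
      simp [this, hli]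
  · simp [hki]

theorem sw_diagonal (v : P9 → F) : sw F * Matrix.diagonal v = Matrix.diagonal (fun z => v (z.2, z.1)) * sw F := by
  rw [sw_mul, mul_sw]
  ext ⟨x, k⟩ ⟨y, l⟩
  simp only [Matrix.of_apply, Matrix.diagonal_apply, Prod.mk.injEq]
  split_ifs <;> simp_all

/-- **All diagonal pairs.** -/
theorem pd_mem (hX : Gens ω X) (hmix : Mixed X) {x y : P9} (hxy : x ≠ y) : Mem X (pd ω x y) := by
  have h := hX.om
  have hrow : ∀ (a b k : Fin 3), a ≠ b → Mem X (pd ω (k, a) (k, b)) := fun a b k hab => by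
    refine hX.swap.conj (pd_same hX hmix hab k) ?_
    rw [pd, sw_diagonal, pd]
    congr 2
    ext ⟨u, v⟩
    simp only [Prod.mk.injEq, and_comm]
  obtain ⟨a, i⟩ := x
  obtain ⟨b, k⟩ := y
  by_cases hab : a = b
  · subst hab
    exact hrow i k a (fun q => hxy (by rw [q]))
  by_cases hik : i = k
  · subst hik
    exact pd_same hX hmix hab i
  have := (hrow i k a hik).mul (pd_same hX hmix hab k)
  convert this using 1
  rw [pd, pd, pd, Matrix.diagonal_mul_diagonal]
  refine congrArg Matrix.diagonal (funext fun z => ?_)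
  have h3 := h.cube
  by_cases h1 : z = (a, i)
  · subst h1
    simp [hab, hik, Ne.symm hab]
  by_cases h2 : z = (b, k)
  · subst h2
    simp [Ne.symm hab, Ne.symm hik, hab]
  by_cases h4 : z = (a, k)
  · subst h4
    simp [hab, Ne.symm hik]
    linear_combination -h3
  simp [h1, h2, h4]

/-- A reflection of order three. -/
def refl0 (ω : F) : Matrix (Fin 3) (Fin 3) F := Matrix.diagonal ![ω, 1, 1]

/-- The conjugate reflection, multiplied by three. -/
def refl1 (ω : F) : Matrix (Fin 3) (Fin 3) F :=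
  !![ω + 2, ω - 1, ω - 1; ω - 1, ω + 2, ω - 1; ω - 1, ω - 1, ω + 2]

theorem qm_conj (h : Om ω) : qm ω 0 * refl0 ω = ((3 : F)⁻¹ • refl1 ω) * qm ω 0 := by
  have e : (3 : F) • (Fm ω 0 * refl0 ω) = refl1 ω * Fm ω 0 := by
    have := h.root
    ext i j
    fin_cases i <;> fin_cases j <;>
      simp [Fm, refl0, refl1, Matrix.mul_apply, Fin.sum_univ_three, pw_zero, pw_one_val, pw_two_val] <;> grind
  rw [qm, Matrix.smul_mul, Matrix.mul_smul, Matrix.smul_mul, ← e, inv_smul_smul₀ h.three]

theorem Om.conj (h : Om ω) : Om (ω * ω) := ⟨by linear_combination (ω * ω - ω + 1) * h.root, h.three⟩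

theorem qm_conj' (h : Om ω) : qm ω 0 * refl0 (ω * ω) = ((3 : F)⁻¹ • refl1 (ω * ω)) * qm ω 0 := by
  have e : (3 : F) • (Fm ω 0 * refl0 (ω * ω)) = refl1 (ω * ω) * Fm ω 0 := by
    have := h.root
    ext i j
    fin_cases i <;> fin_cases j <;>
      simp [Fm, refl0, refl1, Matrix.mul_apply, Fin.sum_univ_three, pw_zero, pw_one_val, pw_two_val] <;> grind
  rw [qm, Matrix.smul_mul, Matrix.mul_smul, Matrix.smul_mul, ← e, inv_smul_smul₀ h.three]

theorem refl0_inv (h : Om ω) : refl0 ω * refl0 (ω * ω) = 1 := by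
  have := h.cube
  ext i j
  fin_cases i <;> fin_cases j <;> simp [refl0] <;> grind

theorem refl1_inv (h : Om ω) : ((3 : F)⁻¹ • refl1 ω) * ((3 : F)⁻¹ • refl1 (ω * ω)) = 1 := by
  have h2 := h.root
  have h3 := h.three
  rw [Matrix.smul_mul, Matrix.mul_smul, smul_smul]
  ext i j
  fin_cases i <;> fin_cases j <;> simp [refl1, Matrix.mul_apply, Fin.sum_univ_three] <;> grind

theorem qm_word (h : Om ω) :
    (refl0 ω * refl1 ω * refl0 (ω * ω) * refl1 (ω * ω)) * refl0 ω =
      qm ω 0 * (refl0 ω * (refl0 ω * refl1 ω * refl0 (ω * ω) * refl1 (ω * ω))) := by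
  have h2 := h.root
  have h3 := h.three
  have hg := h.gauss_ne
  have e : (ω - ω * ω) • ((refl0 ω * refl1 ω * refl0 (ω * ω) * refl1 (ω * ω)) * refl0 ω) =
      Fm ω 0 * (refl0 ω * (refl0 ω * refl1 ω * refl0 (ω * ω) * refl1 (ω * ω))) := by
    ext i j
    fin_cases i <;> fin_cases j <;>
      simp [Fm, refl0, refl1, Matrix.mul_apply, Fin.sum_univ_three, pw_zero, pw_one_val, pw_two_val] <;> grind
  rw [qm, Matrix.smul_mul, ← e, inv_smul_smul₀ hg]

theorem sup_qm_zero (hX : Gens ω X) (hmix : Mixed X) : Mem X (sup 0 (qm ω 0)) := by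
  have h := hX.om
  obtain ⟨D, hD⟩ : ∃ D, D = refl0 ω := ⟨_, rfl⟩
  obtain ⟨D', hD'⟩ : ∃ D', D' = refl0 (ω * ω) := ⟨_, rfl⟩
  obtain ⟨R, hR⟩ : ∃ R, R = (3 : F)⁻¹ • refl1 ω := ⟨_, rfl⟩
  obtain ⟨R', hR'⟩ : ∃ R', R' = (3 : F)⁻¹ • refl1 (ω * ω) := ⟨_, rfl⟩
  have hblk : ∀ (k : Fin 3), k ≠ 0 →
      pd ω (0, 0) (0, k) = blockDiagonal fun l => if l = 0 then D else if l = k then D' else 1 := by
    intro k hk
    ext ⟨x, a⟩ ⟨y, b⟩
    simp only [pd, blockDiagonal_apply, Matrix.diagonal_apply, hD, hD', refl0, Prod.mk.injEq]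
    by_cases hab : a = b
    · subst hab
      by_cases hxy : x = y
      · subst hxy
        by_cases ha : a = 0 <;> by_cases hak : a = k <;> fin_cases x <;> simp_all
      · by_cases ha : a = 0 <;> by_cases hak : a = k <;> simp_all [Matrix.one_apply]
    · simp [hab]
  have hA : Mem X (blockDiagonal fun l : Fin 3 => if l = 0 then D else if l = 1 then D' else 1) := by
    rw [← hblk 1 (by decide)]; exact pd_mem hX hmix (by decide)
  have hC : Mem X (blockDiagonal fun l : Fin 3 => if l = 0 then D else if l = 2 then D' else 1) := by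
    rw [← hblk 2 (by decide)]; exact pd_mem hX hmix (by decide)
  have hB : Mem X (blockDiagonal fun l : Fin 3 => if l = 0 then R else if l = 1 then R' else 1) := by
    refine (hX.quarter 0).conj hA ?_
    rw [kron_one, ← blockDiagonal_mul, ← blockDiagonal_mul]
    refine congrArg blockDiagonal (funext fun l => ?_)
    split_ifs <;> simp [hD, hD', hR, hR', qm_conj h, qm_conj' h]
  have hDu : D * D' = 1 := by rw [hD, hD']; exact refl0_inv h
  have hDu' : D' * D = 1 := mul_eq_one_comm.mp hDu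
  have hRu : R * R' = 1 := by rw [hR, hR']; exact refl1_inv h
  have hRu' : R' * R = 1 := mul_eq_one_comm.mp hRu
  have h1 := hA.comm hB
  have h2 := h1.comm hC
  rw [sup]
  convert h2 using 3
  rename_i l
  rcases (show ∀ l : Fin 3, l = 0 ∨ l = 1 ∨ l = 2 by decide) l with rfl | rfl | rfl
  · simp only [if_true, Matrix.inv_eq_right_inv hDu, Matrix.inv_eq_right_inv hRu]
    obtain ⟨K, hK⟩ : ∃ K, K = D * R * D' * R' := ⟨_, rfl⟩
    rw [← hK]
    have hKK : K * (R * D * R' * D') = 1 := by
      rw [hK, show D * R * D' * R' * (R * D * R' * D') = D * (R * (D' * (R' * R) * D) * R') * D' by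
        simp only [Matrix.mul_assoc], hRu', Matrix.mul_one, hDu', Matrix.mul_one, hRu, Matrix.mul_one, hDu]
    have e : K * D = qm ω 0 * (D * K) := by
      rw [hK, hD, hD', hR, hR']
      simp only [Matrix.smul_mul, Matrix.mul_smul, smul_smul]
      rw [qm_word h]
    rw [Matrix.inv_eq_right_inv hKK, e, Matrix.mul_assoc (qm ω 0), Matrix.mul_assoc D K, hKK, Matrix.mul_one,
      Matrix.mul_assoc, hDu, Matrix.mul_one]
  · simp only [show ¬ (1 : Fin 3) = 0 by decide, show ¬ (1 : Fin 3) = 2 by decide, if_true, if_false,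
      Matrix.inv_eq_right_inv hDu', Matrix.inv_eq_right_inv hRu', inv_one, Matrix.mul_one]
    rw [show D' * R' * D * R = (D' * R') * (D * R) by simp only [Matrix.mul_assoc]]
    have hinv : D' * R' * (D * R) * (R' * D' * (R * D)) = 1 := by
      rw [show D' * R' * (D * R) * (R' * D' * (R * D)) = D' * (R' * (D * (R * R') * D') * R) * D by
        simp only [Matrix.mul_assoc], hRu, Matrix.mul_one, hDu, Matrix.mul_one, hRu', Matrix.mul_one, hDu']
    rw [Matrix.inv_eq_right_inv hinv, hinv]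
  · simp only [show ¬ (2 : Fin 3) = 0 by decide, show ¬ (2 : Fin 3) = 1 by decide, if_true, if_false,
      Matrix.inv_eq_right_inv hDu', inv_one, Matrix.mul_one, Matrix.one_mul, hDu']

theorem sh_qm (h : Om ω) (k : Fin 3) : sh ω * qm ω k = qm ω (k + 1) * sh ω := by
  rw [qm, qm, Matrix.smul_mul, Matrix.mul_smul]
  congr 1
  rw [sh, mono_mul, mul_mono _ _ id (fun l j => by constructor <;> intro q <;> exact q.symm)]
  ext i j
  simp only [Matrix.of_apply, Fm, id, ← pw_add h]
  congr 1
  exact (show ∀ k i j : Fin 3, i * i + (k * (i * i - j * j) + i * j) = (k + 1) * (i * i - j * j) + i * j + j * j by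
    decide +kernel) k i j

/-- **Supported quarter turns.** -/
theorem sup_qm_mem (hX : Gens ω X) (hmix : Mixed X) (i k : Fin 3) : Mem X (sup i (qm ω k)) := by
  have h := hX.om
  have h0 := sup_qm_zero hX hmix
  have h1 : Mem X (sup 0 (qm ω 1)) := hX.shear.conj h0 (sup_conj 0 _ _ _ (sh_qm h 0))
  have h2 : Mem X (sup 0 (qm ω 2)) := hX.shear.conj h1 (sup_conj 0 _ _ _ (sh_qm h 1))
  have hk : Mem X (sup 0 (qm ω k)) := by fin_cases k; exacts [h0, h1, h2]
  have := (hX.frame (0, (i, 0))).conj hk (sup_shift h 0 i _)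
  rwa [zero_add] at this

end Cfsg.Agent.Classical.TriFrame
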