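/-
Two elements of order three in `SL₂` whose products have unlucky traces generate a group with a unipotent element.
-/
import Cfsg.Agent.Lib.Classical.Dickson.Polyhedral
import Cfsg.Agent.Lib.Classical.Dickson.Tools

set_option autoImplicit false
set_option linter.unusedSectionVars false

namespace Cfsg.Agent.Classical.TriFrame

open Matrix
open Cfsg.Agent.Small Cfsg.Agent.Small.SL2C

variable {F : Type*} [Field F] [Fintype F]

local notation "SL2" => Matrix.SpecialLinearGroup (Fin 2) F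

/-- Traces of elements whose image has order at most three or five. -/
def SmallTr (t : F) : Prop := t = 0 ∨ t ^ 2 = 1 ∨ t ^ 4 - 3 * t ^ 2 + 1 = 0

theorem smallTr_of_pow {w : SL2} (hns : ¬ IsSc w.1)
    (h : PSL2.pr w ^ 2 = 1 ∨ PSL2.pr w ^ 3 = 1 ∨ PSL2.pr w ^ 5 = 1) : SmallTr w.1.trace := by
  rcases h with h | h | h <;>
    rcases Dickson.trace_of_pow h with ⟨hs, -⟩ | ⟨-, h2, h3, -, h5⟩
  exacts [absurd hs hns, Or.inl (h2 rfl), absurd hs hns, Or.inr (Or.inl (h3 rfl)), absurd hs hns,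
    Or.inr (Or.inr (h5 rfl))]

theorem s4_even : ∀ a b : Equiv.Perm (Fin 4), a ^ 3 = 1 → b ^ 3 = 1 → (a * b) ^ 2 = 1 ∨ (a * b) ^ 3 = 1 := by
  decide +kernel

theorem a4_small : ∀ a : alternatingGroup (Fin 4), a ^ 2 = 1 ∨ a ^ 3 = 1 := by decide +kernel

theorem a5_small : ∀ a : alternatingGroup (Fin 5), a ^ 2 = 1 ∨ a ^ 3 = 1 ∨ a ^ 5 = 1 := by decide +kernel

theorem dihedral_three {k : ℕ} {a b : DihedralGroup k} (ha : a ^ 3 = 1) (hb : b ^ 3 = 1) : a * b = b * a := by
  have key : ∀ a : DihedralGroup k, a ^ 3 = 1 → ∃ i, a = DihedralGroup.r i := by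
    intro a ha
    rcases a with i | i
    · exact ⟨i, rfl⟩
    · exfalso
      rw [pow_succ, pow_two, DihedralGroup.sr_mul_sr, sub_self, DihedralGroup.r_mul_sr, sub_zero,
        DihedralGroup.one_def] at ha
      cases ha
  obtain ⟨i, rfl⟩ := key a ha
  obtain ⟨j, rfl⟩ := key b hb
  rw [DihedralGroup.r_mul_r, DihedralGroup.r_mul_r, add_comm]

/-- **A unipotent element.** -/
theorem exists_unipotent {p : ℕ} [hp : Fact p.Prime] [CharP F p] (hodd : p ≠ 2) (H : Subgroup SL2) {A B : SL2}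
    (hA : A ∈ H) (hB : B ∈ H) (trA : A.1.trace = -1) (trB : B.1.trace = -1)
    (hnc : A * B ≠ B * A) (hsum : (A * B⁻¹).1.trace = 1 - (A * B).1.trace)
    (hcase : (A * B).1.trace = -2 ∨ ¬ (SmallTr (A * B).1.trace ∧ SmallTr (A * B⁻¹).1.trace)) :
    ∃ h ∈ H, h.1.trace = 2 ∧ ¬ IsSc h.1 := by
  classical
  have h2 : (2 : F) ≠ 0 := by
    rw [show (2 : F) = ((2 : ℕ) : F) by norm_num, Ne, CharP.cast_eq_zero_iff F p]
    exact fun h => hodd ((Nat.prime_dvd_prime_iff_eq hp.out Nat.prime_two).mp h)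
  have hscC : ∀ (s x : SL2), IsSc s.1 → s * x = x * s := fun s x ⟨c, hc⟩ => Subtype.ext (by
    rw [Matrix.SpecialLinearGroup.coe_mul, Matrix.SpecialLinearGroup.coe_mul, hc, Matrix.smul_mul, Matrix.mul_smul,
      Matrix.one_mul, Matrix.mul_one])
  have hABns : ¬ IsSc (A * B).1 := fun hs => hnc (by
    have := hscC _ A hs
    rw [mul_assoc] at this
    exact (mul_left_cancel this).symm)
  have hAB'ns : ¬ IsSc (A * B⁻¹).1 := fun hs => hnc (by
    have h1 := hscC _ B hs
    rw [inv_mul_cancel_right] at h1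
    calc A * B = (B * (A * B⁻¹)) * B := by rw [← h1]
      _ = B * A := by rw [mul_assoc, inv_mul_cancel_right])
  by_cases ht : (A * B).1.trace = -2
  · refine ⟨A * B * (A * B), H.mul_mem (H.mul_mem hA hB) (H.mul_mem hA hB), ?_, ?_⟩
    · have hd := Fusion.Dickson.det_eq (A * B)
      rw [Matrix.trace_fin_two] at ht
      rw [Matrix.SpecialLinearGroup.coe_mul (A * B), Matrix.trace_fin_two, Matrix.mul_apply, Matrix.mul_apply,
        Fin.sum_univ_two, Fin.sum_univ_two]
      linear_combination ((A * B).1 0 0 + (A * B).1 1 1 - 2) * ht - 2 * hd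
    · rintro ⟨c, hc⟩
      refine hABns ⟨-((c + 1) / 2), ?_⟩
      obtain ⟨M, hM⟩ : ∃ M, M = (A * B).1 := ⟨_, rfl⟩
      rw [Matrix.SpecialLinearGroup.coe_mul (A * B), ← hM] at hc
      rw [← hM]
      have hd : M 0 0 * M 1 1 - M 0 1 * M 1 0 = 1 := hM ▸ Fusion.Dickson.det_eq (A * B)
      have htr : M 0 0 + M 1 1 = -2 := by rw [← Matrix.trace_fin_two, hM]; exact ht
      have e01 := congrFun (congrFun hc 0) 1
      have e10 := congrFun (congrFun hc 1) 0
      have e00 := congrFun (congrFun hc 0) 0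
      have e11 := congrFun (congrFun hc 1) 1
      simp [Matrix.mul_apply, Fin.sum_univ_two] at e01 e10 e00 e11
      ext i j
      fin_cases i <;> fin_cases j <;> simp [Matrix.smul_apply]
      · field_simp
        linear_combination M 0 0 * htr - hd - e00
      · exact (mul_eq_zero.mp (show (-2 : F) * M 0 1 = 0 by linear_combination e01 - M 0 1 * htr)).resolve_left
          (neg_ne_zero.mpr h2)
      · exact (mul_eq_zero.mp (show (-2 : F) * M 1 0 = 0 by linear_combination e10 - M 1 0 * htr)).resolve_left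
          (neg_ne_zero.mpr h2)
      · field_simp
        linear_combination M 1 1 * htr - hd - e11
  replace hcase := hcase.resolve_left ht
  suffices hdvd : p ∣ Nat.card (H.map PSL2.pr) by
    obtain ⟨x, hx⟩ := exists_prime_orderOf_dvd_card' p (hdvd.trans (Subgroup.card_map_dvd _ _))
    refine ⟨x, x.2, ?_, ?_⟩
    · have hpow : (x : SL2) ^ p ^ 1 = 1 := by rw [pow_one, ← Subgroup.coe_pow, ← hx, pow_orderOf_eq_one]; rfl
      have := Fusion.Dickson.tr_of_pow_eq_one (p := p) hpow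
      rwa [Fusion.Dickson.tr, ← Matrix.trace_fin_two] at this
    · intro hs
      have hsq : (x : SL2) * x = 1 := by
        rcases isSc_SL hs with e | e <;> exact Subtype.ext (by rw [Matrix.SpecialLinearGroup.coe_mul, e]; simp)
      have : orderOf x ∣ 2 := orderOf_dvd_of_pow_eq_one (Subtype.ext (by rw [Subgroup.coe_pow, pow_two]; exact hsq))
      rw [hx] at this
      exact hodd ((Nat.prime_dvd_prime_iff_eq hp.out Nat.prime_two).mp this)
  obtain ⟨K, hK⟩ : ∃ K, K = H.map PSL2.pr := ⟨_, rfl⟩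
  rw [← hK]
  have hAK : PSL2.pr A ∈ K := hK ▸ Subgroup.mem_map_of_mem _ hA
  have hBK : PSL2.pr B ∈ K := hK ▸ Subgroup.mem_map_of_mem _ hB
  have hcube : ∀ {w : SL2}, w.1.trace = -1 → PSL2.pr w ^ 3 = 1 := fun {w} hw => by
    rw [← map_pow, pr_eq_one_iff]
    refine ⟨1, ?_⟩
    have hd := Fusion.Dickson.det_eq w
    rw [Matrix.trace_fin_two] at hw
    rw [one_smul, pow_succ, pow_two, Matrix.SpecialLinearGroup.coe_mul, Matrix.SpecialLinearGroup.coe_mul]
    ext i j
    fin_cases i <;> fin_cases j <;> simp [Matrix.mul_apply, Fin.sum_univ_two] <;> grind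
  have hcomm : (⟨_, hAK⟩ : K) * ⟨_, hBK⟩ = ⟨_, hBK⟩ * ⟨_, hAK⟩ → False := by
    intro e
    have e1 : PSL2.pr A * PSL2.pr B = PSL2.pr B * PSL2.pr A := congrArg Subtype.val e
    have e2 : PSL2.pr (A * B * (B * A)⁻¹) = 1 := by rw [map_mul, map_inv, map_mul, map_mul, e1, mul_inv_cancel]
    rcases isSc_SL (pr_eq_one_iff.mp e2) with e3 | e3
    · exact hnc (mul_inv_eq_one.mp (Subtype.ext e3))
    · -- conjugate to its negative
      have e4 : (A * B * (B * A)⁻¹ * (B * A)).1 = -(B * A).1 := by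
        rw [Matrix.SpecialLinearGroup.coe_mul (A * B * (B * A)⁻¹), e3, neg_one_mul]
      rw [inv_mul_cancel_right] at e4
      have e5 : (A * B * A⁻¹).1.trace = -B.1.trace := by
        rw [Matrix.SpecialLinearGroup.coe_mul, e4, neg_mul, Matrix.trace_neg, ← Matrix.SpecialLinearGroup.coe_mul,
          mul_inv_cancel_right]
      have e6 : (A * B * A⁻¹).1.trace = B.1.trace := by
        rw [Matrix.SpecialLinearGroup.coe_mul, Matrix.trace_mul_comm, ← Matrix.SpecialLinearGroup.coe_mul,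
          inv_mul_cancel_left]
      rw [e5, trB] at e6
      exact h2 (by linear_combination e6)
  rcases Dickson.cases_on K with ⟨k, -, ⟨hc, -⟩ | ⟨-, ⟨f⟩⟩⟩ | ⟨g, -, hu⟩ | ⟨-, ⟨f⟩⟩ | ⟨-, ⟨f⟩⟩ | ⟨-, ⟨f⟩⟩ |
    ⟨L, m, hm, hLm, hL⟩
  · exfalso
    haveI := hc
    letI := IsCyclic.commGroup (α := K)
    exact hcomm (mul_comm _ _)
  · exfalso
    refine hcomm (f.injective ?_)
    rw [map_mul, map_mul]
    refine dihedral_three ?_ ?_ <;>
      (rw [← map_pow, map_eq_one_iff _ f.injective]; exact Subtype.ext (by rw [Subgroup.coe_pow]; exact hcube ‹_›))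
  · have : orderOf (PSL2.pr (PSL2.uS (1 : F))) ∣ Nat.card (K.map (PSL2.conjP g).toMonoidHom) := by
      rw [← Subgroup.orderOf_mk _ hu]; exact orderOf_dvd_natCard _
    rw [Subgroup.card_map_of_injective (f := (PSL2.conjP g).toMonoidHom) (PSL2.conjP g).injective] at this
    refine dvd_trans ?_ this
    rw [orderOf_eq_prime (p := p)]
    · rw [← map_pow, Fusion.Dickson.pow_eq_one_of_tr (p := p), map_one]
      rw [Fusion.Dickson.tr, Dickson.uS_eq_upU, (Fusion.Dickson.upU_entries (1 : F)).1,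
        (Fusion.Dickson.upU_entries (1 : F)).2.2.2]
      norm_num
    · intro e
      obtain ⟨c, hc⟩ := pr_eq_one_iff.mp e
      have := congrFun (congrFun hc 0) 1
      rw [Dickson.uS_eq_upU, (Fusion.Dickson.upU_entries (1 : F)).2.1] at this
      simp at this
  · exfalso
    refine hcase ⟨smallTr_of_pow hABns ?_, smallTr_of_pow hAB'ns ?_⟩
    · have hm := mul_mem hAK hBK
      rw [← map_mul] at hm
      rcases a4_small (f ⟨_, hm⟩) with e | e
      exacts [Or.inl (Dickson.pow_pr_of_iso f hm e), Or.inr (Or.inl (Dickson.pow_pr_of_iso f hm e))]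
    · have hm := mul_mem hAK (inv_mem hBK)
      rw [← map_inv, ← map_mul] at hm
      rcases a4_small (f ⟨_, hm⟩) with e | e
      exacts [Or.inl (Dickson.pow_pr_of_iso f hm e), Or.inr (Or.inl (Dickson.pow_pr_of_iso f hm e))]
  · exfalso
    have hc3 : ∀ {w : SL2} (hw : PSL2.pr w ∈ K), PSL2.pr w ^ 3 = 1 → f ⟨_, hw⟩ ^ 3 = 1 := fun {w} hw e => by
      rw [← map_pow, map_eq_one_iff _ f.injective]; exact Subtype.ext (by rw [Subgroup.coe_pow]; exact e)
    refine hcase ⟨smallTr_of_pow hABns ?_, smallTr_of_pow hAB'ns ?_⟩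
    · have hm := mul_mem hAK hBK
      rw [← map_mul] at hm
      have e0 : f ⟨_, hm⟩ = f ⟨_, hAK⟩ * f ⟨_, hBK⟩ := by
        rw [← map_mul]; exact congrArg f (Subtype.ext (map_mul _ _ _))
      rcases s4_even _ _ (hc3 hAK (hcube trA)) (hc3 hBK (hcube trB)) with e | e <;> rw [← e0] at e
      exacts [Or.inl (Dickson.pow_pr_of_iso f hm e), Or.inr (Or.inl (Dickson.pow_pr_of_iso f hm e))]
    · have hm := mul_mem hAK (inv_mem hBK)
      rw [← map_inv, ← map_mul] at hm
      have hB' : PSL2.pr B⁻¹ ∈ K := by rw [map_inv]; exact inv_mem hBK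
      have e0 : f ⟨_, hm⟩ = f ⟨_, hAK⟩ * f ⟨_, hB'⟩ := by
        rw [← map_mul]; exact congrArg f (Subtype.ext (map_mul _ _ _))
      rcases s4_even _ _ (hc3 hAK (hcube trA)) (hc3 hB' (by rw [map_inv, inv_pow, hcube trB, inv_one])) with e | e <;>
        rw [← e0] at e
      exacts [Or.inl (Dickson.pow_pr_of_iso f hm e), Or.inr (Or.inl (Dickson.pow_pr_of_iso f hm e))]
  · exfalso
    refine hcase ⟨smallTr_of_pow hABns ?_, smallTr_of_pow hAB'ns ?_⟩
    · have hm := mul_mem hAK hBK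
      rw [← map_mul] at hm
      rcases a5_small (f ⟨_, hm⟩) with e | e | e
      exacts [Or.inl (Dickson.pow_pr_of_iso f hm e), Or.inr (Or.inl (Dickson.pow_pr_of_iso f hm e)),
        Or.inr (Or.inr (Dickson.pow_pr_of_iso f hm e))]
    · have hm := mul_mem hAK (inv_mem hBK)
      rw [← map_inv, ← map_mul] at hm
      rcases a5_small (f ⟨_, hm⟩) with e | e | e
      exacts [Or.inl (Dickson.pow_pr_of_iso f hm e), Or.inr (Or.inl (Dickson.pow_pr_of_iso f hm e)),
        Or.inr (Or.inr (Dickson.pow_pr_of_iso f hm e))]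
  · haveI : Fintype L := Fintype.ofFinite L
    have hpL : p ∣ Nat.card L := by
      obtain ⟨n, hp', hn⟩ := FiniteField.card F p
      have h1 : p ∣ Fintype.card F := hn ▸ dvd_pow_self p n.2.ne'
      rw [← hLm] at h1
      exact hp.out.dvd_of_dvd_pow h1
    rcases hL with ⟨-, e⟩ | ⟨-, -, e⟩
    · exact e ▸ hpL.mul_right _
    · have h1 : p ∣ 2 * Nat.card K := e ▸ hpL.mul_right _
      exact ((hp.out.dvd_mul).mp h1).resolve_left fun h => hodd ((Nat.prime_dvd_prime_iff_eq hp.out Nat.prime_two).mp h)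

end Cfsg.Agent.Classical.TriFrame
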