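/-
An element acting by scalars on two blocks only gives a transvection when the characteristic is at least five.
-/
import Cfsg.Agent.Lib.Classical.TriFrame.Pairs
import Cfsg.Agent.Lib.Classical.TriFrame.Unipotent

set_option autoImplicit false
set_option linter.unusedSectionVars false

namespace Cfsg.Agent.Classical.TriFrame

open Matrix Kronecker
open Cfsg.Agent.Classical.LinThree.Hess

variable {F : Type*} [Field F] [Fintype F] {ω : F} {X : Subgroup (GL P9 F)}

/-- A transvection avoiding the last coordinate. -/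
def TransW (X : Subgroup (GL P9 F)) : Prop :=
  ∃ a φ : P9 → F, a ≠ 0 ∧ φ ≠ 0 ∧ φ ⬝ᵥ a = 0 ∧ a (2, 2) = 0 ∧ φ (2, 2) = 0 ∧ Mem X (1 + vecMulVec a φ)

section Emb

variable (B : Matrix P9 (Fin 3) F) (P : Matrix (Fin 3) P9 F)

/-- The action on a three-dimensional summand. -/
def emb (M : Matrix (Fin 3) (Fin 3) F) : Matrix P9 P9 F := 1 + B * (M - 1) * P

theorem emb_mul (hPB : P * B = 1) (M N : Matrix (Fin 3) (Fin 3) F) : emb B P M * emb B P N = emb B P (M * N) := by
  have e : B * (M - 1) * P * (B * (N - 1) * P) = B * ((M - 1) * (N - 1)) * P := by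
    rw [show B * (M - 1) * P * (B * (N - 1) * P) = B * (M - 1) * (P * B) * (N - 1) * P by
      simp only [Matrix.mul_assoc], hPB, Matrix.mul_one, Matrix.mul_assoc B]
  rw [emb, emb, emb, Matrix.add_mul, Matrix.one_mul, Matrix.mul_add, Matrix.mul_one, e,
    show M * N - 1 = (N - 1) + ((M - 1) + (M - 1) * (N - 1)) by
      simp only [Matrix.sub_mul, Matrix.mul_sub, Matrix.one_mul, Matrix.mul_one]; abel,
    Matrix.mul_add, Matrix.mul_add, Matrix.add_mul, Matrix.add_mul]
  abel

theorem emb_one : emb B P 1 = 1 := by simp [emb]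

end Emb

/-- A plane block with a scalar on the extra coordinate. -/
def blk (c : F) (s : Matrix (Fin 2) (Fin 2) F) : Matrix (Fin 3) (Fin 3) F :=
  !![c * s 0 0, c * s 0 1, 0; c * s 1 0, c * s 1 1, 0; 0, 0, (c * c)⁻¹]

theorem blk_mul {c d : F} (hc : c ≠ 0) (hd : d ≠ 0) (s t : Matrix (Fin 2) (Fin 2) F) :
    blk c s * blk d t = blk (c * d) (s * t) := by
  ext i j
  fin_cases i <;> fin_cases j <;> simp [blk, Matrix.mul_apply, Fin.sum_univ_three, Fin.sum_univ_two] <;>
    field_simp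

theorem blk_one : blk (1 : F) 1 = 1 := by
  ext i j
  fin_cases i <;> fin_cases j <;> simp [blk]

/-- The plane group. -/
def plane (X : Subgroup (GL P9 F)) (B : Matrix P9 (Fin 3) F) (P : Matrix (Fin 3) P9 F) (hPB : P * B = 1) :
    Subgroup (Matrix.SpecialLinearGroup (Fin 2) F) where
  carrier := {s | ∃ c : F, c ≠ 0 ∧ Mem X (emb B P (blk c s.1))}
  one_mem' := ⟨1, one_ne_zero, by
    rw [Matrix.SpecialLinearGroup.coe_one, blk_one, emb_one]; exact Mem.one⟩
  mul_mem' := by
    rintro a b ⟨c, hc, hca⟩ ⟨d, hd, hdb⟩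
    refine ⟨c * d, mul_ne_zero hc hd, ?_⟩
    have := hca.mul hdb
    rwa [emb_mul B P hPB, blk_mul hc hd, ← Matrix.SpecialLinearGroup.coe_mul] at this
  inv_mem' := by
    rintro a ⟨c, hc, hca⟩
    refine ⟨c⁻¹, inv_ne_zero hc, hca.inv ?_⟩
    rw [emb_mul B P hPB, blk_mul hc (inv_ne_zero hc), ← Matrix.SpecialLinearGroup.coe_mul, mul_inv_cancel,
      mul_inv_cancel₀ hc, Matrix.SpecialLinearGroup.coe_one, blk_one, emb_one]

theorem rank_one_two {N : Matrix (Fin 2) (Fin 2) F} (hN : N ≠ 0) (hd : N.det = 0) :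
    ∃ u v : Fin 2 → F, u ≠ 0 ∧ v ≠ 0 ∧ N = vecMulVec u v := by
  rw [Matrix.det_fin_two] at hd
  by_cases h0 : N 0 0 = 0 ∧ N 0 1 = 0
  · refine ⟨![0, 1], ![N 1 0, N 1 1], fun e => by simpa using congrFun e 1, fun e => hN ?_, ?_⟩
    · have e0 := congrFun e 0
      have e1 := congrFun e 1
      simp at e0 e1
      ext i j
      fin_cases i <;> fin_cases j <;> simp [h0.1, h0.2, e0, e1]
    · ext i j
      fin_cases i <;> fin_cases j <;> simp [vecMulVec_apply, h0.1, h0.2]
  · by_cases h00 : N 0 0 = 0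
    · have h01 : N 0 1 ≠ 0 := fun e => h0 ⟨h00, e⟩
      have h10 : N 1 0 = 0 := by
        rw [h00, zero_mul, zero_sub, neg_eq_zero] at hd
        exact (mul_eq_zero.mp hd).resolve_left h01
      refine ⟨![1, N 1 1 / N 0 1], ![0, N 0 1], fun e => by simpa using congrFun e 0,
        fun e => h01 (by simpa using congrFun e 1), ?_⟩
      ext i j
      fin_cases i <;> fin_cases j <;> simp [vecMulVec_apply, h00, h10, h01]
    · refine ⟨![1, N 1 0 / N 0 0], ![N 0 0, N 0 1], fun e => by simpa using congrFun e 0,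
        fun e => h00 (by simpa using congrFun e 0), ?_⟩
      ext i j
      fin_cases i <;> fin_cases j <;> simp [vecMulVec_apply, h00]
      field_simp
      linear_combination hd

theorem diag_single (x y : P9) (hxy : x ≠ y) : pd ω x y =
    1 + ((ω - 1) • vecMulVec (Pi.single x 1) (Pi.single x 1) +
      (ω * ω - 1) • vecMulVec (Pi.single y 1) (Pi.single y 1) : Matrix P9 P9 F) := by
  ext a b
  simp only [pd, Matrix.diagonal_apply, Matrix.add_apply, Matrix.one_apply, Matrix.smul_apply, vecMulVec_apply,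
    Pi.single_apply, smul_eq_mul]
  by_cases hax : a = x
  · subst hax
    by_cases hb : a = b
    · subst hb; simp [hxy]
    · simp [hb, Ne.symm hb, hxy]
  · by_cases hay : a = y
    · subst hay
      by_cases hb : a = b
      · subst hb; simp [Ne.symm hxy]
      · simp [hb, Ne.symm hb, Ne.symm hxy]
    · simp [hax, hay]

/-- **A transvection from one conjugated pair.** -/
theorem pair_trans {p : ℕ} [hp : Fact p.Prime] [CharP F p] (hodd : p ≠ 2) (hX : Gens ω X) (hmix : Mixed X)
    {G Gi : Matrix P9 P9 F} (hG : Mem X G) (hGi : G * Gi = 1) {j : P9} (hjq : j ≠ (2, 2))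
    (hcol : ∀ z, G z (2, 2) = if z = (2, 2) then 1 else 0) (hrow : ∀ z, G (2, 2) z = if z = (2, 2) then 1 else 0)
    {x : F} (hx : G j (0, 0) * Gi (0, 0) j = x) (hx0 : x ≠ 0) (hx1 : x ≠ 1)
    (hcase : 2 - 3 * x = -2 ∨ ¬ (SmallTr (2 - 3 * x) ∧ SmallTr (-1 + 3 * x))) : TransW X := by
  classical
  have h := hX.om
  have h3 := h.cube
  have hr := h.root
  obtain ⟨q, hq⟩ : ∃ q : P9, q = (2, 2) := ⟨_, rfl⟩
  obtain ⟨o, ho⟩ : ∃ o : P9, o = (0, 0) := ⟨_, rfl⟩
  rw [← hq] at hjq hcol hrow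
  rw [← ho] at hx
  have hoq : o ≠ q := by rw [ho, hq]; decide
  obtain ⟨r, hr'⟩ : ∃ r : P9 → F, ∀ z, r z = G z o := ⟨_, fun _ => rfl⟩
  obtain ⟨φ, hφ⟩ : ∃ φ : P9 → F, ∀ z, φ z = Gi o z := ⟨_, fun _ => rfl⟩
  have hGi' : Gi * G = 1 := mul_eq_one_comm.mp hGi
  have hcol' : ∀ z, Gi z q = if z = q then 1 else 0 := by
    intro z
    have := congrFun (congrFun hGi' z) q
    rw [Matrix.mul_apply, Finset.sum_eq_single q (fun w _ hw => by rw [hcol, if_neg hw, mul_zero]) (by simp), hcol,
      if_pos rfl, mul_one, Matrix.one_apply] at this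
    exact this
  have hrow' : ∀ z, Gi q z = if z = q then 1 else 0 := by
    intro z
    have := congrFun (congrFun hGi q) z
    rw [Matrix.mul_apply, Finset.sum_eq_single q (fun w _ hw => by rw [hrow, if_neg hw, zero_mul]) (by simp), hrow,
      if_pos rfl, one_mul, Matrix.one_apply] at this
    rw [this]
    simp [eq_comm]
  have hrq : r q = 0 := by rw [hr', hrow, if_neg hoq]
  have hφq : φ q = 0 := by rw [hφ, hcol', if_neg hoq]
  have hφr : φ ⬝ᵥ r = 1 := by
    have := congrFun (congrFun hGi' o) o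
    rw [Matrix.mul_apply, Matrix.one_apply_eq] at this
    rw [dotProduct]
    simpa [hr', hφ] using this
  have hxx : r j * φ j = x := by rw [hr', hφ, hx]
  have h1x : (1 : F) - x ≠ 0 := sub_ne_zero.mpr (Ne.symm hx1)
  -- the basis and the dual basis
  obtain ⟨w, hw⟩ : ∃ w, w = r - Pi.single j (r j) := ⟨_, rfl⟩
  obtain ⟨ψ, hψ⟩ : ∃ ψ, ψ = (1 - x)⁻¹ • (φ - Pi.single j (φ j)) := ⟨_, rfl⟩
  have hwj : w j = 0 := by simp [hw]
  have hψj : ψ j = 0 := by simp [hψ]
  have hwq : w q = 0 := by simp [hw, hrq, Ne.symm hjq]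
  have hψq : ψ q = 0 := by simp [hψ, hφq, Ne.symm hjq]
  have hψw : ψ ⬝ᵥ w = 1 := by
    rw [hψ, hw, smul_dotProduct, sub_dotProduct, dotProduct_sub, dotProduct_sub, hφr, dotProduct_single,
      single_dotProduct, single_dotProduct, Pi.single_eq_same, smul_eq_mul, mul_comm (φ j) (r j), hxx, sub_self,
      sub_zero, inv_mul_cancel₀ h1x]
  obtain ⟨B, hB⟩ : ∃ B : Matrix P9 (Fin 3) F,
      B = Matrix.of fun z k => (![Pi.single j 1, w, Pi.single q 1] : Fin 3 → P9 → F) k z := ⟨_, rfl⟩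
  obtain ⟨P, hP⟩ : ∃ P : Matrix (Fin 3) P9 F,
      P = Matrix.of fun k z => (![Pi.single j 1, ψ, Pi.single q 1] : Fin 3 → P9 → F) k z := ⟨_, rfl⟩
  have hPB : P * B = 1 := by
    ext k l
    rw [Matrix.mul_apply]
    show (fun z => P k z) ⬝ᵥ (fun z => B z l) = _
    rw [hB, hP]
    fin_cases k <;> fin_cases l <;>
      simp [single_dotProduct, dotProduct_single, hwj, hψj, hwq, hψq, hψw, hjq, Ne.symm hjq]
  have hemb : ∀ M : Matrix (Fin 3) (Fin 3) F, emb B P M =
      1 + ∑ k, ∑ l, (M - 1) k l • vecMulVec (fun z => B z k) (fun z => P l z) := by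
    intro M
    rw [emb]
    congr 1
    ext a b
    rw [Matrix.mul_apply, Matrix.sum_apply]
    simp only [Matrix.mul_apply, Matrix.sum_apply, Matrix.smul_apply, vecMulVec_apply, smul_eq_mul, Finset.sum_mul]
    rw [Finset.sum_comm]
    exact Finset.sum_congr rfl fun k _ => Finset.sum_congr rfl fun l _ => by ring
  -- the two elements
  obtain ⟨A, hA⟩ : ∃ A : Matrix.SpecialLinearGroup (Fin 2) F, A.1 = !![ω * ω, 0; 0, ω] :=
    ⟨⟨!![ω * ω, 0; 0, ω], by rw [Matrix.det_fin_two_of]; linear_combination h3⟩, rfl⟩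
  obtain ⟨C, hC⟩ : ∃ C : Matrix.SpecialLinearGroup (Fin 2) F,
      C.1 = !![ω * (1 + (ω - 1) * x), ω * ((ω - 1) * r j * (1 - x)); ω * ((ω - 1) * φ j),
        ω * (1 + (ω - 1) * (1 - x))] := by
    refine ⟨⟨!![ω * (1 + (ω - 1) * x), ω * ((ω - 1) * r j * (1 - x)); ω * ((ω - 1) * φ j),
        ω * (1 + (ω - 1) * (1 - x))], ?_⟩, rfl⟩
    rw [Matrix.det_fin_two_of]
    linear_combination -(ω * ω * (ω - 1) ^ 2 * (1 - x)) * hxx + h3
  have hω0 := h.ne_zero
  have hAmem : A ∈ plane X B P hPB := by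
    refine ⟨ω * ω, mul_ne_zero hω0 hω0, ?_⟩
    convert pd_mem hX hmix hjq using 1
    rw [diag_single j q hjq, hemb]
    congr 1
    simp only [Fin.sum_univ_three, hA, blk, hB, hP]
    simp
    have e1 : ω * ω * (ω * ω) - 1 = ω - 1 := by linear_combination ω * h3
    have e2 : ω * ω * ω - 1 = 0 := by linear_combination h3
    have e3 : (ω⁻¹ * ω⁻¹) * (ω⁻¹ * ω⁻¹) = ω * ω := by field_simp; linear_combination -(ω * ω * ω + 1) * h3
    simp [e1, e2, e3]
  have hCmem : C ∈ plane X B P hPB := by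
    refine ⟨ω * ω, mul_ne_zero hω0 hω0, hG.conj (pd_mem hX hmix hoq) ?_⟩
    -- the conjugate of the pair
    have hconj : G * pd ω o q = (1 + ((ω - 1) • vecMulVec r φ +
        (ω * ω - 1) • vecMulVec (Pi.single q 1) (Pi.single q 1) : Matrix P9 P9 F)) * G := by
      have e1 : G * vecMulVec (Pi.single o 1) (Pi.single o 1) = vecMulVec r φ * G := by
        ext a b
        simp only [Matrix.mul_apply, vecMulVec_apply, Pi.single_apply, hr']
        have := congrFun (congrFun hGi' o) b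
        rw [Matrix.mul_apply, Matrix.one_apply] at this
        simp only [mul_assoc, ← Finset.mul_sum, hφ, this]
        simp [eq_comm]
      have e2 : G * vecMulVec (Pi.single q 1) (Pi.single q 1) = vecMulVec (Pi.single q 1) (Pi.single q 1) * G := by
        ext a b
        simp only [Matrix.mul_apply, vecMulVec_apply, Pi.single_apply]
        by_cases ha : a = q <;> by_cases hb : b = q <;> simp [ha, hb, hcol, hrow]
      rw [diag_single o q hoq, Matrix.mul_add, Matrix.mul_one, Matrix.mul_add, Matrix.mul_smul, Matrix.mul_smul, e1, e2,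
        Matrix.add_mul, Matrix.one_mul, Matrix.add_mul, Matrix.smul_mul, Matrix.smul_mul]
    rw [hconj]
    congr 1
    rw [hemb]
    congr 1
    simp only [Fin.sum_univ_three, hC, blk, hB, hP]
    simp
    have e3 : (ω⁻¹ * ω⁻¹) * (ω⁻¹ * ω⁻¹) = ω * ω := by field_simp; linear_combination -(ω * ω * ω + 1) * h3
    have hφe : φ = Pi.single j (φ j) + (1 - x) • ψ := by
      rw [hψ, smul_inv_smul₀ h1x, add_sub_cancel]
    have hre : r = Pi.single j (r j) + w := by rw [hw, add_sub_cancel]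
    ext a b
    simp only [Matrix.add_apply, Matrix.smul_apply, vecMulVec_apply, smul_eq_mul, e3]
    rw [congrFun hre a, congrFun hφe b]
    simp only [Pi.add_apply, Pi.smul_apply, Pi.single_apply, smul_eq_mul]
    split_ifs <;> grind
  have trA : A.1.trace = -1 := by rw [hA, Matrix.trace_fin_two_of]; linear_combination hr
  have trC : C.1.trace = -1 := by rw [hC, Matrix.trace_fin_two_of]; linear_combination hr
  have htr : (A * C).1.trace = 2 - 3 * x := by
    rw [Matrix.SpecialLinearGroup.coe_mul, hA, hC, Matrix.mul_fin_two, Matrix.trace_fin_two_of]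
    grind
  have hsum : (A * C⁻¹).1.trace = 1 - (A * C).1.trace := by
    have e : ∀ M N : Matrix (Fin 2) (Fin 2) F, (M * N.adjugate).trace = M.trace * N.trace - (M * N).trace := by
      intro M N
      simp [Matrix.adjugate_fin_two, Matrix.trace_fin_two, Matrix.mul_apply, Fin.sum_univ_two]
      ring
    rw [Matrix.SpecialLinearGroup.coe_mul, Matrix.SpecialLinearGroup.coe_inv, e, trA, trC,
      Matrix.SpecialLinearGroup.coe_mul]
    ring
  have hnc : A * C ≠ C * A := by
    intro e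
    have := congrArg (fun m : Matrix.SpecialLinearGroup (Fin 2) F => m.1 0 1) e
    simp only [Matrix.SpecialLinearGroup.coe_mul, hA, hC, Matrix.mul_fin_two] at this
    simp at this
    have hω1 : ω - 1 ≠ 0 := sub_ne_zero.mpr h.ne_one
    have hrj : r j ≠ 0 := fun q => hx0 (by rw [← hxx, q, zero_mul])
    have h4 : (ω * ω - ω) * (ω * ((ω - 1) * r j * (1 - x))) = 0 := by linear_combination this
    refine (mul_ne_zero ?_ (mul_ne_zero hω0 (mul_ne_zero (mul_ne_zero hω1 hrj) h1x))) h4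
    exact fun q => h.gauss_ne (by linear_combination -q)
  obtain ⟨s, ⟨c, hc0, hcs⟩, hs2, hsns⟩ := exists_unipotent (p := p) hodd (plane X B P hPB) hAmem hCmem trA trC hnc hsum
    (by
      rw [hsum, htr]
      rcases hcase with e | e
      · exact Or.inl e
      · exact Or.inr (by rwa [show (1 : F) - (2 - 3 * x) = -1 + 3 * x by ring]))
  -- kill the scalar
  obtain ⟨n, hn⟩ : ∃ n, n = Fintype.card F - 1 := ⟨_, rfl⟩
  have hcn : c ^ n = 1 := hn ▸ FiniteField.pow_card_sub_one_eq_one c hc0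
  have hpow : ∀ m : ℕ, Mem X (emb B P (blk (c ^ m) (s ^ m).1)) := by
    intro m
    induction m with
    | zero => rw [pow_zero, pow_zero, Matrix.SpecialLinearGroup.coe_one, blk_one, emb_one]; exact Mem.one
    | succ m ih =>
      have := ih.mul hcs
      rwa [emb_mul B P hPB, blk_mul (pow_ne_zero _ hc0) hc0, ← Matrix.SpecialLinearGroup.coe_mul, ← pow_succ,
        ← pow_succ] at this
  have hmem := hpow n
  rw [hcn] at hmem
  have htr2 : Fusion.Dickson.tr s = 2 := by rw [Fusion.Dickson.tr, ← Matrix.trace_fin_two]; exact hs2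
  have hp1 : s ^ p = 1 := Fusion.Dickson.pow_eq_one_of_tr (p := p) htr2
  have hsn1 : s ^ n ≠ 1 := by
    intro e
    have h1 : orderOf s ∣ Nat.gcd p n := Nat.dvd_gcd (orderOf_dvd_of_pow_eq_one hp1) (orderOf_dvd_of_pow_eq_one e)
    have hcop : Nat.Coprime p n := by
      refine hp.out.coprime_iff_not_dvd.mpr fun hd => ?_
      obtain ⟨k, -, hk⟩ := FiniteField.card F p
      have h2 : p ∣ Fintype.card F := hk ▸ dvd_pow_self p k.2.ne'
      have h3 : 1 ≤ Fintype.card F := Fintype.card_pos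
      have : p ∣ 1 := by
        have h4 := Nat.dvd_sub h2 hd
        rwa [hn, show Fintype.card F - (Fintype.card F - 1) = 1 by omega] at h4
      exact hp.out.not_dvd_one this
    rw [hcop.gcd_eq_one, Nat.dvd_one, orderOf_eq_one_iff] at h1
    exact hsns ⟨1, by rw [h1, Matrix.SpecialLinearGroup.coe_one, one_smul]⟩
  obtain ⟨N, hN⟩ : ∃ N, N = (s ^ n).1 - 1 := ⟨_, rfl⟩
  have hdet : N.det = 0 := by
    have hp2 : (s ^ n) ^ p ^ 1 = 1 := by rw [pow_one, ← pow_mul, mul_comm, pow_mul, hp1, one_pow]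
    have h1 := Fusion.Dickson.tr_of_pow_eq_one (p := p) hp2
    have h2 := Fusion.Dickson.det_eq (s ^ n)
    rw [Fusion.Dickson.tr] at h1
    rw [hN, Matrix.det_fin_two]
    simp
    linear_combination h2 - h1
  have hN0 : N ≠ 0 := fun e => hsn1 (Subtype.ext (by
    rw [Matrix.SpecialLinearGroup.coe_one]; exact sub_eq_zero.mp (hN ▸ e)))
  obtain ⟨u, v, hu, hv, huv⟩ := rank_one_two hN0 hdet
  have hM : blk 1 (s ^ n).1 - 1 = vecMulVec ![u 0, u 1, 0] ![v 0, v 1, 0] := by
    have hs_eq : ∀ i k, (s ^ n).1 i k = (1 : Matrix (Fin 2) (Fin 2) F) i k + u i * v k := fun i k => by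
      rw [← vecMulVec_apply u v i k, ← huv, hN, Matrix.sub_apply]; ring
    ext i k
    fin_cases i <;> fin_cases k <;> simp [blk, hs_eq, vecMulVec_apply]
  have hvu : v ⬝ᵥ u = 0 := by
    have h1 : N.trace = 0 := by
      have hp2 : (s ^ n) ^ p ^ 1 = 1 := by rw [pow_one, ← pow_mul, mul_comm, pow_mul, hp1, one_pow]
      have h1 := Fusion.Dickson.tr_of_pow_eq_one (p := p) hp2
      rw [Fusion.Dickson.tr] at h1
      rw [hN, Matrix.trace_fin_two]
      simp
      linear_combination h1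
    rw [huv, Matrix.trace_vecMulVec] at h1
    rwa [dotProduct_comm]
  rw [emb, hM, Matrix.mul_vecMulVec, Matrix.vecMulVec_mul] at hmem
  refine ⟨B *ᵥ ![u 0, u 1, 0], ![v 0, v 1, 0] ᵥ* P, fun e => hu ?_, fun e => hv ?_, ?_, ?_, ?_, hmem⟩
  · have := congrArg (fun z => P *ᵥ z) e
    simp only [Matrix.mulVec_mulVec, hPB, Matrix.one_mulVec, Matrix.mulVec_zero] at this
    funext i
    fin_cases i
    · exact congrFun this 0
    · exact congrFun this 1
  · have := congrArg (fun z => z ᵥ* B) e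
    simp only [Matrix.vecMul_vecMul, hPB, Matrix.vecMul_one, Matrix.zero_vecMul] at this
    funext i
    fin_cases i
    · exact congrFun this 0
    · exact congrFun this 1
  · rw [Matrix.dotProduct_mulVec, Matrix.vecMul_vecMul, hPB, Matrix.vecMul_one]
    simp only [dotProduct, Fin.sum_univ_three, Fin.sum_univ_two] at hvu ⊢
    simpa using hvu
  · rw [← hq]
    simp [Matrix.mulVec, dotProduct, Fin.sum_univ_three, hB, hwq, Ne.symm hjq]
  · rw [← hq]
    simp [Matrix.vecMul, dotProduct, Fin.sum_univ_three, hP, hψq, Ne.symm hjq]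

end Cfsg.Agent.Classical.TriFrame
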