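/-
The positions: conjugation moves any pair of coordinates to any other.
-/
import Cfsg.Agent.Lib.Classical.TriFrame.Transv
import Cfsg.Agent.Lib.Classical.LinBasic

set_option autoImplicit false
set_option linter.unusedSectionVars false

namespace Cfsg.Agent.Classical.TriFrame

open Matrix Kronecker
open Cfsg.Agent.Classical.LinThree.Hess

variable {F : Type*} [Field F] [Fintype F] {ω : F} {X : Subgroup (GL P9 F)}

/-- A monomial matrix. -/
def monP (π : P9 → P9) (v : P9 → F) : Matrix P9 P9 F := Matrix.of fun x y => if y = π x then v x else 0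

theorem monP_conj_vec {π : P9 → P9} (hπ : Function.Injective π) {v : P9 → F} (hv : ∀ x, v x ≠ 0) (a φ : P9 → F) :
    monP π v * (1 + vecMulVec a φ) =
      (1 + vecMulVec (fun x => v x * a (π x)) (fun x => (v x)⁻¹ * φ (π x))) * monP π v := by
  have hbij := Finite.injective_iff_bijective.mp hπ
  rw [Matrix.mul_add, Matrix.add_mul, Matrix.mul_one, Matrix.one_mul]
  congr 1
  ext x y
  obtain ⟨y, rfl⟩ := hbij.surjective y
  rw [Matrix.mul_apply, Matrix.mul_apply]
  simp only [monP, Matrix.of_apply, vecMulVec_apply, hπ.eq_iff]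
  rw [Finset.sum_eq_single (π x) (fun z _ hz => by rw [if_neg hz, zero_mul]) (by simp),
    Finset.sum_eq_single y (fun z _ hz => by rw [if_neg (Ne.symm hz), mul_zero]) (by simp), if_pos rfl, if_pos rfl]
  have := hv y
  field_simp

theorem W_snd_shift (h : Om ω) (a b : Fin 3) :
    W ω ((a, 0), (b, 0)) = monP (fun x => (x.1 - a, x.2 - b)) fun _ => 1 := by
  ext ⟨i, k⟩ ⟨j, l⟩
  simp only [W, monP, rm, mono, kroneckerMap_apply, Matrix.of_apply, Prod.mk.injEq, zero_mul, pw_zero]
  split_ifs <;> simp_all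

theorem dg_mon : dg ω 0 (1, 0) = monP (F := F) (fun x => (x.1 - x.2, x.2)) fun _ => 1 := by
  ext ⟨i, k⟩ ⟨j, l⟩
  simp only [dg, blockDiagonal_apply, rp, rm, mono, monP, Matrix.smul_apply, Matrix.of_apply, smul_eq_mul,
    Prod.mk.injEq, mul_one, mul_zero, zero_mul, pw_zero, one_mul, sub_zero]
  split_ifs <;> simp_all

theorem sw_mon : sw F = monP (fun x => (x.2, x.1)) fun _ => -1 := rfl

theorem neg_mon (h : Om ω) :
    (qm ω 0 * qm ω 0) ⊗ₖ (1 : Matrix (Fin 3) (Fin 3) F) = monP (fun x => (-x.1, x.2)) fun _ => -1 := by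
  rw [qm_sq h]
  ext ⟨i, k⟩ ⟨j, l⟩
  simp only [Tm, mono, monP, kroneckerMap_apply, Matrix.of_apply, Matrix.one_apply, Matrix.neg_apply, Prod.mk.injEq,
    zero_mul, pw_zero, add_zero, zero_sub]
  split_ifs <;> simp_all [pw_zero]

/-- The elementary pairs are permuted. -/
theorem pairs_all (hX : Gens ω X) (Q : P9 → P9 → Prop)
    (hQ : ∀ (π : P9 → P9) (v : P9 → F), Function.Injective π → (∀ x, v x ≠ 0) → Mem X (monP π v) →
      ∀ x y, Q (π x) (π y) → Q x y)
    {i j : P9} (hij : i ≠ j) (h0 : Q i j) : ∀ x y, x ≠ y → Q x y := by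
  have h := hX.om
  have one0 : (1 : F) ≠ 0 := one_ne_zero
  have neg0 : (-1 : F) ≠ 0 := neg_ne_zero.mpr one0
  have hT : ∀ t x y : P9, Q (x - t) (y - t) → Q x y := fun t x y hq => by
    refine hQ (fun x => (x.1 - t.1, x.2 - t.2)) (fun _ => 1) ?_ (fun _ => one0)
      (W_snd_shift h t.1 t.2 ▸ hX.frame _) x y hq
    intro a b e
    simp only [Prod.mk.injEq, sub_left_inj] at e
    exact Prod.ext e.1 e.2
  obtain ⟨D, hD⟩ : ∃ D : P9 → Prop, ∀ d, D d ↔ ∀ x, Q x (x + d) := ⟨_, fun _ => Iff.rfl⟩
  have hstart : D (j - i) := (hD _).mpr fun x => hT (x - i) x _ (by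
    rw [show x - (x - i) = i by abel, show x + (j - i) - (x - i) = j by abel]; exact h0)
  have hlin : ∀ (π : P9 → P9) (v : P9 → F), (∀ a b, π (a + b) = π a + π b) → Function.Injective π → (∀ x, v x ≠ 0) →
      Mem X (monP π v) → ∀ d, D (π d) → D d := fun π v hadd hi hv hm d hd => (hD _).mpr fun x =>
    hQ π v hi hv hm x _ (by rw [hadd]; exact (hD _).mp hd _)
  have hsw : ∀ d : P9, D d → D (d.2, d.1) := fun d hd => hlin (fun x => (x.2, x.1)) _ (fun a b => rfl)
    (fun a b e => by simp only [Prod.mk.injEq] at e; exact Prod.ext e.2 e.1) (fun _ => neg0) (sw_mon (F := F) ▸ hX.swap) _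
    (by exact hd)
  have hsh : ∀ d : P9, D d → D (d.1 + d.2, d.2) := fun d hd => hlin (fun x => (x.1 - x.2, x.2)) _
    (fun a b => by simp only [Prod.fst_add, Prod.snd_add, Prod.mk_add_mk, Prod.mk.injEq, and_true]; abel)
    (fun a b e => by
      simp only [Prod.mk.injEq] at e
      obtain ⟨e1, e2⟩ := e
      rw [e2, sub_left_inj] at e1
      exact Prod.ext e1 e2) (fun _ => one0) (dg_mon (ω := ω) ▸ hX.lin 0 (1, 0)) _ (by
      simp only [add_sub_cancel_right]; exact hd)
  have hneg : ∀ d : P9, D d → D (-d.1, d.2) := fun d hd => hlin (fun x => (-x.1, x.2)) _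
    (fun a b => by simp only [Prod.fst_add, Prod.snd_add, Prod.mk_add_mk, neg_add])
    (fun a b e => by simp only [Prod.mk.injEq, neg_inj] at e; exact Prod.ext e.1 e.2) (fun _ => neg0)
    (neg_mon h ▸ (by
      have e := (hX.quarter 0).mul (hX.quarter 0)
      rwa [← mul_kronecker_mul, Matrix.one_mul] at e)) _ (by simp only [neg_neg]; exact hd)
  -- orbit
  have hclose : ∀ (D : P9 → Bool), (∀ d, D d = true → D (d.2, d.1) = true) →
      (∀ d, D d = true → D (d.1 + d.2, d.2) = true) → (∀ d, D d = true → D (-d.1, d.2) = true) →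
      ∀ d e : P9, d ≠ 0 → e ≠ 0 → D d = true → D e = true := by
    intro D h1 h2 h3 d e hd he hDd
    have to10 : ∀ d : P9, d ≠ 0 → D d = true → D (1, 0) = true := by
      intro d hd hDd
      obtain ⟨a, b⟩ := d
      fin_cases a <;> fin_cases b
      · exact absurd rfl hd
      · exact h1 _ hDd
      · exact h3 _ (h1 _ hDd)
      · exact hDd
      · exact h1 _ (h2 _ (h2 _ hDd))
      · exact h3 _ (h1 _ (h2 _ hDd))
      · exact h3 _ hDd
      · exact h1 _ (h2 _ hDd)
      · exact h3 _ (h1 _ (h2 _ (h2 _ hDd)))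
    have from10 : D (1, 0) = true → ∀ e : P9, e ≠ 0 → D e = true := by
      intro h10 e he
      have e01 : D (0, 1) = true := h1 _ h10
      have e11 : D (1, 1) = true := h2 _ e01
      have e21 : D (2, 1) = true := h2 _ e11
      have e20 : D (2, 0) = true := h3 _ h10
      have e02 : D (0, 2) = true := h1 _ e20
      have e22 : D (2, 2) = true := h2 _ e02
      have e12 : D (1, 2) = true := h2 _ e22
      obtain ⟨a, b⟩ := e
      fin_cases a <;> fin_cases b
      exacts [absurd rfl he, e01, e02, h10, e11, e12, e20, e21, e22]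
    exact from10 (to10 d hd hDd) e he
  intro x y hxy
  classical
  have := hclose (fun d => decide (D d)) (fun d hd => by simpa using hsw d (by simpa using hd))
    (fun d hd => by simpa using hsh d (by simpa using hd)) (fun d hd => by simpa using hneg d (by simpa using hd))
    (j - i) (y - x) (sub_ne_zero.mpr (Ne.symm hij)) (sub_ne_zero.mpr (Ne.symm hxy)) (by simpa using hstart)
  have h2 := (hD _).mp (by simpa using this) x
  rwa [add_sub_cancel] at h2

end Cfsg.Agent.Classical.TriFrame
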