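/-
The special linear case: a transvection gives the whole group.
-/
import Cfsg.Agent.Lib.Classical.TriFrame.Moves

set_option autoImplicit false
set_option linter.unusedSectionVars false

namespace Cfsg.Agent.Classical.TriFrame

open Matrix Kronecker Cfsg.Geo
open Cfsg.Agent.Classical.LinThree.Hess

variable {F : Type*} [Field F] [Fintype F] {ω : F} {X : Subgroup (GL P9 F)}

/-- The matrix of a transvection. -/
def tv (a φ : P9 → F) : Matrix P9 P9 F := 1 + vecMulVec a φ

theorem tv_mul {a φ b ψ : P9 → F} (h : φ ⬝ᵥ b = 0) :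
    tv a φ * tv b ψ = 1 + (vecMulVec a φ + vecMulVec b ψ : Matrix P9 P9 F) := by
  rw [tv, tv, Matrix.add_mul, Matrix.mul_add, Matrix.mul_add, Matrix.one_mul, Matrix.one_mul, Matrix.mul_one,
    vecMulVec_mul_vecMulVec, h]
  simp
  abel

theorem tv_conj {a φ b ψ : P9 → F} (ha : φ ⬝ᵥ a = 0) :
    tv a φ * tv b ψ = tv (b + (φ ⬝ᵥ b) • a) (ψ - (ψ ⬝ᵥ a) • φ) * tv a φ := by
  simp only [tv, Matrix.add_mul, Matrix.mul_add, Matrix.sub_mul, Matrix.mul_sub, Matrix.smul_mul, Matrix.mul_smul,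
    smul_add, smul_sub, smul_smul, Matrix.one_mul, Matrix.mul_one, vecMulVec_mul_vecMulVec,
    Matrix.add_vecMulVec, Matrix.vecMulVec_sub, Matrix.smul_vecMulVec, Matrix.vecMulVec_smul, sub_dotProduct,
    smul_dotProduct, ha, smul_eq_mul, mul_zero, sub_zero]
  module

/-- **The linear group.** -/
theorem sl_of_trans {p : ℕ} [hp : Fact p.Prime] [CharP F p] (hcard : Fintype.card F = p) (hX : Gens ω X)
    (hmix : Mixed X) (ht : TransW X) : specialLinear P9 F ≤ X := by
  classical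
  have h := hX.om
  have hω1 : ω - 1 ≠ 0 := sub_ne_zero.mpr h.ne_one
  have hω0 := h.ne_zero
  obtain ⟨a, φ, ha, hφ, hφa, haq, hφq, hm⟩ := ht
  obtain ⟨Good, hGood⟩ : ∃ Good : (P9 → F) → (P9 → F) → Prop, ∀ a φ, Good a φ ↔ (φ ⬝ᵥ a = 0 ∧ Mem X (tv a φ)) :=
    ⟨_, fun _ _ => Iff.rfl⟩
  have hsmul : ∀ a φ (c : F), Good a φ → Good a (c • φ) := by
    intro a φ c hg
    obtain ⟨h0, h1⟩ := (hGood a φ).mp hg
    obtain ⟨n, rfl⟩ : ∃ n : ℕ, (n : F) = c := by
      obtain ⟨f⟩ := (⟨ZMod.ringEquiv F hcard⟩ : Nonempty (ZMod p ≃+* F))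
      exact ⟨(f.symm c).val, by rw [← map_natCast f, ZMod.natCast_zmod_val, RingEquiv.apply_symm_apply]⟩
    refine (hGood _ _).mpr ⟨by rw [smul_dotProduct, h0, smul_zero], ?_⟩
    induction n with
    | zero => simp only [tv, Nat.cast_zero, zero_smul, Matrix.vecMulVec_zero, add_zero]; exact Mem.one
    | succ n ih =>
      have h2 := ih.mul h1
      rw [tv_mul (by rw [smul_dotProduct, h0, smul_zero])] at h2
      rw [tv, Nat.cast_succ, add_smul, one_smul, Matrix.vecMulVec_add]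
      exact h2
  have hsmulL : ∀ a φ (c : F), Good a φ → Good (c • a) φ := fun a φ c hg => by
    obtain ⟨h0, h1⟩ := (hGood _ _).mp (hsmul a φ c hg)
    refine (hGood _ _).mpr ⟨by rw [dotProduct_smul, ((hGood a φ).mp hg).1, smul_zero], ?_⟩
    rwa [tv, Matrix.smul_vecMulVec, ← Matrix.vecMulVec_smul]
  have haddL : ∀ a b φ, Good a φ → Good b φ → Good (a + b) φ := fun a b φ hga hgb => by
    obtain ⟨h0, h1⟩ := (hGood _ _).mp hga
    obtain ⟨h0', h1'⟩ := (hGood _ _).mp hgb
    refine (hGood _ _).mpr ⟨by rw [dotProduct_add, h0, h0', add_zero], ?_⟩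
    have h2 := h1.mul h1'
    rw [tv_mul h0'] at h2
    rwa [tv, Matrix.add_vecMulVec]
  have haddR : ∀ a φ ψ, Good a φ → Good a ψ → Good a (φ + ψ) := fun a φ ψ hga hgb => by
    obtain ⟨h0, h1⟩ := (hGood _ _).mp hga
    obtain ⟨h0', h1'⟩ := (hGood _ _).mp hgb
    refine (hGood _ _).mpr ⟨by rw [add_dotProduct, h0, h0', add_zero], ?_⟩
    have h2 := h1.mul h1'
    rw [tv_mul h0] at h2
    rwa [tv, Matrix.vecMulVec_add]
  have hmon : ∀ (π : P9 → P9) (v : P9 → F), Function.Injective π → (∀ x, v x ≠ 0) → Mem X (monP π v) →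
      ∀ a φ, Good a φ → Good (fun x => v x * a (π x)) (fun x => (v x)⁻¹ * φ (π x)) := by
    intro π v hπ hv hm a φ hg
    obtain ⟨h0, h1⟩ := (hGood _ _).mp hg
    refine (hGood _ _).mpr ⟨?_, hm.conj h1 (monP_conj_vec hπ hv a φ)⟩
    rw [← h0, dotProduct, dotProduct]
    refine Fintype.sum_bijective π (Finite.injective_iff_bijective.mp hπ) _ _ fun x => ?_
    have := hv x
    field_simp
  -- the diagonal pair at `x` and the last coordinate
  have hd : ∀ x : P9, x ≠ (2, 2) → ∀ a φ, Good a φ → a (2, 2) = 0 → φ (2, 2) = 0 →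
      Good (a + Pi.single x ((ω - 1) * a x)) (φ + Pi.single x ((ω * ω - 1) * φ x)) := by
    intro x hx a φ hg haq hφq
    obtain ⟨v, hv⟩ : ∃ v : P9 → F, ∀ z, v z = if z = x then ω else if z = (2, 2) then ω * ω else 1 := ⟨_, fun _ => rfl⟩
    have hv0 : ∀ z, v z ≠ 0 := fun z => by rw [hv]; split_ifs <;> simp [hω0]
    have hm : Mem X (monP id v) := by
      convert pd_mem hX hmix hx using 1
      ext i k
      simp only [monP, pd, Matrix.of_apply, Matrix.diagonal_apply, id, hv, eq_comm]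
    convert hmon id v Function.injective_id hv0 hm a φ hg using 1 <;> funext z <;> simp only [id, hv, Pi.add_apply]
    · by_cases h1 : z = x
      · subst h1; rw [Pi.single_eq_same, if_pos rfl]; ring
      · rw [Pi.single_eq_of_ne h1, add_zero, if_neg h1]
        split_ifs with h2
        · rw [h2, haq, mul_zero]
        · rw [one_mul]
    · by_cases h1 : z = x
      · subst h1
        rw [Pi.single_eq_same, if_pos rfl]
        have := h.cube
        field_simp
        linear_combination φ z * this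
      · rw [Pi.single_eq_of_ne h1, add_zero, if_neg h1]
        split_ifs with h2
        · rw [h2, hφq, mul_zero]
        · rw [inv_one, one_mul]
  have hg0 : Good a φ := (hGood _ _).mpr ⟨hφa, hm⟩
  have hne22 : ∀ x, a x ≠ 0 → x ≠ (2, 2) := fun x hx e => hx (e ▸ haq)
  -- an elementary transvection
  obtain ⟨i, j, hij, hgood⟩ : ∃ i j : P9, i ≠ j ∧ Good (Pi.single i 1) (Pi.single j 1) := by
    by_cases hA : ∃ j, a j * φ j ≠ 0
    · obtain ⟨j, hj⟩ := hA
      have haj : a j ≠ 0 := fun e => hj (by rw [e, zero_mul])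
      have hφj : φ j ≠ 0 := fun e => hj (by rw [e, mul_zero])
      have hjq := hne22 j haj
      obtain ⟨a', ha'⟩ : ∃ a', a' = a + Pi.single j ((ω - 1) * a j) := ⟨_, rfl⟩
      obtain ⟨φ', hφ'⟩ : ∃ φ', φ' = φ + Pi.single j ((ω * ω - 1) * φ j) := ⟨_, rfl⟩
      have hg1 : Good a' φ' := ha' ▸ hφ' ▸ hd j hjq a φ hg0 haq hφq
      have e1 : φ ⬝ᵥ a' = (ω - 1) * a j * φ j := by rw [ha', dotProduct_add, hφa, dotProduct_single]; ring
      have e2 : φ' ⬝ᵥ a = (ω * ω - 1) * φ j * a j := by rw [hφ', add_dotProduct, hφa, single_dotProduct]; ring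
      have hl : (ω - 1) * a j * φ j ≠ 0 := mul_ne_zero (mul_ne_zero hω1 haj) hφj
      obtain ⟨l, hl'⟩ : ∃ l, l = ((ω - 1) * a j * φ j)⁻¹ := ⟨_, rfl⟩
      obtain ⟨h0, h1⟩ := (hGood _ _).mp (hsmul a' φ' l hg1)
      have h2 : Mem X (tv (a + ((l • φ') ⬝ᵥ a) • a') (φ - (φ ⬝ᵥ a') • (l • φ'))) :=
        h1.conj hm (tv_conj h0)
      rw [e1, smul_dotProduct, e2, smul_smul, hl', mul_inv_cancel₀ hl, one_smul,
        show φ - φ' = Pi.single j (-((ω * ω - 1) * φ j)) by rw [hφ', Pi.single_neg]; abel, smul_eq_mul] at h2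
      obtain ⟨b, hb⟩ : ∃ b, b = a - Pi.single j (a j) := ⟨_, rfl⟩
      have hbc : a + (((ω - 1) * a j * φ j)⁻¹ * ((ω * ω - 1) * φ j * a j)) • a' = (ω + 2) • b := by
        have e3 : ((ω - 1) * a j * φ j)⁻¹ * ((ω * ω - 1) * φ j * a j) = ω + 1 := by
          field_simp
          ring
        rw [e3, ha', hb]
        funext z
        simp only [Pi.add_apply, Pi.smul_apply, Pi.sub_apply, smul_eq_mul]
        by_cases hz : z = j
        · subst hz; rw [Pi.single_eq_same, Pi.single_eq_same]; linear_combination a z * h.root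
        · rw [Pi.single_eq_of_ne hz, Pi.single_eq_of_ne hz]; ring
      rw [hbc] at h2
      have hbj : b j = 0 := by simp [hb]
      have hb2 : Good ((ω + 2) • b) (Pi.single j (-((ω * ω - 1) * φ j))) :=
        (hGood _ _).mpr ⟨by rw [dotProduct_smul, single_dotProduct, hbj, mul_zero, smul_zero], h2⟩
      have hw2 : ω + 2 ≠ 0 := fun e => h.three (by linear_combination h.root - (ω - 1) * e)
      have hw3 : ω * ω - 1 ≠ 0 := fun e => h.three (by linear_combination (2 - ω) * h.root + (ω - 1) * e)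
      have hb3 : Good b (Pi.single j 1) := by
        have := hsmulL _ _ (ω + 2)⁻¹ (hsmul _ _ (-((ω * ω - 1) * φ j))⁻¹ hb2)
        rwa [inv_smul_smul₀ hw2, ← Pi.single_smul, smul_eq_mul, inv_mul_cancel₀ (neg_ne_zero.mpr (mul_ne_zero hw3 hφj))]
          at this
      obtain ⟨i, hi⟩ : ∃ i, b i ≠ 0 := Function.ne_iff.mp (fun e => hj (by
        have e2 := congrArg (fun z => φ ⬝ᵥ z) (hb ▸ e : a - Pi.single j (a j) = 0)
        simp only [dotProduct_sub, hφa, dotProduct_single, dotProduct_zero, zero_sub, neg_eq_zero] at e2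
        rw [mul_comm]; exact e2))
      have hij : i ≠ j := fun e => hi (e ▸ hbj)
      have hbq : b (2, 2) = 0 := by simp [hb, haq, Ne.symm hjq]
      have hiq : i ≠ (2, 2) := fun e => hi (e ▸ hbq)
      have h4 := hd i hiq b _ hb3 hbq (by simp [Ne.symm hjq])
      rw [Pi.single_eq_of_ne hij, mul_zero, Pi.single_zero, add_zero] at h4
      have h5 := hsmulL _ _ ((ω - 1) * b i)⁻¹ (haddL _ _ _ h4 (hsmulL _ _ (-1) hb3))
      refine ⟨i, j, hij, ?_⟩
      rwa [neg_one_smul, show b + Pi.single i ((ω - 1) * b i) + -b = Pi.single i ((ω - 1) * b i) by abel,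
        ← Pi.single_smul, smul_eq_mul, inv_mul_cancel₀ (mul_ne_zero hω1 hi)] at h5
    · push Not at hA
      obtain ⟨i, hi⟩ : ∃ i, a i ≠ 0 := Function.ne_iff.mp ha
      obtain ⟨j, hj⟩ : ∃ j, φ j ≠ 0 := Function.ne_iff.mp hφ
      have hφi : φ i = 0 := (mul_eq_zero.mp (hA i)).resolve_left hi
      have hij : i ≠ j := fun e => hj (e ▸ hφi)
      have h1 := hd i (hne22 i hi) a φ hg0 haq hφq
      rw [hφi, mul_zero, Pi.single_zero, add_zero] at h1
      have h2 := hsmulL _ _ ((ω - 1) * a i)⁻¹ (haddL _ _ _ h1 (hsmulL _ _ (-1) hg0))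
      rw [neg_one_smul, show a + Pi.single i ((ω - 1) * a i) + -a = Pi.single i ((ω - 1) * a i) by abel,
        ← Pi.single_smul, smul_eq_mul, inv_mul_cancel₀ (mul_ne_zero hω1 hi)] at h2
      have hjq : j ≠ (2, 2) := fun e => hj (e ▸ hφq)
      have h3 := hd j hjq _ φ h2 (by simp [Ne.symm (hne22 i hi)]) hφq
      rw [Pi.single_eq_of_ne (Ne.symm hij), mul_zero, Pi.single_zero, add_zero] at h3
      have h4 := haddR _ _ _ h3 (hsmul _ _ (-1) h2)
      rw [neg_one_smul, show φ + Pi.single j ((ω * ω - 1) * φ j) + -φ = Pi.single j ((ω * ω - 1) * φ j) by abel] at h4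
      have hw3 : ω * ω - 1 ≠ 0 := fun e => h.three (by linear_combination (2 - ω) * h.root + (ω - 1) * e)
      have h5 := hsmul _ _ ((ω * ω - 1) * φ j)⁻¹ h4
      rw [← Pi.single_smul, smul_eq_mul, inv_mul_cancel₀ (mul_ne_zero hw3 hj)] at h5
      exact ⟨i, j, hij, h5⟩
  -- all elementary transvections
  have hall : ∀ x y : P9, x ≠ y → Good (Pi.single x 1) (Pi.single y 1) := by
    refine pairs_all hX _ (fun π v hπ hv hm x y hq => ?_) hij hgood
    have := hsmul _ _ (v y) (hsmulL _ _ (v x)⁻¹ (hmon π v hπ hv hm _ _ hq))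
    convert this using 1 <;> funext z <;> simp only [Pi.single_apply, Pi.smul_apply, smul_eq_mul, hπ.eq_iff]
    · by_cases hz : z = x
      · subst hz; simp [hv]
      · simp [hz]
    · by_cases hz : z = y
      · subst hz; simp [hv]
      · simp [hz]
  rw [specialLinear_le_iff]
  intro x y hxy c
  obtain ⟨g, hg, e⟩ := ((hGood _ _).mp (hsmul _ _ c (hall x y hxy))).2
  convert hg
  apply Units.ext
  rw [e, transGL_coe, tv, Matrix.transvection]
  congr 1
  ext u w
  simp only [Matrix.single_apply, vecMulVec_apply, Pi.smul_apply, Pi.single_apply, smul_eq_mul]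
  by_cases hu : x = u <;> by_cases hw : y = w <;> simp [hu, hw, Ne.symm, eq_comm]

end Cfsg.Agent.Classical.TriFrame
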