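/-
The unitary case: centres of transvections in the plane of two coordinates.
-/
import Cfsg.Agent.Lib.Classical.TriFrame.TransSL
import Cfsg.Agent.Lib.Classical.UnitaryCount

set_option autoImplicit false
set_option linter.unusedSectionVars false

namespace Cfsg.Agent.Classical.TriFrame

open Matrix Kronecker Cfsg.Geo
open Cfsg.Agent.Classical
open Cfsg.Agent.Classical.LinThree.Hess

variable {F : Type*} [Field F] [Fintype F] {ω : F} {X : Subgroup (GL P9 F)} {σ : F ≃+* F}

/-- The conjugate vector. -/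
def cj (σ : F ≃+* F) (v : P9 → F) : P9 → F := fun x => σ (v x)

/-- The standard Hermitian product. -/
def hm (σ : F ≃+* F) (u v : P9 → F) : F := u ⬝ᵥ cj σ v

/-- The group preserves the standard Hermitian product. -/
def Iso (σ : F ≃+* F) (X : Subgroup (GL P9 F)) : Prop :=
  ∀ g ∈ X, ∀ u v, hm σ ((g : Matrix P9 P9 F) *ᵥ u) ((g : Matrix P9 P9 F) *ᵥ v) = hm σ u v

/-- All transvections with a given centre. -/
def HasC (σ : F ≃+* F) (X : Subgroup (GL P9 F)) (z : P9 → F) : Prop :=
  ∀ c : F, c + σ c = 0 → Mem X (tv z (c • cj σ z))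

section Basic

variable (hinv : ∀ x, σ (σ x) = x)

theorem hm_add_left (u u' v : P9 → F) : hm σ (u + u') v = hm σ u v + hm σ u' v := add_dotProduct u u' _

theorem hm_smul_left (c : F) (u v : P9 → F) : hm σ (c • u) v = c * hm σ u v := smul_dotProduct c u _

theorem hm_add_right (u v v' : P9 → F) : hm σ u (v + v') = hm σ u v + hm σ u v' := by
  rw [hm, hm, hm, ← dotProduct_add]; congr 1; funext x; simp [cj]

theorem hm_smul_right (c : F) (u v : P9 → F) : hm σ u (c • v) = σ c * hm σ u v := by
  rw [hm, hm, ← smul_eq_mul, ← dotProduct_smul]; congr 1; funext x; simp [cj]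

theorem hm_single_left (x : P9) (c : F) (v : P9 → F) : hm σ (Pi.single x c) v = c * σ (v x) := single_dotProduct ..

theorem hm_single_right (u : P9 → F) (x : P9) (c : F) : hm σ u (Pi.single x c) = u x * σ c := by
  rw [hm, show cj σ (Pi.single x c) = Pi.single x (σ c) by
    funext y; by_cases hy : y = x
    · subst hy; simp [cj]
    · simp [cj, hy], dotProduct_single]

include hinv in
theorem hm_swap (u v : P9 → F) : σ (hm σ u v) = hm σ v u := by
  simp only [hm, dotProduct, cj, map_sum, map_mul, hinv, mul_comm]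

theorem tv_mulVec (z φ x : P9 → F) : tv z φ *ᵥ x = x + (φ ⬝ᵥ x) • z := by
  rw [tv, Matrix.add_mulVec, Matrix.one_mulVec, Matrix.vecMulVec_mulVec]
  funext y; simp [mul_comm]

theorem tv_centre (z : P9 → F) (c : F) (x : P9 → F) : tv z (c • cj σ z) *ᵥ x = x + (c * hm σ x z) • z := by
  rw [tv_mulVec, smul_dotProduct, dotProduct_comm, smul_eq_mul, hm]

include hinv in
theorem hasC_smul {z : P9 → F} (hz : HasC σ X z) (t : F) : HasC σ X (t • z) := fun c hc => by
  have := hz (c * (σ t * t)) (by rw [map_mul, map_mul, hinv]; linear_combination (σ t * t) * hc)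
  convert this using 1
  simp only [tv, add_right_inj]
  ext x y
  simp only [vecMulVec_apply, Pi.smul_apply, cj, smul_eq_mul, map_mul]
  ring

include hinv in
theorem hasC_move {r z : P9 → F} (hr : HasC σ X r) (hz : HasC σ X z) (hrr : hm σ r r = 0) {c : F} (hc : c + σ c = 0) :
    HasC σ X (z + (c * hm σ z r) • r) := fun d hd => by
  have e1 : (c • cj σ r) ⬝ᵥ r = 0 := by
    rw [smul_dotProduct, dotProduct_comm, show r ⬝ᵥ cj σ r = hm σ r r from rfl, hrr, smul_zero]
  have h := (hr c hc).conj (hz d hd) (tv_conj e1)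
  convert h using 2
  · rw [smul_dotProduct, dotProduct_comm, smul_eq_mul]; rfl
  · rw [smul_dotProduct d, dotProduct_comm (cj σ z), show r ⬝ᵥ cj σ z = hm σ r z from rfl, ← hm_swap hinv z r]
    funext x
    simp only [cj, Pi.smul_apply, Pi.sub_apply, Pi.add_apply, smul_eq_mul, map_add, map_mul]
    linear_combination (d * σ (hm σ z r) * σ (r x)) * hc

include hinv in
/-- Isotropic points on the line through two centres. -/
theorem hasC_span {z u : P9 → F} (hz : HasC σ X z) (hu : HasC σ X u) (hzz : hm σ z z = 0) (huu : hm σ u u = 0)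
    (hne : hm σ z u ≠ 0) {a b : F} (hiso : hm σ (a • z + b • u) (a • z + b • u) = 0) : HasC σ X (a • z + b • u) := by
  by_cases ha : a = 0
  · rw [ha, zero_smul, zero_add]; exact hasC_smul hinv hu b
  obtain ⟨s, rfl⟩ : ∃ s, b = a * s := ⟨a⁻¹ * b, by rw [mul_inv_cancel_left₀ ha]⟩
  rw [mul_smul, ← smul_add]
  refine hasC_smul hinv ?_ a
  have hs : s * σ (hm σ z u) + σ s * hm σ z u = 0 := by
    rw [mul_smul, ← smul_add, hm_smul_left, hm_smul_right, hm_add_left, hm_add_right, hm_add_right, hm_smul_left,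
      hm_smul_left, hm_smul_right, hm_smul_right, hzz, huu, ← hm_swap hinv z u] at hiso
    have h1 := mul_left_cancel₀ ha (hiso.trans (mul_zero a).symm)
    have h2 := mul_left_cancel₀ ((map_ne_zero σ).mpr ha) (h1.trans (mul_zero _).symm)
    linear_combination h2
  have hc : s / hm σ z u + σ (s / hm σ z u) = 0 := by
    rw [map_div₀]
    have := (map_ne_zero σ).mpr hne
    field_simp
    linear_combination hs
  have := hasC_move hinv hu hz huu hc
  rwa [div_mul_cancel₀ _ hne] at this

end Basic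

theorem monP_mulVec (π : P9 → P9) (v z : P9 → F) : monP π v *ᵥ z = fun x => v x * z (π x) := by
  funext x
  simp [Matrix.mulVec, dotProduct, monP]

theorem monP_norm (hI : Iso σ X) {π : P9 → P9} (hπ : Function.Injective π) {v : P9 → F} (hm' : Mem X (monP π v))
    (x : P9) : v x * σ (v x) = 1 := by
  obtain ⟨g, hg, e⟩ := hm'
  have h := hI g hg (Pi.single (π x) 1) (Pi.single (π x) 1)
  rw [e, monP_mulVec, show (fun y => v y * (Pi.single (π x) (1 : F) : P9 → F) (π y)) = Pi.single x (v x) by
    funext y; by_cases hy : y = x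
    · subst hy; simp
    · simp [hy, hπ.ne hy], hm_single_left, hm_single_left, Pi.single_eq_same, Pi.single_eq_same, map_one, mul_one] at h
  exact h

theorem hasC_mon (hI : Iso σ X) {π : P9 → P9} (hπ : Function.Injective π) {v : P9 → F} (hm' : Mem X (monP π v))
    {z : P9 → F} (hz : HasC σ X z) : HasC σ X (fun x => v x * z (π x)) := fun c hc => by
  have hv : ∀ x, v x ≠ 0 := fun x => left_ne_zero_of_mul_eq_one (monP_norm hI hπ hm' x)
  have h := hm'.conj (hz c hc) (monP_conj_vec hπ hv z (c • cj σ z))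
  convert h using 2
  rw [tv]
  congr 2
  funext x
  simp only [Pi.smul_apply, cj, smul_eq_mul, map_mul, inv_eq_of_mul_eq_one_right (monP_norm hI hπ hm' x)]
  ring

section Prime

variable {p : ℕ} [hp : Fact p.Prime] [CharP F p]

theorem sigma_cast (n : ℕ) : σ (n : F) = n := map_natCast σ n

/-- The fixed field is the prime field. -/
theorem fixed_cast (hσ : IsUSigma p σ) {x : F} (hx : σ x = x) : ∃ n < p, (n : F) = x := by
  classical
  by_contra hcon
  push Not at hcon
  have hinj : Set.InjOn (fun n : ℕ => (n : F)) (Finset.range p) := fun a ha b hb e => by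
    simp only [Finset.coe_range, Set.mem_Iio] at ha hb
    exact CharP.natCast_injOn_Iio F p ha hb e
  have hpoly : (Polynomial.X ^ p - Polynomial.X : Polynomial F) ≠ 0 := FiniteField.X_pow_card_sub_X_ne_zero F hp.out.one_lt
  have hsub : insert x ((Finset.range p).image fun n : ℕ => (n : F)) ⊆
      (Polynomial.X ^ p - Polynomial.X : Polynomial F).roots.toFinset := by
    intro y hy
    rw [Multiset.mem_toFinset, Polynomial.mem_roots hpoly, Polynomial.IsRoot.def, Polynomial.eval_sub,
      Polynomial.eval_pow, Polynomial.eval_X, sub_eq_zero, ← hσ.apply_eq]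
    rcases Finset.mem_insert.mp hy with rfl | hy
    · exact hx
    · obtain ⟨n, -, rfl⟩ := Finset.mem_image.mp hy; exact sigma_cast n
  have h1 := (Finset.card_le_card hsub).trans ((Multiset.toFinset_card_le _).trans (Polynomial.card_roots' _))
  rw [FiniteField.X_pow_card_sub_X_natDegree_eq F hp.out.one_lt, Finset.card_insert_of_notMem (by
      simp only [Finset.mem_image, Finset.mem_range, not_exists, not_and]; exact hcon),
    Finset.card_image_of_injOn hinj, Finset.card_range] at h1
  omega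

/-- A transvection avoiding the last coordinate gives a centre. -/
theorem hasC_of_trans (hσ : IsUSigma p σ) (hI : Iso σ X) (ht : TransW X) :
    ∃ z : P9 → F, z ≠ 0 ∧ hm σ z z = 0 ∧ z (2, 2) = 0 ∧ HasC σ X z := by
  obtain ⟨a, φ, ha, hφ, hφa, haq, -, hm'⟩ := ht
  obtain ⟨g, hg, e⟩ := id hm'
  have hadj : ∀ u v, (φ ⬝ᵥ u) * hm σ a v + σ (φ ⬝ᵥ v) * hm σ u a + (φ ⬝ᵥ u) * σ (φ ⬝ᵥ v) * hm σ a a = 0 := fun u v => by
    have h := hI g hg u v
    rw [e, show (1 + vecMulVec a φ : Matrix P9 P9 F) = tv a φ from rfl, tv_mulVec, tv_mulVec, hm_add_left, hm_add_right,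
      hm_add_right, hm_smul_left, hm_smul_left, hm_smul_right, hm_smul_right] at h
    linear_combination h
  obtain ⟨l, hl⟩ : ∃ l, φ l ≠ 0 := Function.ne_iff.mp hφ
  have haa : hm σ a a = 0 := by
    have h := hadj a (Pi.single l 1)
    simp only [hφa, dotProduct_single, mul_one, zero_mul, zero_add, add_zero] at h
    exact (mul_eq_zero.mp h).resolve_left ((map_ne_zero σ).mpr hl)
  have hk : ∀ k m, φ k * a m + σ (φ m) * σ (a k) = 0 := fun k m => by
    have h := hadj (Pi.single k 1) (Pi.single m 1)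
    rw [haa, mul_zero, add_zero, dotProduct_single, dotProduct_single, mul_one, mul_one, hm_single_right,
      hm_single_left, map_one, mul_one, one_mul] at h
    exact h
  obtain ⟨m, hm0⟩ : ∃ m, a m ≠ 0 := Function.ne_iff.mp ha
  obtain ⟨c, hc⟩ : ∃ c, c = -σ (φ m) / a m := ⟨_, rfl⟩
  have hφc : φ = c • cj σ a := by
    funext k
    rw [Pi.smul_apply, smul_eq_mul, cj, hc]
    field_simp
    linear_combination hk k m
  have hc0 : c ≠ 0 := fun e => hφ (by rw [hφc, e, zero_smul])
  have hcs : c + σ c = 0 := by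
    have h := hk m m
    rw [hφc, Pi.smul_apply, smul_eq_mul, cj, map_mul, hσ.involutive] at h
    refine (mul_eq_zero.mp (show (c + σ c) * (a m * σ (a m)) = 0 by linear_combination h)).resolve_right
      (mul_ne_zero hm0 ((map_ne_zero σ).mpr hm0))
  refine ⟨a, ha, haa, haq, fun d hd => ?_⟩
  obtain ⟨n, -, hn⟩ := fixed_cast hσ (x := d / c) (by
    rw [map_div₀, show σ c = -c by linear_combination hcs, show σ d = -d by linear_combination hd, neg_div_neg_eq])
  have key : ∀ n : ℕ, Mem X (tv a ((n : F) • φ)) := fun n => by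
    induction n with
    | zero => simp only [tv, Nat.cast_zero, zero_smul, Matrix.vecMulVec_zero, add_zero]; exact Mem.one
    | succ n ih =>
      have h2 := ih.mul hm'
      rw [show (1 + vecMulVec a φ : Matrix P9 P9 F) = tv a φ from rfl, tv_mul (by
        rw [smul_dotProduct, hφa, smul_zero])] at h2
      rw [tv, Nat.cast_succ, add_smul, one_smul, Matrix.vecMulVec_add]
      exact h2
  convert key n using 2
  rw [hn, hφc, smul_smul, div_mul_cancel₀ _ hc0]

/-- The norms of one minus the other norm-one elements. -/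
def nd [DecidableEq F] (σ : F ≃+* F) : Finset F :=
  ((Finset.univ.filter fun a => a * σ a = 1).erase 1).image fun a => (1 - a) * (1 - σ a)

theorem mem_nd [DecidableEq F] {t : F} : t ∈ nd σ ↔ ∃ a, a * σ a = 1 ∧ a ≠ 1 ∧ (1 - a) * (1 - σ a) = t := by
  simp only [nd, Finset.mem_image, Finset.mem_erase, Finset.mem_filter, Finset.mem_univ, true_and]
  exact ⟨fun ⟨a, ⟨h1, h2⟩, h3⟩ => ⟨a, h2, h1, h3⟩, fun ⟨a, h1, h2, h3⟩ => ⟨a, ⟨h2, h1⟩, h3⟩⟩

theorem nd_fixed [DecidableEq F] (hσ : IsUSigma p σ) {t : F} (ht : t ∈ nd σ) : σ t = t ∧ t ≠ 0 := by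
  obtain ⟨a, -, h1, rfl⟩ := mem_nd.mp ht
  refine ⟨by simp only [map_mul, map_sub, map_one, hσ.involutive, mul_comm], mul_ne_zero
    (sub_ne_zero.mpr (Ne.symm h1)) fun e => h1 ?_⟩
  rw [← hσ.involutive a, ← sub_eq_zero.mp e, map_one]

theorem card_nd [DecidableEq F] (hσ : IsUSigma p σ) : p ≤ 2 * (nd σ).card := by
  obtain ⟨S, hS⟩ : ∃ S : Finset F, S = (Finset.univ.filter fun a => a * σ a = 1).erase 1 := ⟨_, rfl⟩
  have hScard : S.card = p := by
    rw [hS, Finset.card_erase_of_mem (by simp), ← Fintype.card_subtype, ← Nat.card_eq_fintype_card,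
      UCount.card_norm_fibre hσ one_ne_zero (map_one σ), Nat.add_sub_cancel]
  have hfib : ∀ t ∈ nd σ, (S.filter fun a => (1 - a) * (1 - σ a) = t).card ≤ 2 := by
    intro t ht
    obtain ⟨a, ha, -, rfl⟩ := mem_nd.mp ht
    refine (Finset.card_le_card (t := {a, σ a}) fun b hb => ?_).trans (Finset.card_le_two)
    obtain ⟨hbS, hb⟩ := Finset.mem_filter.mp hb
    simp only [hS, Finset.mem_erase, Finset.mem_filter] at hbS
    have hzero : (b - a) * (b - σ a) = 0 := by
      linear_combination hb * (-b) + (b - 1) * hbS.2.2 - (b - 1) * ha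
    rcases mul_eq_zero.mp hzero with h | h <;> simp [sub_eq_zero.mp h]
  rw [nd, ← hS] at hfib ⊢
  exact hScard ▸ Finset.card_le_mul_card_image S 2 hfib

/-- Two sets of fixed elements, each at least half of the nonzero ones, meet. -/
theorem norm_meets [DecidableEq F] (hσ : IsUSigma p σ) (h2 : p ≠ 2) (B : Finset F) (hB : ∀ b ∈ B, σ b = b ∧ b ≠ 0)
    (hcard : p ≤ 2 * B.card + 1) : ∃ a : F, a * σ a = 1 ∧ a ≠ 1 ∧ (1 - a) * (1 - σ a) ∈ B := by
  by_contra hcon
  push Not at hcon
  have h1 := card_nd hσ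
  have hdisj : Disjoint (nd σ) B := Finset.disjoint_left.mpr fun t ht htB => by
    obtain ⟨a, ha, ha1, rfl⟩ := mem_nd.mp ht
    exact hcon a ha ha1 htB
  have hsub : nd σ ∪ B ⊆ ((Finset.range p).image (Nat.cast : ℕ → F)).erase 0 := by
    intro t ht
    have htf : σ t = t ∧ t ≠ 0 := (Finset.mem_union.mp ht).elim (nd_fixed hσ) (hB t)
    obtain ⟨n, hn, e⟩ := fixed_cast hσ htf.1
    exact Finset.mem_erase.mpr ⟨htf.2, Finset.mem_image.mpr ⟨n, Finset.mem_range.mpr hn, e⟩⟩
  have h3 := Finset.card_le_card hsub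
  rw [Finset.card_union_of_disjoint hdisj, Finset.card_erase_of_mem (Finset.mem_image.mpr
    ⟨0, Finset.mem_range.mpr hp.out.pos, Nat.cast_zero⟩)] at h3
  have h4 := Finset.card_image_le (s := Finset.range p) (f := (Nat.cast : ℕ → F))
  rw [Finset.card_range] at h4
  obtain ⟨k, hk⟩ := hp.out.odd_of_ne_two h2
  omega

end Prime

end Cfsg.Agent.Classical.TriFrame
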