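/-
The standard generators in new coordinates, and the normaliser criterion.
-/
import Cfsg.Agent.Lib.Classical.TriFrame.Coords
import Cfsg.Agent.Lib.Classical.TriFrame.TransU
import Cfsg.Agent.Lib.Classical.TriFrame.Proj
import Cfsg.Agent.Lib.Classical.UThree.Hess

set_option autoImplicit false
set_option linter.unusedSectionVars false
set_option linter.style.haveILetI false

namespace Cfsg.Agent.Classical.TriFrame

open Matrix Kronecker Cfsg Cfsg.Geo
open Cfsg.Agent.Classical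
open Cfsg.Agent.Classical.LinThree.Hess

universe u

variable {F : Type u} [Field F] {ω : F}

/-- Change of coordinates. -/
def cvt (Pm : Matrix (Fin 9) P9 F) (Qm : Matrix P9 (Fin 9) F) (hQP : Qm * Pm = 1) (hPQ : Pm * Qm = 1) :
    GL (Fin 9) F ≃* GL P9 F where
  toFun g := ⟨Qm * (g : Matrix (Fin 9) (Fin 9) F) * Pm, Qm * ((g⁻¹ : GL (Fin 9) F) : Matrix (Fin 9) (Fin 9) F) * Pm,
    by rw [Matrix.mul_assoc, ← Matrix.mul_assoc Pm, ← Matrix.mul_assoc Pm, hPQ, Matrix.one_mul, ← Matrix.mul_assoc,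
      Matrix.mul_assoc Qm, ← Units.val_mul, mul_inv_cancel, Units.val_one, Matrix.mul_one, hQP],
    by rw [Matrix.mul_assoc, ← Matrix.mul_assoc Pm, ← Matrix.mul_assoc Pm, hPQ, Matrix.one_mul, ← Matrix.mul_assoc,
      Matrix.mul_assoc Qm, ← Units.val_mul, inv_mul_cancel, Units.val_one, Matrix.mul_one, hQP]⟩
  invFun g := ⟨Pm * (g : Matrix P9 P9 F) * Qm, Pm * ((g⁻¹ : GL P9 F) : Matrix P9 P9 F) * Qm,
    by rw [Matrix.mul_assoc, ← Matrix.mul_assoc Qm, ← Matrix.mul_assoc Qm, hQP, Matrix.one_mul, ← Matrix.mul_assoc,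
      Matrix.mul_assoc Pm, ← Units.val_mul, mul_inv_cancel, Units.val_one, Matrix.mul_one, hPQ],
    by rw [Matrix.mul_assoc, ← Matrix.mul_assoc Qm, ← Matrix.mul_assoc Qm, hQP, Matrix.one_mul, ← Matrix.mul_assoc,
      Matrix.mul_assoc Pm, ← Units.val_mul, inv_mul_cancel, Units.val_one, Matrix.mul_one, hPQ]⟩
  left_inv g := Units.ext (by
    show Pm * (Qm * (g : Matrix (Fin 9) (Fin 9) F) * Pm) * Qm = _
    rw [Matrix.mul_assoc, Matrix.mul_assoc, hPQ, Matrix.mul_one, ← Matrix.mul_assoc, hPQ, Matrix.one_mul])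
  right_inv g := Units.ext (by
    show Qm * (Pm * (g : Matrix P9 P9 F) * Qm) * Pm = _
    rw [Matrix.mul_assoc, Matrix.mul_assoc, hQP, Matrix.mul_one, ← Matrix.mul_assoc, hQP, Matrix.one_mul])
  map_mul' g g' := Units.ext (by
    show Qm * ((g * g' : GL (Fin 9) F) : Matrix (Fin 9) (Fin 9) F) * Pm =
      Qm * (g : Matrix (Fin 9) (Fin 9) F) * Pm * (Qm * (g' : Matrix (Fin 9) (Fin 9) F) * Pm)
    rw [Units.val_mul]
    simp only [Matrix.mul_assoc]
    rw [← Matrix.mul_assoc Pm Qm, hPQ, Matrix.one_mul])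

theorem cvt_val (Pm : Matrix (Fin 9) P9 F) (Qm : Matrix P9 (Fin 9) F) (hQP : Qm * Pm = 1) (hPQ : Pm * Qm = 1)
    (g : GL (Fin 9) F) : (cvt Pm Qm hQP hPQ g : Matrix P9 P9 F) = Qm * (g : Matrix (Fin 9) (Fin 9) F) * Pm := rfl

theorem det_cvt (Pm : Matrix (Fin 9) P9 F) (Qm : Matrix P9 (Fin 9) F) (hQP : Qm * Pm = 1) (hPQ : Pm * Qm = 1)
    (g : GL (Fin 9) F) : (cvt Pm Qm hQP hPQ g : Matrix P9 P9 F).det = (g : Matrix (Fin 9) (Fin 9) F).det := by
  obtain ⟨e, -⟩ : ∃ e : P9 ≃ Fin 9, True := ⟨Fintype.equivFinOfCardEq (by simp), trivial⟩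
  obtain ⟨G, hG⟩ : ∃ G : Matrix (Fin 9) (Fin 9) F, G = (g : Matrix (Fin 9) (Fin 9) F) := ⟨_, rfl⟩
  rw [cvt_val, ← hG, ← Matrix.det_submatrix_equiv_self e.symm (Qm * G * Pm)]
  have h1 : (Qm * G * Pm).submatrix e.symm e.symm = Qm.submatrix e.symm id * G * Pm.submatrix id e.symm := by
    ext i j
    simp [Matrix.mul_apply, Matrix.submatrix]
  have h2 : Qm.submatrix e.symm id * Pm.submatrix id e.symm = 1 := by
    rw [← Matrix.submatrix_mul _ _ _ _ _ Function.bijective_id, hQP, Matrix.submatrix_one_equiv]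
  rw [h1, Matrix.det_mul, Matrix.det_mul, mul_comm (Matrix.det _) G.det, mul_assoc, ← Matrix.det_mul, h2,
    Matrix.det_one, mul_one]

/-- The standard Hermitian product is preserved. -/
def Un {n : Type} [Fintype n] [DecidableEq n] (σ : F ≃+* F) (M : Matrix n n F) : Prop := Mᵀ * M.map σ = 1

variable {σ : F ≃+* F}

theorem Un.mul {n : Type} [Fintype n] [DecidableEq n] {A B : Matrix n n F} (hA : Un σ A) (hB : Un σ B) : Un σ (A * B) := by
  unfold Un at *
  rw [Matrix.map_mul, Matrix.transpose_mul, Matrix.mul_assoc, ← Matrix.mul_assoc Aᵀ, hA, Matrix.one_mul, hB]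

theorem Un.kron {A B : Matrix (Fin 3) (Fin 3) F} (hA : Un σ A) (hB : Un σ B) : Un σ (A ⊗ₖ B) := by
  unfold Un at *
  rw [show (A ⊗ₖ B).map σ = A.map σ ⊗ₖ B.map σ by ext i j; simp [kroneckerMap_apply],
    show (A ⊗ₖ B)ᵀ = Aᵀ ⊗ₖ Bᵀ by ext i j; simp [kroneckerMap_apply], ← mul_kronecker_mul, hA, hB, one_kronecker_one]

theorem Un.smul {n : Type} [Fintype n] [DecidableEq n] {M : Matrix n n F} (hM : Un σ M) {c : F} (hc : c * σ c = 1) :
    Un σ (c • M) := by
  unfold Un at *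
  rw [show (c • M).map σ = σ c • M.map σ by ext i j; simp, Matrix.transpose_smul, Matrix.smul_mul, Matrix.mul_smul,
    smul_smul, hM, hc, one_smul]

theorem Un.one {n : Type} [Fintype n] [DecidableEq n] : Un σ (1 : Matrix n n F) := by
  simp [Un, Matrix.map_one]

theorem hm_eq (u v : P9 → F) : hm σ u v = u ⬝ᵥ fun x => σ (v x) := rfl

theorem Un.pres {M : Matrix P9 P9 F} (hM : Un σ M) (u v : P9 → F) : hm σ (M *ᵥ u) (M *ᵥ v) = hm σ u v := by
  rw [hm_eq, hm_eq, show (fun x => σ ((M *ᵥ v) x)) = M.map σ *ᵥ fun x => σ (v x) by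
    funext x; simp [Matrix.mulVec, dotProduct, map_sum], Matrix.dotProduct_mulVec, ← Matrix.vecMul_transpose M u,
    Matrix.vecMul_vecMul, hM, Matrix.vecMul_one]

theorem un_mono {n : Type} [Fintype n] [DecidableEq n] (π : n → n) (hπ : Function.Bijective π) (v : n → F)
    (hv : ∀ x, v x * σ (v x) = 1) : Un σ (Matrix.of fun x y => if y = π x then v x else 0) := by
  unfold Un
  ext y z
  obtain ⟨x, rfl⟩ := hπ.2 y
  rw [Matrix.mul_apply, Finset.sum_eq_single x (fun w _ hw => by simp [hπ.1.eq_iff, Ne.symm hw])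
    (fun hx => absurd (Finset.mem_univ x) hx)]
  simp only [Matrix.transpose_apply, Matrix.of_apply, Matrix.map_apply, if_true, Matrix.one_apply]
  by_cases hz : z = π x
  · simp [hz, hv]
  · simp [hz, Ne.symm hz]

theorem pw_norm (h : Om ω) (hσω : σ ω = ω * ω) (c : Fin 3) : pw ω c * σ (pw ω c) = 1 := by
  rw [pw, map_pow, hσω, ← mul_pow, ← mul_assoc, h.cube, one_pow]

theorem un_rm (h : Om ω) (hσω : σ ω = ω * ω) (e : Fin 3 × Fin 3) : Un σ (rm ω e) :=
  un_mono (fun i => i - e.1) (Finite.injective_iff_bijective.mp fun a b q => by simpa using q) _ fun x => pw_norm h hσω _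

theorem un_sh (h : Om ω) (hσω : σ ω = ω * ω) : Un σ (sh ω) :=
  un_mono id Function.bijective_id _ fun x => pw_norm h hσω _

theorem un_qm [Fintype F] {q : ℕ} (hσ : IsUSigma q σ) (h : Om ω) (hσω : σ ω = ω * ω) (k : Fin 3) : Un σ (qm ω k) := by
  obtain ⟨-, -, hq, -⟩ := UThree.Hess.unitary_std hσ h hσω
  unfold Un
  ext i j
  have e := hq k (Pi.single i 1) (Pi.single j 1)
  rw [hσ.hermForm_eq, hσ.hermForm_single, Matrix.mulVec_single_one, Matrix.mulVec_single_one] at e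
  simp only [Matrix.col_apply, one_mul] at e
  rw [Matrix.mul_apply, Matrix.one_apply]
  simp only [Matrix.transpose_apply, Matrix.map_apply]
  rw [e]
  by_cases hij : i = j
  · subst hij; simp
  · simp [hij]

theorem un_sw : Un σ (sw F) :=
  un_mono (fun x : P9 => (x.2, x.1)) (Finite.injective_iff_bijective.mp fun a b q => by
    simp only [Prod.mk.injEq] at q; exact Prod.ext q.2 q.1) _ fun x => by rw [map_neg, map_one]; ring

theorem un_dg (h : Om ω) (hσω : σ ω = ω * ω) (i : Fin 3) (e : Fin 3 × Fin 3) : Un σ (dg ω i e) := by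
  unfold Un
  rw [dg, Matrix.blockDiagonal_map _ _ (map_zero σ), Matrix.blockDiagonal_transpose, ← Matrix.blockDiagonal_mul,
    ← Matrix.blockDiagonal_one]
  congr 1
  funext k
  exact (un_rm h hσω _).smul (pw_norm h hσω _)

theorem det_sw : (sw F : Matrix P9 P9 F).det = 1 := by
  have e : (sw F : Matrix P9 P9 F) = -(Equiv.Perm.permMatrix F (Equiv.prodComm (Fin 3) (Fin 3))) := by
    ext x y
    simp only [sw, Matrix.of_apply, Matrix.neg_apply, Equiv.Perm.permMatrix, Equiv.toPEquiv, PEquiv.toMatrix_apply]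
    obtain ⟨a, b⟩ := x
    obtain ⟨c, d⟩ := y
    fin_cases a <;> fin_cases b <;> fin_cases c <;> fin_cases d <;> simp [fin_three_facts]
  rw [e, Matrix.det_neg, Matrix.det_permutation,
    show Equiv.Perm.sign (Equiv.prodComm (Fin 3) (Fin 3) : Equiv.Perm P9) = -1 by decide,
    show Fintype.card P9 = 9 by simp]
  norm_num

theorem det_dg (h : Om ω) (i : Fin 3) (e : Fin 3 × Fin 3) : (dg ω i e).det = 1 := by
  rw [dg, Matrix.det_blockDiagonal]
  refine Finset.prod_eq_one fun k _ => ?_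
  rw [rp, Matrix.det_smul, det_rm h, mul_one, Fintype.card_fin, pw, ← pow_mul, mul_comm, pow_mul,
    show ω ^ 3 = 1 by linear_combination h.cube, one_pow]

section Normaliser

variable [Fintype F] {R : Subgroup (GL (Fin 9) F)} {Pm : Matrix (Fin 9) P9 F} {Qm : Matrix P9 (Fin 9) F}
  (hQP : Qm * Pm = 1) (hPQ : Pm * Qm = 1)
  (hmem : ∀ g : GL (Fin 9) F, g ∈ R ↔ ∃ c a, Qm * (g : Matrix (Fin 9) (Fin 9) F) * Pm = pw ω c • W ω a)

include hmem

theorem normalises_of_acts (h : Om ω) {g : GL (Fin 9) F} {f : Ix → Ix}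
    (hg : Acts ω (cvt Pm Qm hQP hPQ g : Matrix P9 P9 F) f) : g ∈ subgroupNormalizer R := by
  refine LinThree.Hess.Ctx.mem_normalizer_of_forall fun x hx => ?_
  obtain ⟨c, a, he⟩ := (hmem x).mp hx
  obtain ⟨d, hd0, hd⟩ := hg a
  obtain ⟨Gm, hGm⟩ : ∃ Gm, Gm = cvt Pm Qm hQP hPQ g := ⟨_, rfl⟩
  rw [← hGm] at hd
  have h1 : (Gm : Matrix P9 P9 F) * W ω a * ((Gm⁻¹ : GL P9 F) : Matrix P9 P9 F) = d • W ω (f a) := by
    rw [hd, Matrix.smul_mul, Matrix.mul_assoc, ← Units.val_mul, mul_inv_cancel, Units.val_one, Matrix.mul_one]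
  have hd3 : d * d * d = 1 := by
    have e : (d * d * d) • (1 : Matrix P9 P9 F) = 1 := by
      calc (d * d * d) • (1 : Matrix P9 P9 F) = (d • W ω (f a)) * (d • W ω (f a)) * (d • W ω (f a)) := by
            simp only [Matrix.smul_mul, Matrix.mul_smul, smul_smul, W_cube h, mul_assoc]
        _ = 1 := by
            rw [← h1]
            simp only [Matrix.mul_assoc, ← Units.val_mul]
            rw [← Matrix.mul_assoc ((Gm⁻¹ : GL P9 F) : Matrix P9 P9 F) (Gm : Matrix P9 P9 F), ← Units.val_mul,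
              inv_mul_cancel, Units.val_one, Matrix.one_mul, ← Matrix.mul_assoc ((Gm⁻¹ : GL P9 F) : Matrix P9 P9 F)
              (Gm : Matrix P9 P9 F), ← Units.val_mul, inv_mul_cancel, Units.val_one, Matrix.one_mul,
              ← Matrix.mul_assoc (W ω a), ← Matrix.mul_assoc (W ω a * W ω a), W_cube h, Matrix.one_mul,
              ← Units.val_mul, mul_inv_cancel, Units.val_one]
    have := congrFun (congrFun e (0, 0)) (0, 0)
    simpa using this
  obtain ⟨m, rfl⟩ := pw_exists h hd3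
  refine (hmem _).mpr ⟨c + m, f a, ?_⟩
  have e2 : (cvt Pm Qm hQP hPQ (g * x * g⁻¹) : Matrix P9 P9 F) = pw ω c • (pw ω m • W ω (f a)) := by
    rw [map_mul, map_mul, map_inv, ← hGm, Units.val_mul, Units.val_mul, cvt_val, he, Matrix.mul_smul, Matrix.smul_mul, h1]
  rw [cvt_val] at e2
  rw [e2, smul_smul, ← pw_add h]

theorem acts_of_normalises (h : Om ω) {g : GL (Fin 9) F} (hg : g ∈ subgroupNormalizer R) :
    ∃ f, Acts ω (cvt Pm Qm hQP hPQ g : Matrix P9 P9 F) f := by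
  have hex : ∀ a, ∃ v, ∃ c : F, c ≠ 0 ∧ (cvt Pm Qm hQP hPQ g : Matrix P9 P9 F) * W ω a =
      c • (W ω v * (cvt Pm Qm hQP hPQ g : Matrix P9 P9 F)) := by
    intro a
    obtain ⟨x, hx⟩ : ∃ x : GL (Fin 9) F, x = (cvt Pm Qm hQP hPQ).symm (isUnit_W h a).unit := ⟨_, rfl⟩
    have hxv : Qm * (x : Matrix (Fin 9) (Fin 9) F) * Pm = W ω a := by
      rw [← cvt_val Pm Qm hQP hPQ, hx, MulEquiv.apply_symm_apply]; rfl
    have hxR : x ∈ R := (hmem x).mpr ⟨0, a, by rw [hxv, pw_zero, one_smul]⟩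
    obtain ⟨c, v, hv⟩ := (hmem _).mp ((Subgroup.mem_normalizer_iff.mp hg x).mp hxR)
    refine ⟨v, pw ω c, pw_ne_zero h c, ?_⟩
    rw [← Matrix.smul_mul, ← hv, ← cvt_val Pm Qm hQP hPQ, ← hxv, ← cvt_val Pm Qm hQP hPQ, ← Units.val_mul,
      ← Units.val_mul, ← map_mul, ← map_mul, inv_mul_cancel_right]
  choose v c hc0 hc using hex
  exact ⟨v, fun a => ⟨c a, hc0 a, hc a⟩⟩

end Normaliser

/-- An element outside the normaliser. -/
theorem exists_bad (h : Om ω) :
    ∃ g : GL P9 F, (g : Matrix P9 P9 F).det = 1 ∧ Un σ (g : Matrix P9 P9 F) ∧ ∀ f, ¬ Acts ω (g : Matrix P9 P9 F) f := by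
  obtain ⟨τ, hτ⟩ : ∃ τ : Equiv.Perm P9, τ = Equiv.swap ((0, 0) : P9) (0, 1) := ⟨_, rfl⟩
  obtain ⟨D, hD⟩ : ∃ D : P9 → F, D = fun x => if x = (0, 0) then -1 else 1 := ⟨_, rfl⟩
  obtain ⟨M, hM⟩ : ∃ M : Matrix P9 P9 F, M = Matrix.of fun x y => if y = τ x then D x else 0 := ⟨_, rfl⟩
  have hdet : M.det = 1 := by
    rw [show M = Matrix.diagonal D * Equiv.Perm.permMatrix F τ by
      ext x y; simp [hM, Matrix.diagonal_mul, Equiv.Perm.permMatrix, Equiv.toPEquiv, PEquiv.toMatrix_apply, eq_comm],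
      Matrix.det_mul, Matrix.det_diagonal, Matrix.det_permutation, hτ, Equiv.Perm.sign_swap (by decide), hD,
      Finset.prod_eq_single ((0, 0) : P9) (fun b _ hb => if_neg hb) (by simp), if_pos rfl]
    norm_num
  obtain ⟨g, hg⟩ : ∃ g : GL P9 F, (g : Matrix P9 P9 F) = M :=
    ⟨GeneralLinearGroup.mkOfDetNeZero M (by rw [hdet]; exact one_ne_zero), rfl⟩
  refine ⟨g, hg.symm ▸ hdet, ?_, fun f hf => ?_⟩
  · rw [hg, hM]
    refine un_mono _ τ.bijective _ fun x => ?_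
    simp only [hD]
    split_ifs <;> simp
  · obtain ⟨c, hc0, hc⟩ := hf ((0, (0, 1)) : Ix)
    rw [hg] at hc
    generalize f (0, (0, 1)) = v at hc
    have hω := h.ne_one
    have hr := h.root
    have a1 := congrFun (congrFun hc (1, 0)) (1, 0)
    have a2 := congrFun (congrFun hc (2, 0)) (2, 0)
    have a3 := congrFun (congrFun hc (0, 0)) (0, 1)
    have a4 := congrFun (congrFun hc (1, 1)) (1, 1)
    obtain ⟨⟨x1, p⟩, ⟨x2, q⟩⟩ := v
    simp only [hM, hD, hτ, W, rm, mono, Matrix.mul_apply, Matrix.of_apply, Matrix.smul_apply, kroneckerMap_apply,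
      Fintype.sum_prod_type, Fin.sum_univ_three, smul_eq_mul] at a1 a2 a3 a4
    fin_cases x1 <;> fin_cases x2 <;>
      simp [Equiv.swap_apply_def, pw_zero, fin_three_facts] at a1 a2 a3 a4
    fin_cases p <;> fin_cases q <;> simp [pw, fin_three_facts] at a1 a2 a3 a4 <;> grind

end Cfsg.Agent.Classical.TriFrame
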