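/-
Subgroups normalised by a noncyclic group of order nine whose elements have small centralisers.
-/
import Cfsg.Agent.Lib.Solv.Generation
import Cfsg.Agent.Lib.Solv.KegelProduct
import Mathlib.GroupTheory.Transfer

set_option autoImplicit false
set_option linter.style.haveILetI false

namespace Cfsg.Agent.Classical.TriFrame.Coprime

open Cfsg.Agent.Solv (CycQuot)

variable {G : Type*} [Group G] [Finite G] {Y N D A R : Subgroup G}

/-- The hypothesis on the acting group. -/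
structure Acting (Y N A : Subgroup G) : Prop where
  comm : IsMulCommutative A
  cube : ∀ a ∈ A, a ^ 3 = 1
  noncyc : ¬ IsCyclic A
  cent : ∀ a ∈ A, a ≠ 1 → ∀ x ∈ Y, x * a = a * x → x ∈ N

theorem Acting.isPGroup (h : Acting Y N A) : IsPGroup 3 A := fun a => ⟨1, by
  rw [pow_one]; exact Subtype.ext (by simpa using h.cube a a.2)⟩

/-- A central subgroup holding all three-elements of the small part is the whole Sylow subgroup. -/
theorem sylow_of_central (h : Acting Y N A) (hDY : D ≤ Y) (hAD : A ≤ Subgroup.normalizer (D : Set G)) (hRD : R ≤ D)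
    (hR : IsPGroup 3 R) (hRc : ∀ r ∈ R, ∀ x ∈ D, r * x = x * r) (hAR : ∀ r ∈ R, ∀ a ∈ A, r * a = a * r)
    (hlt : Nat.card R < Nat.card A) (hsmall : ∀ x ∈ D, x ∈ N → (∃ k, x ^ 3 ^ k = 1) → x ∈ R)
    {P : Subgroup G} (hPD : P ≤ D) (hP : IsPGroup 3 P) : Nat.card P ≤ Nat.card R := by
  classical
  haveI : Fact (Nat.Prime 3) := ⟨Nat.prime_three⟩
  by_contra hcard
  push Not at hcard
  obtain ⟨T, hT⟩ : ∃ T, T = Subgroup.normalizer (D : Set G) := ⟨_, rfl⟩
  have hDT : D ≤ T := hT ▸ Subgroup.le_normalizer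
  have hAT : A ≤ T := hT ▸ hAD
  -- a Sylow subgroup holding the acting group and the central part
  have hRnA : A ≤ Subgroup.normalizer (R : Set G) := fun a ha => by
    rw [Subgroup.mem_normalizer_iff]
    intro r
    constructor
    · intro hr
      rwa [← hAR r hr a ha, mul_inv_cancel_right]
    · intro hr
      have e := hAR _ hr a ha
      rw [inv_mul_cancel_right] at e
      have : r = a * r * a⁻¹ := mul_left_cancel e
      rwa [this]
  have hAR' : IsPGroup 3 (A ⊔ R : Subgroup G) := h.isPGroup.to_sup_of_normal_right' hR hRnA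
  obtain ⟨Q, hQ⟩ := (hAR'.of_equiv (Subgroup.subgroupOfEquivOfLe (sup_le hAT (hRD.trans hDT))).symm).exists_le_sylow
  obtain ⟨Q₀, hQ₀⟩ := (hP.of_equiv (Subgroup.subgroupOfEquivOfLe (hPD.trans hDT)).symm).exists_le_sylow
  obtain ⟨t, ht⟩ := MulAction.exists_smul_eq T Q₀ Q
  obtain ⟨M, hM⟩ : ∃ M, M = ((Q : Subgroup T).map T.subtype) ⊓ D := ⟨_, rfl⟩
  have hAQ : A ≤ (Q : Subgroup T).map T.subtype := fun a ha =>
    ⟨⟨a, hAT ha⟩, hQ (Subgroup.mem_sup_left ha : a ∈ A ⊔ R), rfl⟩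
  have hRQ : R ≤ (Q : Subgroup T).map T.subtype := fun r hr =>
    ⟨⟨r, hDT (hRD hr)⟩, hQ (Subgroup.mem_sup_right hr : r ∈ A ⊔ R), rfl⟩
  have hRM : R ≤ M := hM ▸ le_inf hRQ hRD
  have hPM : P.map (MulAut.conj (t : G)).toMonoidHom ≤ M := by
    rintro _ ⟨x, hx, rfl⟩
    rw [hM]
    refine ⟨⟨t * ⟨x, hDT (hPD hx)⟩ * t⁻¹, ?_, rfl⟩, (Subgroup.mem_normalizer_iff.mp (hT ▸ t.2) x).mp (hPD hx)⟩
    rw [← ht, Sylow.coe_subgroup_smul]
    exact ⟨⟨x, hDT (hPD hx)⟩, hQ₀ hx, rfl⟩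
  have hMc : Nat.card R < Nat.card M := lt_of_lt_of_le
    (hcard.trans_eq (Subgroup.card_map_of_injective (MulAut.conj (t : G)).injective).symm) (Subgroup.card_le_of_le hPM)
  -- the group generated inside it
  obtain ⟨Q₁, hQ₁⟩ : ∃ Q₁, Q₁ = M ⊔ A := ⟨_, rfl⟩
  have hQ₁p : IsPGroup 3 Q₁ := by
    refine ((Q.2.map T.subtype).to_le (?_ : Q₁ ≤ _))
    rw [hQ₁]
    exact sup_le (hM ▸ inf_le_left) hAQ
  have hQ₁T : Q₁ ≤ T := hQ₁ ▸ sup_le ((hM ▸ inf_le_right : M ≤ D).trans hDT) hAT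
  have hRn : (R.subgroupOf Q₁).Normal := by
    refine ⟨fun r hr x => ?_⟩
    have hx : (x : G) ∈ M ⊔ A := hQ₁ ▸ x.2
    have hle : M ⊔ A ≤ Subgroup.centralizer (R : Set G) := sup_le
      (fun m hm r hr => hRc r hr m (hM ▸ hm : m ∈ _ ⊓ D).2) (fun a ha r hr => hAR r hr a ha)
    rw [Subgroup.mem_subgroupOf] at hr ⊢
    rwa [Subgroup.coe_mul, Subgroup.coe_mul, Subgroup.coe_inv, ← hle hx (r : G) hr, mul_inv_cancel_right]
  let π := QuotientGroup.mk' (R.subgroupOf Q₁)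
  have hMQ : M ≤ Q₁ := hQ₁ ▸ le_sup_left
  have hDn : (D.subgroupOf Q₁).Normal := ⟨fun d hd x => by
    rw [Subgroup.mem_subgroupOf] at hd ⊢
    rw [Subgroup.coe_mul, Subgroup.coe_mul, Subgroup.coe_inv]
    exact (Subgroup.mem_normalizer_iff.mp (hT ▸ hQ₁T x.2) _).mp hd⟩
  haveI : ((D.subgroupOf Q₁).map π).Normal := hDn.map π (QuotientGroup.mk'_surjective _)
  have hne : (D.subgroupOf Q₁).map π ≠ ⊥ := by
    intro e
    rw [Subgroup.map_eq_bot_iff, QuotientGroup.ker_mk'] at e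
    refine (lt_irrefl _) (hMc.trans_le (Subgroup.card_le_of_le ?_))
    intro m hm
    exact e (show (⟨m, hMQ hm⟩ : Q₁) ∈ D.subgroupOf Q₁ from (hM ▸ hm : m ∈ _ ⊓ D).2)
  obtain ⟨z, hzD, hz1, hzc⟩ := Cfsg.Agent.Solv.Fct.normal_inf_center' (hQ₁p.to_quotient _) _ hne
  obtain ⟨⟨x, hxQ⟩, hxD, rfl⟩ := hzD
  have hcomm : ∀ a ∈ A, x⁻¹ * (a⁻¹ * x * a) ∈ R := by
    intro a ha
    have haQ : a ∈ Q₁ := hQ₁ ▸ Subgroup.mem_sup_right ha
    have e := hzc (π ⟨a, haQ⟩)
    rw [← map_mul, ← map_mul] at e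
    have e2 := QuotientGroup.eq.mp e.symm
    rw [Subgroup.mem_subgroupOf] at e2
    have e3 := R.inv_mem e2
    simp only [Subgroup.coe_mul, Subgroup.coe_inv, mul_inv_rev, inv_inv] at e3
    simpa only [mul_assoc] using e3
  let f : A → R := fun a => ⟨_, hcomm a a.2⟩
  obtain ⟨a, b, hab, heq⟩ : ∃ a b, a ≠ b ∧ f a = f b := by
    by_contra hcon
    push Not at hcon
    exact (not_lt.mpr (Nat.card_le_card_of_injective f fun a b e => Classical.byContradiction fun hn => hcon a b hn e)) hlt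
  have e1 : (a : G)⁻¹ * x * a = (b : G)⁻¹ * x * b := mul_left_cancel (congrArg Subtype.val heq)
  have hxN : x ∈ N := h.cent ((b : G) * (a : G)⁻¹) (A.mul_mem b.2 (A.inv_mem a.2))
    (fun e => hab (Subtype.ext (mul_inv_eq_one.mp e).symm)) x (hDY hxD) (by
      calc x * ((b : G) * (a : G)⁻¹) = (b : G) * ((b : G)⁻¹ * x * b) * (a : G)⁻¹ := by group
        _ = (b : G) * ((a : G)⁻¹ * x * a) * (a : G)⁻¹ := by rw [e1]
        _ = (b : G) * (a : G)⁻¹ * x := by group)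
  obtain ⟨k, hk⟩ := hQ₁p ⟨x, hxQ⟩
  have hxR := hsmall x hxD hxN ⟨k, by simpa using congrArg Subtype.val hk⟩
  exact hz1 ((QuotientGroup.eq_one_iff _).mpr hxR)

/-- Transfer and coprime generation. -/
theorem le_of_sylow (h : Acting Y N A) (hDY : D ≤ Y) (hAD : A ≤ Subgroup.normalizer (D : Set G)) (hRD : R ≤ D) (hRN : R ≤ N)
    (hR : IsPGroup 3 R) (hmax : ∀ P : Subgroup G, P ≤ D → IsPGroup 3 P → Nat.card P ≤ Nat.card R)
    (hburn : ∀ x ∈ D, x ∈ Subgroup.normalizer (R : Set G) → ∀ r ∈ R, x * r = r * x)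
    (hRab : ∀ r ∈ R, ∀ r' ∈ R, r * r' = r' * r) : D ≤ N := by
  classical
  haveI : Fact (Nat.Prime 3) := ⟨Nat.prime_three⟩
  let S : Sylow 3 D :=
    { toSubgroup := R.subgroupOf D
      isPGroup' := hR.of_equiv (Subgroup.subgroupOfEquivOfLe hRD).symm
      is_maximal' := by
        intro Q hQ hle
        refine (Subgroup.eq_of_le_of_card_ge hle ?_).symm
        rw [Nat.card_congr (Subgroup.subgroupOfEquivOfLe hRD).toEquiv]
        refine le_trans (le_of_eq (Subgroup.card_map_of_injective D.subtype_injective).symm)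
          (hmax (Q.map D.subtype) (Subgroup.map_subtype_le Q) (hQ.map D.subtype)) }
  have hN : Subgroup.normalizer ((S : Subgroup D) : Set D) ≤ Subgroup.centralizer ((S : Subgroup D) : Set D) := by
    intro x hx r hr
    refine Subtype.ext (hburn x x.2 ?_ (r : G) hr).symm
    rw [Subgroup.mem_normalizer_iff]
    intro g
    constructor
    · intro hg
      exact (Subgroup.mem_normalizer_iff.mp hx ⟨g, hRD hg⟩).mp hg
    · intro hg
      have hgD : g ∈ D := by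
        have := D.mul_mem (D.mul_mem (D.inv_mem x.2) (hRD hg)) x.2
        rwa [show (x : G)⁻¹ * ((x : G) * g * (x : G)⁻¹) * (x : G) = g by group] at this
      exact (Subgroup.mem_normalizer_iff.mp hx ⟨g, hgD⟩).mpr hg
  obtain ⟨K₀, hK₀⟩ : ∃ K₀ : Subgroup D, K₀ = (MonoidHom.transferSylow S hN).ker := ⟨_, rfl⟩
  have hnd : ¬ 3 ∣ Nat.card K₀ := hK₀ ▸ MonoidHom.not_dvd_card_ker_transferSylow S hN
  have hcomp := MonoidHom.ker_transferSylow_isComplement' S hN
  rw [← hK₀] at hcomp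
  have hchar : ∀ x : D, x ∈ K₀ ↔ ¬ 3 ∣ orderOf x := by
    intro x
    constructor
    · intro hx hd
      exact hnd (hd.trans (Subgroup.orderOf_mk x hx ▸ orderOf_dvd_natCard (⟨x, hx⟩ : K₀)))
    · intro hx
      rw [hK₀, MonoidHom.mem_ker, ← orderOf_eq_one_iff]
      have h1 := orderOf_map_dvd (MonoidHom.transferSylow S hN) x
      obtain ⟨k, hk⟩ := (IsPGroup.iff_orderOf.mp S.2) (MonoidHom.transferSylow S hN x)
      rw [hk] at h1 ⊢
      rcases Nat.eq_zero_or_pos k with rfl | hk0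
      · rfl
      · exact absurd ((dvd_pow_self 3 hk0.ne').trans h1) hx
  have hAK : A ≤ Subgroup.normalizer ((K₀.map D.subtype : Subgroup G) : Set G) := by
    intro a ha
    refine Subgroup.mem_normalizer_fintype ?_
    rintro _ ⟨x, hx, rfl⟩
    have hmem : a * (x : G) * a⁻¹ ∈ D := (Subgroup.mem_normalizer_iff.mp (hAD ha) _).mp x.2
    refine ⟨⟨_, hmem⟩, (hchar _).mpr ?_, rfl⟩
    rw [← Subgroup.orderOf_coe]
    show ¬ 3 ∣ orderOf (a * (x : G) * a⁻¹)
    rw [show a * (x : G) * a⁻¹ = (MulAut.conj a).toMonoidHom (x : G) from rfl,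
      orderOf_injective _ (MulAut.conj a).injective, Subgroup.orderOf_coe]
    exact (hchar x).mp hx
  have hco : (Nat.card A).Coprime (Nat.card (K₀.map D.subtype)) := by
    rw [Subgroup.card_map_of_injective D.subtype_injective]
    obtain ⟨k, hk⟩ := IsPGroup.iff_card.mp h.isPGroup
    rw [hk]
    exact (Nat.Coprime.pow_left k ((Nat.prime_three.coprime_iff_not_dvd).mpr hnd))
  have hKN : K₀.map D.subtype ≤ N := by
    rw [← Cfsg.Agent.Solv.gen_eq A (K₀.map D.subtype) h.comm hAK hco]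
    refine iSup₂_le fun B hB x hx => ?_
    obtain ⟨hBA, a, ha, hBa⟩ := hB
    obtain ⟨b, hb, hb1⟩ : ∃ b ∈ B, b ≠ 1 := by
      by_contra hcon
      push Not at hcon
      have hbot : B = ⊥ := (Subgroup.eq_bot_iff_forall B).mpr hcon
      rw [hbot, bot_sup_eq] at hBa
      exact h.noncyc (hBa ▸ (inferInstance : IsCyclic (Subgroup.zpowers a)))
    obtain ⟨y, -, rfl⟩ := hx.1
    exact h.cent b (hBA hb) hb1 _ (hDY y.2) (Subgroup.mem_centralizer_iff.mp hx.2 b hb).symm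
  intro x hx
  obtain ⟨⟨k, r⟩, hkr⟩ := hcomp.2 ⟨x, hx⟩
  rw [show x = ((k : D) : G) * ((r : D) : G) from (congrArg Subtype.val hkr).symm]
  exact N.mul_mem (hKN ⟨k, k.2, rfl⟩) (hRN r.2)

end Cfsg.Agent.Classical.TriFrame.Coprime
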