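/-
The kernel of the centraliser of the involution on its distinguished three-space.
-/
import Cfsg.Agent.Lib.Classical.TriFrame.Proj
import Cfsg.Agent.Lib.Classical.TriFrame.Coprime

set_option autoImplicit false
set_option linter.unusedSectionVars false
set_option linter.style.haveILetI false

namespace Cfsg.Agent.Classical.TriFrame

open Matrix Kronecker
open Cfsg.Agent.Classical.LinThree.Hess

variable {F : Type*} [Field F] {ω : F} {X : Subgroup (GL P9 F)}

/-- The involution with eigenvalue multiplicities three and six. -/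
def jM (ω : F) : Matrix P9 P9 F := Tm ω 0 ⊗ₖ (1 : Matrix (Fin 3) (Fin 3) F)

/-- The element of order three with eigenvalue multiplicities three and six. -/
def tM (ω : F) : Matrix P9 P9 F := sh ω ⊗ₖ (1 : Matrix (Fin 3) (Fin 3) F)

/-- The distinguished vector of the first factor. -/
def aU : Fin 3 → F := ![0, 1, -1]

/-- The distinguished three-space. -/
def uv (v : Fin 3 → F) : P9 → F := fun x => aU x.1 * v x.2

/-- Scalar on the distinguished space. -/
def ScalU (M : Matrix P9 P9 F) : Prop := ∃ c : F, c ≠ 0 ∧ ∀ v, M *ᵥ uv v = c • uv v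

theorem kron_uv (A B : Matrix (Fin 3) (Fin 3) F) {c : F} (hA : A *ᵥ (aU : Fin 3 → F) = c • aU) (v : Fin 3 → F) :
    (A ⊗ₖ B) *ᵥ uv v = c • uv (B *ᵥ v) := by
  funext x
  have e := congrFun hA x.1
  simp only [Matrix.mulVec, dotProduct, Pi.smul_apply, smul_eq_mul] at e
  simp only [Matrix.mulVec, dotProduct, uv, kroneckerMap_apply, Pi.smul_apply, smul_eq_mul]
  rw [Fintype.sum_prod_type, ← mul_assoc, ← e, Finset.sum_mul_sum]
  exact Finset.sum_congr rfl fun i _ => Finset.sum_congr rfl fun k _ => by ring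

theorem uv_inj {v w : Fin 3 → F} (e : uv v = uv w) : v = w := by
  funext k
  have := congrFun e (1, k)
  simpa [uv, aU] using this

theorem uv_smul (c : F) (v : Fin 3 → F) : c • uv v = uv (c • v) := by funext x; simp [uv]; ring

theorem tm0_aU : Tm ω 0 *ᵥ (aU : Fin 3 → F) = (1 : F) • aU := by
  funext i
  fin_cases i <;> simp [Tm, mono, aU, Matrix.mulVec, dotProduct, Fin.sum_univ_three, pw_zero, fin_three_facts]

theorem sh_aU : sh ω *ᵥ (aU : Fin 3 → F) = ω • aU := by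
  funext i
  fin_cases i <;> simp [sh, mono, aU, Matrix.mulVec, dotProduct, Fin.sum_univ_three, pw_zero, pw, fin_three_facts]

theorem W_uv (e : Fin 3 × Fin 3) (v : Fin 3 → F) : W ω ((0, e) : Ix) *ᵥ uv v = uv (rm ω e *ᵥ v) := by
  rw [W, rm_zero, kron_uv _ _ (c := 1) (by rw [Matrix.one_mulVec, one_smul]), one_smul]

theorem trace_jM (h : Om ω) : (jM ω).trace ≠ 0 := by
  rw [jM, trace_kronecker, Matrix.trace_one,
    show (Tm ω 0).trace = -1 by rw [Matrix.trace_fin_three]; simp [Tm, mono, pw_zero, fin_three_facts]]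
  simpa using h.three

theorem trace_tM : (tM ω).trace = 3 * (1 + 2 * ω) := by
  rw [tM, trace_kronecker, Matrix.trace_one]
  simp [sh, mono, Matrix.trace, Fin.sum_univ_three, pw, fin_three_facts]
  ring

theorem trace_tM_ne (h : Om ω) : (tM ω).trace ≠ 0 := by
  rw [trace_tM]
  refine mul_ne_zero h.three fun e => h.three ?_
  linear_combination (2 * ω + 1) * e * (-1) + 4 * h.root

theorem acts_jM (h : Om ω) : Acts ω (jM ω) (Prod.map (fun e => -e) id) := by
  refine Acts3.kron (fun e => ?_) Acts3.one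
  obtain ⟨c, hc⟩ := Tm_zero_rm h e
  exact ⟨_, pw_ne_zero h c, hc⟩

theorem acts_tM (h : Om ω) : Acts ω (tM ω) (Prod.map shf id) := (Acts3.sh h).kron Acts3.one

theorem jM_mem (hX : Gens ω X) : Mem X (jM ω) := by
  have e := (hX.quarter 0).mul (hX.quarter 0)
  rwa [← mul_kronecker_mul, Matrix.one_mul, qm_sq hX.om] at e

theorem W_jM (h : Om ω) (e : Fin 3 × Fin 3) : W ω ((0, e) : Ix) * jM ω = jM ω * W ω ((0, e) : Ix) := by
  rw [W, rm_zero, jM, ← mul_kronecker_mul, ← mul_kronecker_mul]; simp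

theorem W_tM (h : Om ω) (e : Fin 3 × Fin 3) : W ω ((0, e) : Ix) * tM ω = tM ω * W ω ((0, e) : Ix) := by
  rw [W, rm_zero, tM, ← mul_kronecker_mul, ← mul_kronecker_mul]; simp

variable [Fintype F]

/-- An element of the small part in the kernel permutes the first factor only. -/
theorem kern_acts (h : Om ω) {g : GL P9 F} {f : Ix → Ix} (hf : Acts ω (g : Matrix P9 P9 F) f)
    (hj : (g : Matrix P9 P9 F) * jM ω = jM ω * (g : Matrix P9 P9 F)) (hU : ScalU (g : Matrix P9 P9 F)) :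
    ∃ f1 : Fin 3 × Fin 3 → Fin 3 × Fin 3, (∀ a b, f1 (a + b) = f1 a + f1 b) ∧
      (∀ a b, sg3 (f1 a) (f1 b) = sg3 a b) ∧ f = Prod.map f1 id := by
  have hadd := hf.add h g.isUnit
  have hpres := hf.pres h g.isUnit
  have hju : IsUnit (jM ω) := by
    refine IsUnit.of_mul_eq_one (jM ω) ?_
    rw [jM, ← mul_kronecker_mul, Tm_mul_self h, Matrix.one_mul, one_kronecker_one]
  have hcomm : ∀ a, f (Prod.map (fun e => -e) id a) = Prod.map (fun e => -e) id (f a) := fun a =>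
    congrFun (Acts.unique h (g.isUnit.mul hju) (f := f ∘ Prod.map (fun e => -e) id)
      (f' := Prod.map (fun e => -e) id ∘ f) (hf.mul (acts_jM h)) (by rw [hj]; exact (acts_jM h).mul hf)) a
  have hfix : ∀ v : Ix, Prod.map (fun e : Fin 3 × Fin 3 => -e) id v = v → v.1 = 0 := by decide +kernel
  have hneg : ∀ v : Ix, Prod.map (fun e : Fin 3 × Fin 3 => -e) id v = -v → v.2 = 0 := by decide +kernel
  have h2 : ∀ e, (f (0, e)).1 = 0 := fun e => hfix _ (by rw [← hcomm]; simp)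
  have h1 : ∀ e, (f (e, 0)).2 = 0 := fun e => hneg _ (by
    rw [← hcomm]
    have hfz : f 0 = 0 := by
      have e := hadd 0 0; rw [add_zero] at e
      have e' := congrArg (fun v => v - f 0) e
      simpa using e'.symm
    refine eq_neg_of_add_eq_zero_left ?_
    rw [← hadd]
    have hz : ((e, 0) : Ix) + Prod.map (fun e => -e) id ((e, 0) : Ix) = 0 := Prod.ext (add_neg_cancel e) (add_zero _)
    rw [add_comm, hz, hfz])
  obtain ⟨f1, hf1⟩ : ∃ f1 : Fin 3 × Fin 3 → Fin 3 × Fin 3, ∀ e, f1 e = (f (e, 0)).1 := ⟨_, fun _ => rfl⟩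
  have he1 : ∀ e, f (e, 0) = (f1 e, 0) := fun e => Prod.ext (hf1 e).symm (h1 e)
  obtain ⟨c0, hc0, hU⟩ := hU
  have he2 : ∀ e, f (0, e) = (0, e) := by
    intro e
    refine Prod.ext (h2 e) ?_
    obtain ⟨d, hd0, hd⟩ := hf (0, e)
    obtain ⟨e', he'⟩ : ∃ e', f (0, e) = (0, e') := ⟨_, Prod.ext (h2 e) rfl⟩
    rw [he'] at hd
    rw [he']
    have hM : rm ω e = d • rm ω e' := by
      refine Matrix.ext_of_mulVec_single fun k => ?_
      generalize (Pi.single k (1 : F) : Fin 3 → F) = v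
      have e1 := congrArg (fun M => M *ᵥ uv v) hd
      simp only [← Matrix.mulVec_mulVec, Matrix.smul_mulVec, W_uv, hU, Matrix.mulVec_smul] at e1
      rw [smul_comm d c0] at e1
      have e2 : uv (rm ω e *ᵥ v) = d • uv (rm ω e' *ᵥ v) := smul_right_injective _ hc0 e1
      rw [uv_smul] at e2
      rw [Matrix.smul_mulVec]
      exact uv_inj e2
    exact (congrArg Prod.snd (W_inj h (a := ((0, e) : Ix)) (b := (0, e')) (c := d) (by
      rw [W, W, hM, kronecker_smul]))).symm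
  refine ⟨f1, fun a b => ?_, fun a b => ?_, funext fun a => ?_⟩
  · have := hadd (a, 0) (b, 0)
    simp only [Prod.mk_add_mk, add_zero, he1] at this
    exact congrArg Prod.fst this
  · have := hpres (a, 0) (b, 0)
    rw [he1, he1] at this
    simpa [sg, sg3] using this
  · rw [show f a = f (a.1, 0) + f (0, a.2) by rw [← hadd]; simp, he1, he2]
    simp [Prod.map]

theorem triple_ix : ∀ e : Fin 3 × Fin 3, e + e + e = 0 := by decide +kernel

theorem zpow_eq_mod_three {G : Type*} [Group G] {x : G} (hx : x ^ 3 = 1) {k : ℤ} : x ^ k = x ^ (k % 3) := by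
  conv_lhs => rw [← Int.emod_add_mul_ediv k 3]
  rw [_root_.zpow_add, _root_.zpow_mul, show x ^ (3 : ℤ) = 1 by exact_mod_cast hx, _root_.one_zpow, mul_one]

theorem four_of_three {G : Type*} [Group G] {x : G} (hx : x ^ 3 = 1) : x = x * x * (x * x) := by
  rw [← pow_two, ← pow_two, ← pow_mul, show 2 * 2 = 3 + 1 by rfl, pow_succ, hx, one_mul]

theorem two_fin : ∀ x : Fin 3, 2 * x = x + x := by decide

theorem commutant_shf : ∀ u v : Fin 3 × Fin 3, sg3 u v = sg3 (1, 0) (0, 1) →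
    shf u = (u.1 + (v.1 + v.1), u.2 + (v.2 + v.2)) → shf v = v →
    ∃ n m : Fin 3, ∀ a b : Fin 3, (shf^[n.val] ((fun e => -e)^[m.val] (a, b))) =
      ((a * u.1 + b * v.1, a * u.2 + b * v.2) : Fin 3 × Fin 3) := by
  decide +kernel

/-- The kernel on the distinguished space. -/
def Kg (ω : F) (X : Subgroup (GL P9 F)) : Subgroup (GL P9 F) where
  carrier := {g | g ∈ X ∧ (g : Matrix P9 P9 F) * jM ω = jM ω * (g : Matrix P9 P9 F) ∧ ScalU (g : Matrix P9 P9 F)}
  one_mem' := ⟨X.one_mem, by simp, 1, one_ne_zero, fun v => by simp⟩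
  mul_mem' := by
    rintro a b ⟨ha, hja, c, hc, hca⟩ ⟨hb, hjb, d, hd, hdb⟩
    refine ⟨X.mul_mem ha hb, ?_, c * d, mul_ne_zero hc hd, fun v => ?_⟩
    · rw [Units.val_mul, Matrix.mul_assoc, hjb, ← Matrix.mul_assoc, hja, Matrix.mul_assoc]
    · rw [Units.val_mul, ← Matrix.mulVec_mulVec, hdb, Matrix.mulVec_smul, hca, smul_smul, mul_comm d c]
  inv_mem' := by
    rintro a ⟨ha, hja, c, hc, hca⟩
    refine ⟨X.inv_mem ha, ?_, c⁻¹, inv_ne_zero hc, fun v => ?_⟩
    · refine a.isUnit.mul_left_cancel ?_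
      rw [← Matrix.mul_assoc, ← Units.val_mul, mul_inv_cancel, Units.val_one, Matrix.one_mul, ← Matrix.mul_assoc, hja,
        Matrix.mul_assoc, ← Units.val_mul, mul_inv_cancel, Units.val_one, Matrix.mul_one]
    · have e := congrArg (fun w => ((a⁻¹ : GL P9 F) : Matrix P9 P9 F) *ᵥ w) (hca v)
      simp only [Matrix.mulVec_mulVec, ← Units.val_mul, inv_mul_cancel, Units.val_one, Matrix.one_mulVec,
        Matrix.mulVec_smul] at e
      rw [eq_inv_smul_iff₀ hc, ← e]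

variable (hX : Gens ω X)

include hX

theorem tU_mem : ∃ tU : GL P9 F, tU ∈ Kg ω X ∧ (tU : Matrix P9 P9 F) = tM ω := by
  obtain ⟨g, hg, e⟩ := hX.shear
  refine ⟨g, ⟨hg, ?_, ω, hX.om.ne_zero, fun v => ?_⟩, e⟩
  · rw [e, jM, ← mul_kronecker_mul, ← mul_kronecker_mul, show sh ω * Tm ω 0 = Tm ω 0 * sh ω from ?_]
    ext i j
    fin_cases i <;> fin_cases j <;>
      simp [sh, Tm, mono, Matrix.mul_apply, Fin.sum_univ_three, pw_zero, pw, fin_three_facts]
  · rw [e, kron_uv _ _ sh_aU, Matrix.one_mulVec]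

/-- The frame of the second factor. -/
def Ab : Subgroup (PG9 F) where
  carrier := {x | ∃ g : GL P9 F, (∃ e, (g : Matrix P9 P9 F) = W ω ((0, e) : Ix)) ∧ pj9 F g = x}
  one_mem' := ⟨1, ⟨0, by rw [Units.val_one]; exact W_zero.symm⟩, map_one _⟩
  mul_mem' := by
    rintro _ _ ⟨g, ⟨e, he⟩, rfl⟩ ⟨g', ⟨e', he'⟩, rfl⟩
    obtain ⟨n, hn⟩ : ∃ n : GL P9 F, (n : Matrix P9 P9 F) = W ω ((0, e + e') : Ix) :=
      ⟨(isUnit_W hX.om _).unit, rfl⟩
    refine ⟨n, ⟨_, hn⟩, ?_⟩
    rw [← map_mul]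
    refine (pj9_eq.mpr ⟨pw ω ((0 : Fin 3 × Fin 3).2 * (0 : Fin 3 × Fin 3).1 + e.2 * e'.1), pw_ne_zero hX.om _, ?_⟩).symm
    rw [hn, Units.val_mul, he, he', W_mul hX.om, Prod.mk_add_mk, add_zero]
  inv_mem' := by
    rintro _ ⟨g, ⟨e, he⟩, rfl⟩
    obtain ⟨n, hn⟩ : ∃ n : GL P9 F, (n : Matrix P9 P9 F) = W ω ((0, -e) : Ix) :=
      ⟨(isUnit_W hX.om _).unit, rfl⟩
    refine ⟨n, ⟨_, hn⟩, eq_inv_of_mul_eq_one_left ?_⟩
    rw [← map_mul, pj9_eq_one]
    obtain ⟨c, hc⟩ := W_mul_inv hX.om ((0, -e) : Ix)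
    exact ⟨_, by rw [Units.val_mul, hn, he]; simpa using hc⟩

theorem acting (hmix : ¬ Mixed X) :
    Coprime.Acting (X.map (pj9 F)) ((NN hX.om X).map (pj9 F)) (Ab hX) where
  comm := ⟨⟨by
    rintro ⟨_, g, ⟨e, he⟩, rfl⟩ ⟨_, g', ⟨e', he'⟩, rfl⟩
    exact Subtype.ext (pj9_comm.mpr ⟨_, pw_ne_zero hX.om _, by rw [he, he']; exact W_comm hX.om _ _⟩)⟩⟩
  cube := by
    rintro _ ⟨g, ⟨e, he⟩, rfl⟩
    rw [← map_pow, pj9_eq_one, pow_succ, pow_two, Units.val_mul, Units.val_mul, he, W_mul hX.om, Matrix.smul_mul,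
      W_mul hX.om, smul_smul, show ((0, e) : Ix) + (0, e) + (0, e) = 0 from Prod.ext (by simp) (triple_ix e), W_zero]
    exact ⟨_, rfl⟩
  noncyc := by
    intro hcyc
    obtain ⟨u, hu⟩ : ∃ u : GL P9 F, (u : Matrix P9 P9 F) = W ω ((0, (1, 0)) : Ix) := ⟨(isUnit_W hX.om _).unit, rfl⟩
    obtain ⟨v, hv⟩ : ∃ v : GL P9 F, (v : Matrix P9 P9 F) = W ω ((0, (0, 1)) : Ix) := ⟨(isUnit_W hX.om _).unit, rfl⟩
    obtain ⟨⟨x, hx⟩, hgen⟩ := hcyc.exists_generator
    obtain ⟨k, hk⟩ := Subgroup.mem_zpowers_iff.mp (hgen ⟨pj9 F u, u, ⟨_, hu⟩, rfl⟩)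
    obtain ⟨l, hl⟩ := Subgroup.mem_zpowers_iff.mp (hgen ⟨pj9 F v, v, ⟨_, hv⟩, rfl⟩)
    have hk' := congrArg Subtype.val hk
    have hl' := congrArg Subtype.val hl
    simp only [SubgroupClass.coe_zpow] at hk' hl'
    have hx3 : x ^ 3 = 1 := by
      obtain ⟨g, ⟨e, he⟩, rfl⟩ := hx
      rw [← map_pow, pj9_eq_one, pow_succ, pow_two, Units.val_mul, Units.val_mul, he, W_mul hX.om, Matrix.smul_mul,
        W_mul hX.om, smul_smul, show ((0, e) : Ix) + (0, e) + (0, e) = 0 from Prod.ext (by simp) (triple_ix e), W_zero]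
      exact ⟨_, rfl⟩
    have hne : ∀ (g g' : GL P9 F) (a b : Ix), (g : Matrix P9 P9 F) = W ω a → (g' : Matrix P9 P9 F) = W ω b → a ≠ b →
        pj9 F g ≠ pj9 F g' := fun g g' a b hg hg' hab e => by
      obtain ⟨c, -, hc⟩ := pj9_eq.mp e
      rw [hg, hg'] at hc
      exact hab (W_inj hX.om hc)
    have h1 : (1 : PG9 F) = pj9 F 1 := (map_one _).symm
    have hW1 : ((1 : GL P9 F) : Matrix P9 P9 F) = W ω (0 : Ix) := by rw [Units.val_one, W_zero]
    have hsq : ∀ (g : GL P9 F) (a : Ix), (g : Matrix P9 P9 F) = W ω a →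
        ∃ g' : GL P9 F, (g' : Matrix P9 P9 F) = W ω (a + a) ∧ pj9 F g * pj9 F g = pj9 F g' := fun g a hg => by
      refine ⟨(isUnit_W hX.om (a + a)).unit, rfl, ?_⟩
      rw [← map_mul, pj9_eq]
      exact ⟨_, pw_ne_zero hX.om _, by rw [Units.val_mul, hg, W_mul hX.om]; rfl⟩
    obtain ⟨v2, hv2, hv2'⟩ := hsq v _ hv
    obtain ⟨u2, hu2, hu2'⟩ := hsq u _ hu
    rw [zpow_eq_mod_three hx3] at hk' hl'
    have hk3 : k % 3 = 0 ∨ k % 3 = 1 ∨ k % 3 = 2 := by omega
    have hl3 : l % 3 = 0 ∨ l % 3 = 1 ∨ l % 3 = 2 := by omega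
    rcases hk3 with hk3 | hk3 | hk3 <;> rcases hl3 with hl3 | hl3 | hl3 <;> rw [hk3] at hk' <;> rw [hl3] at hl' <;>
      simp only [zpow_zero, zpow_one, zpow_two] at hk' hl'
    all_goals first
      | exact hne u 1 _ _ hu hW1 (by decide) (hk'.symm.trans h1)
      | exact hne v 1 _ _ hv hW1 (by decide) (hl'.symm.trans h1)
      | exact hne u v _ _ hu hv (by decide) (hk'.symm.trans hl')
      | exact hne v u2 _ _ hv hu2 (by decide) (by rw [← hu2', ← hl', ← hk'] <;> exact four_of_three hx3)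
      | exact hne u v2 _ _ hu hv2 (by decide) (by rw [← hv2', ← hk', ← hl'] <;> exact four_of_three hx3)
  cent := by
    rintro _ ⟨g, ⟨e, he⟩, rfl⟩ ha _ ⟨x, hx, rfl⟩ hc
    obtain ⟨c, -, hc⟩ := pj9_comm.mp hc
    refine Subgroup.mem_map_of_mem _ (cent_any hX hmix (a := ((0, e) : Ix)) (fun q => ha ?_) hx (c := c) (he ▸ hc))
    exact pj9_eq_one.mpr ⟨1, by rw [he, q, one_smul]; exact W_zero⟩

theorem small_kern {tU jU g : GL P9 F} (ht : (tU : Matrix P9 P9 F) = tM ω) (hj : (jU : Matrix P9 P9 F) = jM ω)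
    {f : Ix → Ix} (hf : Acts ω (g : Matrix P9 P9 F) f) (hg : g ∈ Kg ω X)
    (htg : (g : Matrix P9 P9 F) * tM ω = tM ω * (g : Matrix P9 P9 F)) :
    ∃ n m : ℕ, pj9 F g = pj9 F tU ^ n * pj9 F jU ^ m := by
  have h := hX.om
  obtain ⟨-, hgj, hgU⟩ := id hg
  obtain ⟨f1, hadd, hpres, rfl⟩ := kern_acts h hf hgj hgU
  have hcomm : ∀ e, f1 (shf e) = shf (f1 e) := fun e => by
    have := congrFun (Acts.unique h (g.isUnit.mul (ht ▸ tU.isUnit)) (hf.mul (acts_tM h))
      (htg ▸ (acts_tM h).mul hf)) (e, 0)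
    simpa [Prod.map] using this
  have hlin : ∀ e, f1 e = (e.1 * (f1 (1, 0)).1 + e.2 * (f1 (0, 1)).1, e.1 * (f1 (1, 0)).2 + e.2 * (f1 (0, 1)).2) :=
    fun e => Prod.ext
      (add_ext3 (v := fun x => (f1 x).1) (v' := fun x => x.1 * (f1 (1, 0)).1 + x.2 * (f1 (0, 1)).1)
        (fun x y => by rw [hadd]; rfl) (fun x y => by simp [add_mul]; abel) (by simp) (by simp) e)
      (add_ext3 (v := fun x => (f1 x).2) (v' := fun x => x.1 * (f1 (1, 0)).2 + x.2 * (f1 (0, 1)).2)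
        (fun x y => by rw [hadd]; rfl) (fun x y => by simp [add_mul]; abel) (by simp) (by simp) e)
  obtain ⟨n, m, hnm⟩ := commutant_shf (f1 (1, 0)) (f1 (0, 1)) (hpres _ _) (by
      rw [← hcomm, hlin]; simp [shf, two_fin]) (by rw [← hcomm, hlin]; simp [shf])
  refine ⟨n, m, ?_⟩
  obtain ⟨r, hr⟩ : ∃ r : GL P9 F, r = tU ^ (n : ℕ) * jU ^ (m : ℕ) := ⟨_, rfl⟩
  have hiter : ∀ (u : GL P9 F) (φ : Fin 3 × Fin 3 → Fin 3 × Fin 3) (k : ℕ),
      Acts ω (u : Matrix P9 P9 F) (Prod.map φ id) →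
      Acts ω ((u ^ k : GL P9 F) : Matrix P9 P9 F) (Prod.map φ^[k] id) := by
    intro u φ k hu
    induction k with
    | zero => rw [pow_zero, Units.val_one]; exact Acts.one
    | succ k ih =>
      rw [pow_succ, Units.val_mul, Function.iterate_succ]
      have := ih.mul hu
      rw [Prod.map_comp_map, Function.comp_id] at this
      exact this
  have hra : Acts ω (r : Matrix P9 P9 F) (Prod.map f1 id) := by
    have := (hiter tU _ n (ht ▸ acts_tM h)).mul (hiter jU _ m (hj ▸ acts_jM h))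
    rw [← Units.val_mul, ← hr] at this
    convert this using 1
    funext a
    exact Prod.ext ((hlin a.1).trans (hnm a.1.1 a.1.2).symm) rfl
  obtain ⟨r', hr'⟩ := hra.inv h (show (r : Matrix P9 P9 F) * ((r⁻¹ : GL P9 F) : Matrix P9 P9 F) = 1 by
    rw [← Units.val_mul, mul_inv_cancel, Units.val_one])
  have hid : Prod.map f1 id ∘ r' = id := Acts.unique h (1 : GL P9 F).isUnit
    (by have := hra.mul hr'; rwa [← Units.val_mul, mul_inv_cancel] at this) (by rw [Units.val_one]; exact Acts.one)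
  have hx : Acts ω ((g * r⁻¹ : GL P9 F) : Matrix P9 P9 F) id := by
    rw [Units.val_mul]; exact hid ▸ hf.mul hr'
  obtain ⟨d, b, hd0, hb⟩ := W_of_twisted h (g * r⁻¹).ne_zero fun a => by
    obtain ⟨c, -, hc⟩ := hx a
    exact ⟨c, hc⟩
  -- the frame part is trivial
  obtain ⟨t', ht', hte⟩ := tU_mem hX
  have htU : tU ∈ Kg ω X := (Units.ext (hte.trans ht.symm) : t' = tU) ▸ ht'
  obtain ⟨j', hj', hje⟩ := jM_mem hX
  have hjU : jU ∈ Kg ω X := by
    rw [← (Units.ext (hje.trans hj.symm) : j' = jU)]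
    exact ⟨hj', by rw [hje], 1, one_ne_zero, fun v => by rw [hje, jM, kron_uv _ _ tm0_aU, Matrix.one_mulVec]⟩
  obtain ⟨-, hxj, c0, hc0, hxU⟩ := (Kg ω X).mul_mem hg ((Kg ω X).inv_mem (hr ▸ (Kg ω X).mul_mem ((Kg ω X).pow_mem htU _)
    ((Kg ω X).pow_mem hjU _) : r ∈ Kg ω X))
  have hb1 : b.1 = 0 := by
    rw [hb, Matrix.smul_mul, Matrix.mul_smul] at hxj
    have hxj' := smul_right_injective _ hd0 hxj
    obtain ⟨c, hc0', hc⟩ := acts_jM h b
    rw [← hxj', ← Matrix.smul_mul] at hc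
    have := (W_inj h ((hj ▸ jU.isUnit : IsUnit (jM ω)).mul_right_cancel hc))
    exact (show ∀ v : Ix, v = Prod.map (fun e : Fin 3 × Fin 3 => -e) id v → v.1 = 0 by decide +kernel) b this
  have hb2 : b = ((0, b.2) : Ix) := Prod.ext hb1 rfl
  have hrm : rm ω b.2 = (d⁻¹ * c0) • (1 : Matrix (Fin 3) (Fin 3) F) := by
    refine Matrix.ext_of_mulVec_single fun k => ?_
    generalize (Pi.single k (1 : F) : Fin 3 → F) = v
    have e := hxU v
    rw [hb, hb2, Matrix.smul_mulVec, W_uv, uv_smul, uv_smul] at e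
    rw [Matrix.smul_mulVec, Matrix.one_mulVec, ← smul_smul, ← uv_inj e, inv_smul_smul₀ hd0]
  have hb0 : b = 0 := W_inj h (c := d⁻¹ * c0) (by
    rw [hb2, W, hrm, rm_zero, kronecker_smul, one_kronecker_one, W_zero])
  rw [← map_pow, ← map_pow, ← map_mul, ← hr, ← mul_inv_eq_one, ← map_inv, ← map_mul, pj9_eq_one]
  exact ⟨d, by rw [hb, hb0, W_zero]⟩

/-- **The kernel lies in the small part.** -/
theorem kern_le (hmix : ¬ Mixed X) : Kg ω X ≤ NN hX.om X := by
  classical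
  have h := hX.om
  haveI : Finite (GL P9 F) := inferInstance
  haveI : Fact (Nat.Prime 3) := ⟨Nat.prime_three⟩
  obtain ⟨tU, htK, ht⟩ := tU_mem hX
  obtain ⟨jU, hjX, hj⟩ := jM_mem hX
  have hact := acting hX hmix
  obtain ⟨K, hK⟩ : ∃ K, K = (Kg ω X).map (pj9 F) := ⟨_, rfl⟩
  obtain ⟨R, hR⟩ : ∃ R, R = Subgroup.zpowers (pj9 F tU) := ⟨_, rfl⟩
  obtain ⟨D, hD⟩ : ∃ D, D = K ⊓ Subgroup.centralizer ({pj9 F tU} : Set (PG9 F)) := ⟨_, rfl⟩
  have htN : tU ∈ NN h X := ⟨htK.1, _, ht ▸ acts_tM h⟩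
  have hjN : jU ∈ NN h X := ⟨hjX, _, hj ▸ acts_jM h⟩
  have htj : (pj9 F jU) * pj9 F tU = pj9 F tU * pj9 F jU := by
    rw [← map_mul, ← map_mul]
    exact congrArg _ (Units.ext (by rw [Units.val_mul, Units.val_mul, hj]; exact htK.2.1.symm))
  have ht3 : pj9 F tU ^ 3 = 1 := by
    rw [← map_pow, pj9_eq_one]
    refine ⟨1, ?_⟩
    rw [one_smul, pow_succ, pow_two, Units.val_mul, Units.val_mul, ht, tM, ← mul_kronecker_mul, ← mul_kronecker_mul,
      Matrix.one_mul, Matrix.one_mul, ← one_kronecker_one (m := Fin 3) (n := Fin 3)]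
    congr 1
    have := h.cube
    ext i j
    fin_cases i <;> fin_cases j <;>
      simp [sh, mono, Matrix.mul_apply, Fin.sum_univ_three, pw, fin_three_facts, this]
  have hj2 : pj9 F jU ^ 2 = 1 := by
    rw [← map_pow, pj9_eq_one]
    exact ⟨1, by rw [one_smul, pow_two, Units.val_mul, hj, jM, ← mul_kronecker_mul, Tm_mul_self h, Matrix.one_mul,
      one_kronecker_one]⟩
  have hR3 : IsPGroup 3 R := by
    rintro ⟨x, hx⟩
    obtain ⟨k, rfl⟩ := Subgroup.mem_zpowers_iff.mp (hR ▸ hx)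
    refine ⟨1, Subtype.ext ?_⟩
    simp only [pow_one, SubgroupClass.coe_pow, OneMemClass.coe_one]
    rw [← zpow_natCast, ← _root_.zpow_mul, mul_comm, _root_.zpow_mul, zpow_natCast, ht3, _root_.one_zpow]
  have hRK : R ≤ K := by rw [hR, Subgroup.zpowers_le, hK]; exact Subgroup.mem_map_of_mem _ htK
  have hRc : ∀ r ∈ R, ∀ x : PG9 F, x * pj9 F tU = pj9 F tU * x → r * x = x * r := by
    intro r hr x hx
    obtain ⟨k, rfl⟩ := Subgroup.mem_zpowers_iff.mp (hR ▸ hr)
    exact ((Commute.zpow_right (h := hx) k)).eq.symm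
  have hRD : R ≤ D := hD ▸ le_inf hRK (by
    rw [hR, Subgroup.zpowers_le, Subgroup.mem_centralizer_singleton_iff])
  have hRN : R ≤ (NN h X).map (pj9 F) := by
    rw [hR, Subgroup.zpowers_le]; exact Subgroup.mem_map_of_mem _ htN
  have hAR : ∀ r ∈ R, ∀ a ∈ Ab hX, r * a = a * r := by
    rintro r hr _ ⟨g, ⟨e, he⟩, rfl⟩
    refine hRc r hr _ ?_
    rw [← map_mul, ← map_mul]
    exact congrArg _ (Units.ext (by rw [Units.val_mul, Units.val_mul, he, ht, W_tM h]))
  have hlt : Nat.card R < Nat.card (Ab hX) := by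
    have h1 : Nat.card R ≤ 3 := by
      rw [hR, Nat.card_zpowers]; exact Nat.le_of_dvd (by norm_num) (orderOf_dvd_of_pow_eq_one ht3)
    obtain ⟨k, hk⟩ := IsPGroup.iff_card.mp hact.isPGroup
    have h2 : 2 ≤ k := by
      by_contra hlt
      rcases Nat.le_one_iff_eq_zero_or_eq_one.mp (by omega : k ≤ 1) with rfl | rfl
      · haveI : Subsingleton (Ab hX) := (Nat.card_eq_one_iff_unique.mp (by rw [hk, pow_zero])).1
        exact hact.noncyc isCyclic_of_subsingleton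
      · exact hact.noncyc (isCyclic_of_prime_card (p := 3) (by rw [hk, pow_one]))
    have : 3 ^ 2 ≤ 3 ^ k := Nat.pow_le_pow_right (by norm_num) h2
    omega
  have hsmall : ∀ x ∈ D, x ∈ (NN h X).map (pj9 F) → (∃ k, x ^ 3 ^ k = 1) → x ∈ R := by
    intro x hx hxN hx3
    obtain ⟨hxK, hxc⟩ := Subgroup.mem_inf.mp (hD ▸ hx)
    rw [hK] at hxK
    obtain ⟨g, hg, rfl⟩ := hxK
    obtain ⟨-, f, hf⟩ := mem_NN_of_pj hg.1 hxN
    have htg : (g : Matrix P9 P9 F) * tM ω = tM ω * (g : Matrix P9 P9 F) := by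
      rw [← ht]
      exact commute_of_trace (ht ▸ trace_tM_ne h) (Subgroup.mem_centralizer_singleton_iff.mp hxc).symm.symm
    obtain ⟨n, m, hnm⟩ := small_kern hX ht hj hf hg htg
    obtain ⟨k, hk⟩ := hx3
    rw [hnm] at hk ⊢
    have hcomm : Commute (pj9 F tU ^ n) (pj9 F jU ^ m) := (Commute.pow_pow (h := htj.symm) n m)
    rcases k with _ | k
    · rw [pow_zero, pow_one] at hk; rw [hk]; exact R.one_mem
    rw [hcomm.mul_pow, ← pow_mul, ← pow_mul, show n * 3 ^ (k + 1) = 3 * (n * 3 ^ k) by ring, pow_mul, ht3, one_pow,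
      one_mul] at hk
    have hone : pj9 F jU ^ m = 1 := by
      obtain ⟨l, hl⟩ := (show Odd (3 ^ (k + 1)) from (by decide : Odd 3).pow)
      rw [hl, mul_add, mul_one, pow_add, ← mul_assoc, mul_comm m 2, mul_assoc, pow_mul, hj2, one_pow, one_mul] at hk
      exact hk
    rw [hone, mul_one, hR]
    exact Subgroup.pow_mem _ (Subgroup.mem_zpowers _) n
  have hDY : D ≤ X.map (pj9 F) := by
    rw [hD, hK]; exact inf_le_left.trans (Subgroup.map_mono fun g hg => hg.1)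
  have hAK : ∀ a ∈ Ab hX, ∀ x ∈ K, a * x * a⁻¹ ∈ K := by
    rintro _ ⟨g, ⟨e, he⟩, rfl⟩ x hx
    rw [hK] at hx ⊢
    obtain ⟨u, ⟨hu, huj, c, hc, huU⟩, rfl⟩ := hx
    refine ⟨g * u * g⁻¹, ⟨?_, ?_, c, hc, fun v => ?_⟩, by rw [map_mul, map_mul, map_inv]⟩
    · obtain ⟨g', hg', e'⟩ := hX.frame ((0, e) : Ix)
      rw [show g = g' from Units.ext (he.trans e'.symm)]
      exact X.mul_mem (X.mul_mem hg' hu) (X.inv_mem hg')
    · have hcj : Commute g jU := Units.ext (by rw [Units.val_mul, Units.val_mul, he, hj]; exact W_jM h e)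
      have huj' : Commute u jU := Units.ext (by rw [Units.val_mul, Units.val_mul, hj]; exact huj)
      rw [← hj, ← Units.val_mul, ← Units.val_mul, ((hcj.mul_left huj').mul_left hcj.inv_left).eq]
    · obtain ⟨w, rfl⟩ : ∃ w, rm ω e *ᵥ w = v := ⟨(rm ω e)⁻¹ *ᵥ v, by
        rw [Matrix.mulVec_mulVec, Matrix.mul_nonsing_inv _ (by rw [det_rm h]; exact isUnit_one), Matrix.one_mulVec]⟩
      rw [← W_uv, ← he, Units.val_mul, Units.val_mul, Matrix.mulVec_mulVec, Matrix.mul_assoc,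
        ← Units.val_mul g⁻¹, inv_mul_cancel, Units.val_one, Matrix.mul_one, ← Matrix.mulVec_mulVec, huU,
        Matrix.mulVec_smul]
  have hAD : Ab hX ≤ Subgroup.normalizer (D : Set (PG9 F)) := fun a ha => by
    refine Subgroup.mem_normalizer_fintype fun x hx => ?_
    rw [SetLike.mem_coe, hD] at hx ⊢
    refine ⟨hAK a ha x hx.1, Subgroup.mem_centralizer_singleton_iff.mpr ?_⟩
    have h1 : Commute x (pj9 F tU) := (Subgroup.mem_centralizer_singleton_iff.mp hx.2).symm.symm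
    have h2 : Commute a (pj9 F tU) := (hAR _ (hR ▸ Subgroup.mem_zpowers _) a ha).symm
    exact ((h2.mul_left h1).mul_left h2.inv_left).eq
  have hDmax : ∀ P : Subgroup (PG9 F), P ≤ D → IsPGroup 3 P → Nat.card P ≤ Nat.card R := fun P hP hP3 =>
    Coprime.sylow_of_central hact hDY hAD hRD hR3
      (fun r hr x hx => hRc r hr x (Subgroup.mem_centralizer_singleton_iff.mp (Subgroup.mem_inf.mp (hD ▸ hx)).2).symm.symm)
      hAR hlt hsmall hP hP3
  have hDN : D ≤ (NN h X).map (pj9 F) := Coprime.le_of_sylow hact hDY hAD hRD hRN hR3 hDmax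
    (fun x hx _ r hr => (hRc r hr x (Subgroup.mem_centralizer_singleton_iff.mp (Subgroup.mem_inf.mp (hD ▸ hx)).2).symm.symm).symm)
    (fun r hr r' hr' => hRc r hr r' (by
      obtain ⟨k, rfl⟩ := Subgroup.mem_zpowers_iff.mp (hR ▸ hr')
      exact (Commute.zpow_left (Commute.refl _) k).eq))
  have hKY : K ≤ X.map (pj9 F) := hK ▸ Subgroup.map_mono fun g hg => hg.1
  have hnorm : ∀ x : PG9 F, x ∈ K → x * pj9 F tU * x⁻¹ ∈ R → x * pj9 F tU = pj9 F tU * x := by
    intro x hxK hx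
    obtain ⟨k, hk⟩ := Subgroup.mem_zpowers_iff.mp (hR ▸ hx)
    rw [hK] at hxK
    obtain ⟨g, ⟨-, -, c0, hc0, hgU⟩, rfl⟩ := hxK
    have hk' : pj9 F g * pj9 F tU * (pj9 F g)⁻¹ = pj9 F tU ^ (k % 3) := by
      rw [← hk, ← zpow_eq_mod_three ht3]
    have hcases : k % 3 = 0 ∨ k % 3 = 1 ∨ k % 3 = 2 := by omega
    rcases hcases with h0 | h0 | h0 <;> rw [h0] at hk'
    · rw [zpow_zero, conj_eq_one_iff] at hk'; rw [hk', mul_one, one_mul]
    · rw [zpow_one, mul_inv_eq_iff_eq_mul] at hk'; exact hk'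
    · exfalso
      rw [show (2 : ℤ) = ((2 : ℕ) : ℤ) from rfl, zpow_natCast, mul_inv_eq_iff_eq_mul, pow_two, ← map_mul, ← map_mul,
        ← map_mul, pj9_eq] at hk'
      obtain ⟨c, hcne, hc⟩ := hk'
      rw [Units.val_mul, Units.val_mul, Units.val_mul] at hc
      have htU' : ∀ v, (tU : Matrix P9 P9 F) *ᵥ uv v = ω • uv v := fun v => by
        rw [ht, tM, kron_uv _ _ sh_aU, Matrix.one_mulVec]
      have e := congrArg (fun M => M *ᵥ uv (fun _ => (1 : F))) hc
      simp only [← Matrix.mulVec_mulVec, Matrix.smul_mulVec, htU', hgU, Matrix.mulVec_smul, smul_smul] at e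
      have e0 := congrFun e (1, 0)
      simp only [uv, aU, Pi.smul_apply, smul_eq_mul, Matrix.cons_val_one, Matrix.cons_val_zero, mul_one] at e0
      have h3c := h.cube
      have hcω : c = ω * ω := by
        refine mul_right_cancel₀ (mul_ne_zero (mul_ne_zero hc0 h.ne_zero) h.ne_zero) ?_
        linear_combination (-1 : F) * e0 - (c0 * ω) * h3c
      have e2 := congrArg (fun M => (M * ((g⁻¹ : GL P9 F) : Matrix P9 P9 F)).trace) hc
      simp only [Matrix.smul_mul, Matrix.trace_smul, smul_eq_mul] at e2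
      rw [Matrix.trace_mul_comm ((g : Matrix P9 P9 F) * _), ← Matrix.mul_assoc, ← Units.val_mul, inv_mul_cancel,
        Units.val_one, Matrix.one_mul, Matrix.mul_assoc _ _ ((g⁻¹ : GL P9 F) : Matrix P9 P9 F), ← Units.val_mul g,
        mul_inv_cancel, Units.val_one, Matrix.mul_one, ht, tM, ← mul_kronecker_mul, Matrix.one_mul, trace_kronecker,
        trace_kronecker, Matrix.trace_one, show (sh ω).trace = 1 + 2 * ω by
          rw [Matrix.trace_fin_three]; simp [sh, mono, pw, fin_three_facts]; ring,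
        show (sh ω * sh ω).trace = 1 + 2 * (ω * ω) by
          rw [Matrix.trace_fin_three]; simp [sh, mono, Matrix.mul_apply, Fin.sum_univ_three, pw, fin_three_facts]; ring,
        hcω] at e2
      simp only [Fintype.card_fin] at e2
      have e3 := mul_left_cancel₀ (a := (3 : F)) h.three (b := (1 + 2 * ω)) (c := ω * ω * (1 + 2 * (ω * ω))) (by
        push_cast at e2; linear_combination e2)
      refine h.ne_one ?_
      have h1 : ω * ω = 1 := by linear_combination (-1 : F) * e3 - (2 * ω) * h3c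
      linear_combination h3c - ω * h1
  have hKmax : ∀ Q : Subgroup (PG9 F), Q ≤ K → IsPGroup 3 Q → Nat.card Q ≤ Nat.card R := by
    intro Q hQ hQ3
    -- a Sylow subgroup through the cyclic group
    obtain ⟨S, hS⟩ := (hR3.of_equiv (Subgroup.subgroupOfEquivOfLe hRK).symm).exists_le_sylow
    obtain ⟨S₀, hS₀⟩ := (hQ3.of_equiv (Subgroup.subgroupOfEquivOfLe hQ).symm).exists_le_sylow
    have hQS : Nat.card Q ≤ Nat.card ((S : Subgroup K).map K.subtype) := by
      rw [Subgroup.card_map_of_injective K.subtype_injective, show Nat.card (S : Subgroup K) = Nat.card (S₀ : Subgroup K)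
        from Nat.card_congr (Sylow.equiv S S₀).toEquiv, ← Nat.card_congr (Subgroup.subgroupOfEquivOfLe hQ).toEquiv]
      exact Subgroup.card_le_of_le hS₀
    refine hQS.trans ?_
    obtain ⟨M, hM⟩ : ∃ M, M = (S : Subgroup K).map K.subtype := ⟨_, rfl⟩
    rw [← hM]
    have hRM : R ≤ M := fun r hr => hM ▸ ⟨⟨r, hRK hr⟩, hS hr, rfl⟩
    have hMK : M ≤ K := hM ▸ Subgroup.map_subtype_le _
    have hM3 : IsPGroup 3 M := hM ▸ S.2.map K.subtype
    by_contra hlt'
    push Not at hlt'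
    haveI : Group.IsNilpotent M := hM3.isNilpotent
    have hne : R.subgroupOf M ≠ ⊤ := fun e => by
      rw [Subgroup.subgroupOf_eq_top] at e
      exact (not_le.mpr hlt') (Subgroup.card_le_of_le e)
    obtain ⟨x, hxn, hxR⟩ := SetLike.exists_of_lt
      ((normalizerCondition_of_isNilpotent (G := M)) (R.subgroupOf M) (lt_top_iff_ne_top.mpr hne))
    have hxR' : (x : PG9 F) * pj9 F tU * (x : PG9 F)⁻¹ ∈ R :=
      ((Subgroup.mem_normalizer_iff.mp hxn) ⟨pj9 F tU, hRM (hR ▸ Subgroup.mem_zpowers _)⟩).mp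
        (Subgroup.mem_subgroupOf.mpr (show pj9 F tU ∈ R from hR.symm ▸ Subgroup.mem_zpowers _))
    have hxD : (x : PG9 F) ∈ D := by
      rw [hD]
      exact ⟨hMK x.2, Subgroup.mem_centralizer_singleton_iff.mpr (hnorm _ (hMK x.2) hxR')⟩
    obtain ⟨k, hk⟩ := hM3 x
    exact hxR (hsmall _ hxD (hDN hxD) ⟨k, by simpa using congrArg Subtype.val hk⟩)
  have hKN : K ≤ (NN h X).map (pj9 F) := Coprime.le_of_sylow hact hKY
    (fun a ha => Subgroup.mem_normalizer_fintype fun x hx => hAK a ha x hx) hRK hRN hR3 hKmax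
    (fun x hx hxn r hr => ((hRc r hr x (hnorm x hx
      ((Subgroup.mem_normalizer_iff.mp hxn _).mp (hR ▸ Subgroup.mem_zpowers _))))).symm)
    (fun r hr r' hr' => hRc r hr r' (by
      obtain ⟨k, rfl⟩ := Subgroup.mem_zpowers_iff.mp (hR ▸ hr')
      exact (Commute.zpow_left (Commute.refl _) k).eq))
  intro g hg
  exact mem_NN_of_pj hg.1 (hKN (hK ▸ Subgroup.mem_map_of_mem _ hg))

end Cfsg.Agent.Classical.TriFrame
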