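/-
Correcting an element of the centraliser of the involution to centralise a copy of `SL(2,3)`.
-/
import Cfsg.Agent.Lib.Classical.TriFrame.Kern
import Cfsg.Agent.Lib.Classical.TriFrame.Pairs

set_option autoImplicit false
set_option linter.unusedSectionVars false
set_option linter.style.haveILetI false

namespace Cfsg.Agent.Classical.TriFrame

open Matrix Kronecker
open Cfsg.Agent.Classical.LinThree.Hess

variable {F : Type*} [Field F] {ω : F} {X : Subgroup (GL P9 F)}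

/-- The quarter turn on the first factor. -/
def qM (ω : F) : Matrix P9 P9 F := qm ω 0 ⊗ₖ (1 : Matrix (Fin 3) (Fin 3) F)

theorem trace_qM (h : Om ω) : (qM ω).trace ≠ 0 := by
  have hg := h.gauss_ne
  rw [qM, trace_kronecker, Matrix.trace_one, show (qm ω 0).trace = 1 by
    rw [qm, Matrix.trace_fin_three]
    have hG := mul_inv_cancel₀ hg
    generalize (ω - ω * ω)⁻¹ = G at hG ⊢
    simp [Fm, pw_zero, pw, fin_three_facts]
    linear_combination hG + G * h.root]
  simpa using h.three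

theorem acts_qM (h : Om ω) : Acts ω (qM ω) (Prod.map (act 0) id) := (Acts3.qm h 0).kron Acts3.one

theorem qM_sq (h : Om ω) : qM ω * qM ω = jM ω := by
  rw [qM, ← mul_kronecker_mul, qm_sq h, Matrix.one_mul, jM]

/-- Linear maps of the small index set. -/
def lin2 (u v : Fin 3 × Fin 3) (e : Fin 3 × Fin 3) : Fin 3 × Fin 3 :=
  (e.1 * u.1 + e.2 * v.1, e.1 * u.2 + e.2 * v.2)

theorem eq_lin2 {f : Fin 3 × Fin 3 → Fin 3 × Fin 3} (hadd : ∀ a b, f (a + b) = f a + f b) :
    f = lin2 (f (1, 0)) (f (0, 1)) := funext fun e => Prod.ext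
  (add_ext3 (v := fun x => (f x).1) (v' := fun x => x.1 * (f (1, 0)).1 + x.2 * (f (0, 1)).1)
    (fun x y => by rw [hadd]; rfl) (fun x y => by simp [add_mul]; abel) (by simp) (by simp) e)
  (add_ext3 (v := fun x => (f x).2) (v' := fun x => x.1 * (f (1, 0)).2 + x.2 * (f (0, 1)).2)
    (fun x y => by rw [hadd]; rfl) (fun x y => by simp [add_mul]; abel) (by simp) (by simp) e)

/-- The correcting maps. -/
def Cf : Option (Fin 3) → Fin 3 × Fin 3 → Fin 3 × Fin 3
  | none => id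
  | some k => act k

theorem order_three : ∀ u v : Fin 3 × Fin 3, sg3 u v = sg3 (1, 0) (0, 1) →
    (∀ a b : Fin 3, lin2 u v (lin2 u v (lin2 u v (a, b))) = (a, b)) →
    ∃ (o : Option (Fin 3)) (n : Fin 3), ∀ a b : Fin 3, Cf o (lin2 u v (a, b)) = shf^[n.val] (Cf o (a, b)) := by
  decide +kernel

theorem order_four : ∀ u v : Fin 3 × Fin 3, sg3 u v = sg3 (1, 0) (0, 1) →
    (∀ a b : Fin 3, lin2 u v (lin2 u v (a, b)) = -(a, b)) →
    ∃ k : Fin 3, (∀ a b : Fin 3, lin2 u v (a, b) = act k (a, b)) ∨ (∀ a b : Fin 3, lin2 u v (a, b) = -act k (a, b)) := by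
  decide +kernel

theorem shift_act : ∀ k : Fin 3, ∀ a b : Fin 3, shf^[(3 - k).val] (act k (a, b)) = act 0 (shf^[(3 - k).val] (a, b)) ∧
    shf^[(3 - k).val] (-act k (a, b)) = -act 0 (shf^[(3 - k).val] (a, b)) := by
  decide +kernel

theorem iter_differ : ∀ b : Fin 2, ((∀ a b : Fin 3, (fun e => -act 0 (shf e))^[3] ((a, b) : Fin 3 × Fin 3) = (a, b)) ↔
    (∀ a b : Fin 3, (fun e => act 0 (shf e))^[3] ((a, b) : Fin 3 × Fin 3) = (a, b))) → False := by
  decide +kernel

variable [Fintype F]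

theorem qm_aU (h : Om ω) (k : Fin 3) : ∃ c : F, c ≠ 0 ∧ qm ω k *ᵥ (aU : Fin 3 → F) = c • aU := by
  have hbase : qm ω 0 *ᵥ (aU : Fin 3 → F) = (1 : F) • aU := by
    have hG := mul_inv_cancel₀ h.gauss_ne
    rw [qm]
    generalize (ω - ω * ω)⁻¹ = G at hG ⊢
    funext i
    fin_cases i <;>
      simp [Fm, aU, Matrix.mulVec, dotProduct, Fin.sum_univ_three, pw_zero, pw, fin_three_facts] <;>
      first | linear_combination hG | linear_combination -hG
  have hstep : ∀ k : Fin 3, (∃ c : F, c ≠ 0 ∧ qm ω k *ᵥ (aU : Fin 3 → F) = c • aU) →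
      ∃ c : F, c ≠ 0 ∧ qm ω (k + 1) *ᵥ (aU : Fin 3 → F) = c • aU := by
    rintro k ⟨c, hc0, hc⟩
    refine ⟨c, hc0, ?_⟩
    have e := congrArg (fun M => M *ᵥ (aU : Fin 3 → F)) (sh_qm h k)
    simp only [← Matrix.mulVec_mulVec, hc, Matrix.mulVec_smul, sh_aU] at e
    exact smul_right_injective _ h.ne_zero (show ω • (qm ω (k + 1) *ᵥ aU) = ω • (c • aU) by rw [← e, smul_comm])
  have h0 : ∃ c : F, c ≠ 0 ∧ qm ω 0 *ᵥ (aU : Fin 3 → F) = c • aU := ⟨1, one_ne_zero, hbase⟩
  fin_cases k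
  exacts [h0, hstep 0 h0, hstep 1 (hstep 0 h0)]


theorem preserve_U (h : Om ω) {g : Matrix P9 P9 F} (hg : g * jM ω = jM ω * g) (v : Fin 3 → F) :
    ∃ v', g *ᵥ uv v = uv v' := by
  obtain ⟨w, hw⟩ : ∃ w : P9 → F, w = fun x => if x.1 = 1 then v x.2 else 0 := ⟨_, rfl⟩
  have hj : ∀ y : P9 → F, jM ω *ᵥ y + y = uv (fun k => y (1, k) - y (2, k)) := fun y => by
    funext ⟨i, k⟩
    fin_cases i <;>
      simp [jM, Tm, mono, Matrix.mulVec, dotProduct, Fintype.sum_prod_type, Fin.sum_univ_three, uv, aU, pw_zero,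
        fin_three_facts, kroneckerMap_apply, Matrix.one_apply] <;> ring
  have hv : uv v = jM ω *ᵥ w + w := by
    rw [hj]
    congr 1
    funext k
    simp [hw]
  refine ⟨fun k => (g *ᵥ w) (1, k) - (g *ᵥ w) (2, k), ?_⟩
  conv_lhs => rw [hv]
  rw [Matrix.mulVec_add, Matrix.mulVec_mulVec, hg, ← Matrix.mulVec_mulVec, hj]

/-- The element of order three is not inverted. -/
theorem t_not_inv (h : Om ω) {g : GL P9 F} (hg : (g : Matrix P9 P9 F) * jM ω = jM ω * (g : Matrix P9 P9 F)) {c : F}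
    (hc : (g : Matrix P9 P9 F) * tM ω = c • (tM ω * tM ω * (g : Matrix P9 P9 F))) : False := by
  have htU : ∀ v, tM ω *ᵥ uv v = ω • uv v := fun v => by rw [tM, kron_uv _ _ sh_aU, Matrix.one_mulVec]
  obtain ⟨v', hv'⟩ := preserve_U h hg (fun _ => (1 : F))
  have e := congrArg (fun M => M *ᵥ uv (fun _ => (1 : F))) hc
  simp only [← Matrix.mulVec_mulVec, Matrix.smul_mulVec, htU, hv', Matrix.mulVec_smul, smul_smul] at e
  have hne : uv v' ≠ 0 := fun q => by
    have e1 := congrArg (fun w => ((g⁻¹ : GL P9 F) : Matrix P9 P9 F) *ᵥ w) (hv'.trans q)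
    simp only [Matrix.mulVec_mulVec, ← Units.val_mul, inv_mul_cancel, Units.val_one, Matrix.one_mulVec,
      Matrix.mulVec_zero] at e1
    simpa [uv, aU] using congrFun e1 (1, 0)
  have hωc : ω = c * (ω * ω) := smul_left_injective F hne (show ω • uv v' = (c * (ω * ω)) • uv v' by
    rw [e])
  have h3c := h.cube
  have hcω : c = ω * ω := by exact mul_right_cancel₀ (mul_ne_zero h.ne_zero h.ne_zero) (by linear_combination (-1 : F) * hωc - ω * h3c)
  have e2 := congrArg (fun M => (M * ((g⁻¹ : GL P9 F) : Matrix P9 P9 F)).trace) hc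
  simp only [Matrix.smul_mul, Matrix.trace_smul, smul_eq_mul] at e2
  rw [Matrix.trace_mul_comm ((g : Matrix P9 P9 F) * _), ← Matrix.mul_assoc, ← Units.val_mul, inv_mul_cancel,
    Units.val_one, Matrix.one_mul, Matrix.mul_assoc _ _ ((g⁻¹ : GL P9 F) : Matrix P9 P9 F), ← Units.val_mul g,
    mul_inv_cancel, Units.val_one, Matrix.mul_one, tM, ← mul_kronecker_mul, Matrix.one_mul, trace_kronecker,
    trace_kronecker, Matrix.trace_one, show (sh ω).trace = 1 + 2 * ω by
      rw [Matrix.trace_fin_three]; simp [sh, mono, pw, fin_three_facts]; ring,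
    show (sh ω * sh ω).trace = 1 + 2 * (ω * ω) by
      rw [Matrix.trace_fin_three]; simp [sh, mono, Matrix.mul_apply, Fin.sum_univ_three, pw, fin_three_facts]; ring,
    hcω] at e2
  simp only [Fintype.card_fin] at e2
  have e3 := mul_left_cancel₀ (a := (3 : F)) h.three (b := (1 + 2 * ω)) (c := ω * ω * (1 + 2 * (ω * ω))) (by
    push_cast at e2; linear_combination e2)
  refine h.ne_one ?_
  have h1 : ω * ω = 1 := by linear_combination (-1 : F) * e3 - (2 * ω) * h3c
  linear_combination h3c - ω * h1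

variable (hX : Gens ω X)

include hX

theorem qM_kern : ∀ k, ∃ g : GL P9 F, g ∈ Kg ω X ∧ g ∈ NN hX.om X ∧
    (g : Matrix P9 P9 F) = qm ω k ⊗ₖ (1 : Matrix (Fin 3) (Fin 3) F) := fun k => by
  have h := hX.om
  obtain ⟨g, hg, e⟩ := hX.quarter k
  obtain ⟨c, hc0, hc⟩ := qm_aU h k
  refine ⟨g, ⟨hg, ?_, c, hc0, fun v => by rw [e, kron_uv _ _ hc, Matrix.one_mulVec]⟩, ⟨hg, _, e ▸ (Acts3.qm h k).kron Acts3.one⟩, e⟩
  rw [e, jM, ← mul_kronecker_mul, ← mul_kronecker_mul, ← qm_sq h k, Matrix.mul_assoc]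

/-- In the kernel an element acting trivially is a scalar. -/
theorem kern_id {g : GL P9 F} (hg : g ∈ Kg ω X) (hf : Acts ω (g : Matrix P9 P9 F) id) : pj9 F g = 1 := by
  have h := hX.om
  obtain ⟨tU, -, ht⟩ := tU_mem hX
  obtain ⟨jU, -, hj⟩ := jM_mem hX
  have htg : (g : Matrix P9 P9 F) * tM ω = tM ω * (g : Matrix P9 P9 F) := by
    obtain ⟨d, b, hd0, hb⟩ := W_of_twisted h g.ne_zero fun a => by
      obtain ⟨c, -, hc⟩ := hf a
      exact ⟨c, hc⟩
    have hxj := hg.2.1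
    rw [hb, Matrix.smul_mul, Matrix.mul_smul] at hxj ⊢
    have hxj' := smul_right_injective _ hd0 hxj
    obtain ⟨c, -, hc⟩ := acts_jM h b
    rw [← hxj', ← Matrix.smul_mul] at hc
    have hb1 : b.1 = 0 := (show ∀ v : Ix, v = Prod.map (fun e : Fin 3 × Fin 3 => -e) id v → v.1 = 0 by decide +kernel) b
      (W_inj h ((hj ▸ jU.isUnit : IsUnit (jM ω)).mul_right_cancel hc))
    rw [show b = ((0, b.2) : Ix) from Prod.ext hb1 rfl, W_tM h]
  obtain ⟨n, m, hnm⟩ := small_kern hX ht hj hf hg htg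
  have hpow : ∀ (u : GL P9 F) (φ : Fin 3 × Fin 3 → Fin 3 × Fin 3) (k : ℕ),
      Acts ω (u : Matrix P9 P9 F) (Prod.map φ id) → Acts ω ((u ^ k : GL P9 F) : Matrix P9 P9 F) (Prod.map φ^[k] id) := by
    intro u φ k hu
    induction k with
    | zero => rw [pow_zero, Units.val_one]; exact Acts.one
    | succ k ih =>
      rw [pow_succ, Units.val_mul, Function.iterate_succ]
      have := ih.mul hu
      rw [Prod.map_comp_map, Function.comp_id] at this
      exact this
  rw [← map_pow, ← map_pow, ← map_mul, pj9_eq] at hnm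
  obtain ⟨c, hc0, hc⟩ := hnm
  have hacts := ((hpow tU _ n (ht ▸ acts_tM h)).mul (hpow jU _ m (hj ▸ acts_jM h))).smul c
  rw [← Units.val_mul, ← hc] at hacts
  have he := congrFun (Acts.unique h g.isUnit hf hacts) ((1, 0), 0)
  have he' := congrFun (Acts.unique h g.isUnit hf hacts) ((0, 1), 0)
  simp only [id, Function.comp_apply, Prod.map, Prod.mk.injEq, and_true] at he he'
  have hdec : ∀ n m : Fin 6, ((1, 0) : Fin 3 × Fin 3) = shf^[n.val] ((fun e => -e)^[m.val] (1, 0)) →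
      ((0, 1) : Fin 3 × Fin 3) = shf^[n.val] ((fun e => -e)^[m.val] (0, 1)) → n.val % 3 = 0 ∧ m.val % 2 = 0 := by
    decide +kernel
  have ht6 : ∀ e, shf^[6] e = e := by decide +kernel
  have hn6 : ∀ e, (fun e : Fin 3 × Fin 3 => -e)^[6] e = e := by decide +kernel
  have hred : ∀ (φ : Fin 3 × Fin 3 → Fin 3 × Fin 3), (∀ e, φ^[6] e = e) → ∀ (k : ℕ) e, φ^[k] e = φ^[k % 6] e := by
    intro φ hφ k e
    conv_lhs => rw [← Nat.mod_add_div k 6]
    rw [Function.iterate_add_apply, Function.iterate_mul]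
    congr 1
    exact Function.iterate_fixed (hφ e) _
  rw [hred _ ht6, hred _ hn6] at he he'
  obtain ⟨h1, h2⟩ := hdec ⟨n % 6, Nat.mod_lt _ (by norm_num)⟩ ⟨m % 6, Nat.mod_lt _ (by norm_num)⟩ he he'
  rw [pj9_eq_one]
  refine ⟨c, ?_⟩
  simp only at h1 h2
  obtain ⟨a, ha⟩ : 3 ∣ n := Nat.dvd_of_mod_eq_zero (by omega)
  obtain ⟨b, hb⟩ : 2 ∣ m := Nat.dvd_of_mod_eq_zero (by omega)
  have ht3 : (tU : GL P9 F) ^ 3 = 1 := Units.ext (by
    rw [Units.val_pow_eq_pow_val, ht, pow_succ, pow_two, tM, ← mul_kronecker_mul, ← mul_kronecker_mul, Matrix.one_mul,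
      Matrix.one_mul, Units.val_one, ← one_kronecker_one (m := Fin 3) (n := Fin 3)]
    congr 1
    have := h.cube
    ext i j
    fin_cases i <;> fin_cases j <;>
      simp [sh, mono, Matrix.mul_apply, Fin.sum_univ_three, pw, fin_three_facts, this])
  have hj2 : (jU : GL P9 F) ^ 2 = 1 := Units.ext (by
    rw [Units.val_pow_eq_pow_val, hj, pow_two, jM, ← mul_kronecker_mul, Tm_mul_self h, Matrix.one_mul,
      one_kronecker_one, Units.val_one])
  rw [hc, ha, hb, pow_mul, pow_mul, ht3, hj2, one_pow, one_pow, one_mul, Units.val_one]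

/-- **Correction**, by an element on the first factor. -/
theorem reduce_fst (hmix : ¬ Mixed X) {g : GL P9 F} (hg : g ∈ X)
    (hgj : (g : Matrix P9 P9 F) * jM ω = jM ω * (g : Matrix P9 P9 F)) :
    ∃ n ∈ NN hX.om X, ((n * g : GL P9 F) : Matrix P9 P9 F) * qM ω = qM ω * ((n * g : GL P9 F) : Matrix P9 P9 F) ∧
      ((n * g : GL P9 F) : Matrix P9 P9 F) * tM ω = tM ω * ((n * g : GL P9 F) : Matrix P9 P9 F) ∧
      ∃ A : Matrix (Fin 3) (Fin 3) F, (n : Matrix P9 P9 F) = A ⊗ₖ (1 : Matrix (Fin 3) (Fin 3) F) := by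
  have h := hX.om
  obtain ⟨tU, htK, ht⟩ := tU_mem hX
  obtain ⟨qU, hqK, hqN, hq⟩ := qM_kern hX 0
  obtain ⟨jU, -, hj⟩ := jM_mem hX
  have hconjK : ∀ {g u : GL P9 F}, g ∈ X → (g : Matrix P9 P9 F) * jM ω = jM ω * (g : Matrix P9 P9 F) →
      u ∈ Kg ω X → g * u * g⁻¹ ∈ Kg ω X := by
    rintro g u hg hgj ⟨hu, huj, c, hc, huU⟩
    refine ⟨X.mul_mem (X.mul_mem hg hu) (X.inv_mem hg), ?_, c, hc, fun v => ?_⟩
    · have h1 : Commute g jU := Units.ext (by rw [Units.val_mul, Units.val_mul, hj]; exact hgj)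
      have h2 : Commute u jU := Units.ext (by rw [Units.val_mul, Units.val_mul, hj]; exact huj)
      rw [← hj, ← Units.val_mul, ← Units.val_mul, ((h1.mul_left h2).mul_left h1.inv_left).eq]
    · have hgi : ((g⁻¹ : GL P9 F) : Matrix P9 P9 F) * jM ω = jM ω * ((g⁻¹ : GL P9 F) : Matrix P9 P9 F) := by
        have h1 : Commute g jU := Units.ext (by rw [Units.val_mul, Units.val_mul, hj]; exact hgj)
        rw [← hj, ← Units.val_mul, ← Units.val_mul, h1.inv_left.eq]
      obtain ⟨w, hw⟩ := preserve_U h hgi v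
      rw [Units.val_mul, Units.val_mul, ← Matrix.mulVec_mulVec, hw, ← Matrix.mulVec_mulVec, huU, Matrix.mulVec_smul,
        ← hw, Matrix.mulVec_mulVec, ← Units.val_mul, mul_inv_cancel, Units.val_one, Matrix.one_mulVec]
  have hmk : ∀ {g : GL P9 F}, g ∈ Kg ω X → ∃ f1 : Fin 3 × Fin 3 → Fin 3 × Fin 3,
      Acts ω (g : Matrix P9 P9 F) (Prod.map f1 id) ∧ f1 = lin2 (f1 (1, 0)) (f1 (0, 1)) ∧
        sg3 (f1 (1, 0)) (f1 (0, 1)) = sg3 (1, 0) (0, 1) := by
    intro g hg
    obtain ⟨-, f, hf⟩ := kern_le hX hmix hg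
    obtain ⟨f1, hadd, hpres, rfl⟩ := kern_acts h hf hg.2.1 hg.2.2
    exact ⟨f1, hf, eq_lin2 hadd, hpres _ _⟩
  have huniq : ∀ {g : GL P9 F} {f f' : Fin 3 × Fin 3 → Fin 3 × Fin 3}, Acts ω (g : Matrix P9 P9 F) (Prod.map f id) →
      Acts ω (g : Matrix P9 P9 F) (Prod.map f' id) → ∀ e, f e = f' e := fun {g f f'} h1 h2 e => by
    simpa using congrFun (Acts.unique h g.isUnit h1 h2) (e, 0)
  have hkey : ∀ {a b : GL P9 F} {f : Fin 3 × Fin 3 → Fin 3 × Fin 3}, a ∈ Kg ω X → b ∈ Kg ω X →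
      Acts ω (a : Matrix P9 P9 F) (Prod.map f id) → Acts ω (b : Matrix P9 P9 F) (Prod.map f id) →
      pj9 F a = pj9 F b := by
    intro a b f ha hb haf hbf
    obtain ⟨b', hb'⟩ := hbf.inv h (show (b : Matrix P9 P9 F) * ((b⁻¹ : GL P9 F) : Matrix P9 P9 F) = 1 by
      rw [← Units.val_mul, mul_inv_cancel, Units.val_one])
    have hid : Prod.map f id ∘ b' = id := Acts.unique h (1 : GL P9 F).isUnit
      (by have := hbf.mul hb'; rwa [← Units.val_mul, mul_inv_cancel] at this) (by rw [Units.val_one]; exact Acts.one)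
    have := kern_id hX ((Kg ω X).mul_mem ha ((Kg ω X).inv_mem hb)) (by rw [Units.val_mul]; exact hid ▸ haf.mul hb')
    rwa [map_mul, map_inv, mul_inv_eq_one] at this
  -- the element of order three
  obtain ⟨y, hy⟩ : ∃ y, y = g * tU * g⁻¹ := ⟨_, rfl⟩
  have hyK : y ∈ Kg ω X := hy ▸ hconjK hg hgj htK
  obtain ⟨f, hf, hflin, hfsg⟩ := hmk hyK
  have ht3 : tU ^ 3 = 1 := Units.ext (by
    rw [Units.val_pow_eq_pow_val, ht, pow_succ, pow_two, tM, ← mul_kronecker_mul, ← mul_kronecker_mul, Matrix.one_mul,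
      Matrix.one_mul, Units.val_one, ← one_kronecker_one (m := Fin 3) (n := Fin 3)]
    congr 1
    have := h.cube
    ext i j
    fin_cases i <;> fin_cases j <;>
      simp [sh, mono, Matrix.mul_apply, Fin.sum_univ_three, pw, fin_three_facts, this])
  have hf3 : ∀ a b : Fin 3, f (f (f (a, b))) = (a, b) := fun a b => by
    have e := huniq (g := y * y * y) (f := (f ∘ f) ∘ f) (f' := id) (by
      rw [Units.val_mul, Units.val_mul]
      have := (hf.mul hf).mul hf
      rw [Prod.map_comp_map, Prod.map_comp_map, Function.comp_id, Function.comp_id] at this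
      exact this) (by
      rw [hy, show g * tU * g⁻¹ * (g * tU * g⁻¹) * (g * tU * g⁻¹) = g * (tU * tU * tU) * g⁻¹ by group,
        show tU * tU * tU = tU ^ 3 by rw [pow_succ, pow_two], ht3, mul_one,
        mul_inv_cancel, Units.val_one]
      exact Acts.one) (a, b)
    exact e
  obtain ⟨o, n, hon⟩ := order_three _ _ hfsg (by rw [← hflin]; exact hf3)
  rw [← hflin] at hon
  obtain ⟨C, hCK, hCN, hCa, A₁, hA₁⟩ : ∃ C : GL P9 F, C ∈ Kg ω X ∧ C ∈ NN h X ∧
      Acts ω (C : Matrix P9 P9 F) (Prod.map (Cf o) id) ∧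
      ∃ A : Matrix (Fin 3) (Fin 3) F, (C : Matrix P9 P9 F) = A ⊗ₖ (1 : Matrix (Fin 3) (Fin 3) F) := by
    cases o with
    | none => exact ⟨1, one_mem _, one_mem _, by rw [Units.val_one]; exact Acts.one, 1, by rw [Units.val_one, one_kronecker_one]⟩
    | some k =>
      obtain ⟨C, hCK, hCN, hC⟩ := qM_kern hX k
      exact ⟨C, hCK, hCN, hC ▸ (Acts3.qm h k).kron Acts3.one, _, hC⟩
  have htpow : ∀ k : ℕ, Acts ω ((tU ^ k : GL P9 F) : Matrix P9 P9 F) (Prod.map shf^[k] id) := by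
    intro k
    induction k with
    | zero => rw [pow_zero, Units.val_one]; exact Acts.one
    | succ k ih =>
      rw [pow_succ, Units.val_mul, Function.iterate_succ]
      have := ih.mul (ht ▸ acts_tM h : Acts ω (tU : Matrix P9 P9 F) (Prod.map shf id))
      rw [Prod.map_comp_map, Function.comp_id] at this
      exact this
  have hconj : pj9 F (C * y) = pj9 F (tU ^ n.val * C) := hkey ((Kg ω X).mul_mem hCK hyK)
    ((Kg ω X).mul_mem ((Kg ω X).pow_mem htK _) hCK) (f := Cf o ∘ f)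
    (by
      rw [Units.val_mul]
      have := hCa.mul hf
      rw [Prod.map_comp_map, Function.comp_id] at this
      exact this)
    (by
      rw [Units.val_mul]
      have := (htpow n.val).mul hCa
      rw [Prod.map_comp_map, Function.comp_id] at this
      rwa [show Cf o ∘ f = shf^[n.val] ∘ Cf o from funext fun e => hon e.1 e.2])
  obtain ⟨g1, hg1⟩ : ∃ g1, g1 = C * g := ⟨_, rfl⟩
  have hg1X : g1 ∈ X := hg1 ▸ X.mul_mem hCK.1 hg
  have hg1j : (g1 : Matrix P9 P9 F) * jM ω = jM ω * (g1 : Matrix P9 P9 F) := by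
    rw [hg1, Units.val_mul, Matrix.mul_assoc, hgj, ← Matrix.mul_assoc, hCK.2.1, Matrix.mul_assoc]
  have hrel : pj9 F g1 * pj9 F tU = pj9 F tU ^ n.val * pj9 F g1 := by
    rw [hy] at hconj
    simp only [map_mul, map_inv, map_pow] at hconj
    rw [hg1, map_mul]
    calc pj9 F C * pj9 F g * pj9 F tU = pj9 F C * (pj9 F g * pj9 F tU * (pj9 F g)⁻¹) * pj9 F g := by group
      _ = pj9 F tU ^ n.val * (pj9 F C * pj9 F g) := by rw [hconj, mul_assoc]
  have hcomm : pj9 F g1 * pj9 F tU = pj9 F tU * pj9 F g1 := by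
    fin_cases n
    · exfalso
      obtain ⟨c, hc⟩ := pj9_eq_one.mp (mul_left_cancel (a := pj9 F g1) (b := pj9 F tU) (c := 1) (by
        simpa using hrel))
      rw [ht] at hc
      have e1 := congrFun (congrFun hc (0, 0)) (0, 0)
      have e2 := congrFun (congrFun hc (1, 0)) (1, 0)
      simp [tM, sh, mono, pw, fin_three_facts] at e1 e2
      exact h.ne_one (by rw [e2, ← e1])
    · rwa [pow_one] at hrel
    · exfalso
      change pj9 F g1 * pj9 F tU = pj9 F tU ^ (2 : ℕ) * pj9 F g1 at hrel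
      rw [pow_two, ← map_mul, ← map_mul, ← map_mul, pj9_eq] at hrel
      obtain ⟨c, -, hc⟩ := hrel
      rw [Units.val_mul, Units.val_mul, Units.val_mul, ht] at hc
      exact t_not_inv h hg1j hc
  -- the quarter turn
  obtain ⟨z, hz⟩ : ∃ z, z = g1 * qU * g1⁻¹ := ⟨_, rfl⟩
  have hzK : z ∈ Kg ω X := hz ▸ hconjK hg1X hg1j hqK
  obtain ⟨f', hf', hf'lin, hf'sg⟩ := hmk hzK
  have hqa : Acts ω (qU : Matrix P9 P9 F) (Prod.map (act 0) id) := by rw [hq]; exact acts_qM h
  have hf'4 : ∀ a b : Fin 3, f' (f' (a, b)) = -(a, b) := fun a b => by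
    have e := huniq (g := z * z) (f := f' ∘ f') (f' := fun e => -e) (by
      rw [Units.val_mul]
      have := hf'.mul hf'
      rw [Prod.map_comp_map, Function.comp_id] at this
      exact this) (by
      have hqq : qU * qU = jU := Units.ext (by rw [Units.val_mul, hq, hj]; exact qM_sq h)
      have h1 : Commute g1 jU := Units.ext (by rw [Units.val_mul, Units.val_mul, hj]; exact hg1j)
      rw [hz, show g1 * qU * g1⁻¹ * (g1 * qU * g1⁻¹) = g1 * (qU * qU) * g1⁻¹ by group, hqq, h1.eq,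
        mul_inv_cancel_right, hj]
      exact acts_jM h) (a, b)
    exact e
  obtain ⟨k, hk⟩ := order_four _ _ hf'sg (by rw [← hf'lin]; exact hf'4)
  rw [← hf'lin] at hk
  obtain ⟨m, hm⟩ : ∃ m, m = (3 - k).val := ⟨_, rfl⟩
  obtain ⟨g2, hg2⟩ : ∃ g2, g2 = tU ^ m * g1 := ⟨_, rfl⟩
  have hg2X : g2 ∈ X := hg2 ▸ X.mul_mem (X.pow_mem htK.1 _) hg1X
  have htc : pj9 F g2 * pj9 F tU = pj9 F tU * pj9 F g2 := by
    rw [hg2, map_mul, map_pow, mul_assoc, hcomm, ← mul_assoc, ← pow_succ, pow_succ', mul_assoc]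
  obtain ⟨w, hw⟩ : ∃ w, w = g2 * qU * g2⁻¹ := ⟨_, rfl⟩
  have hwz : w = tU ^ m * z * (tU ^ m)⁻¹ := by rw [hw, hg2, hz]; group
  have hwK : w ∈ Kg ω X := hwz ▸ (Kg ω X).mul_mem ((Kg ω X).mul_mem ((Kg ω X).pow_mem htK _) hzK)
    ((Kg ω X).inv_mem ((Kg ω X).pow_mem htK _))
  obtain ⟨φ, hφ, -, -⟩ := hmk hwK
  have hφm : ∀ e, φ (shf^[m] e) = shf^[m] (f' e) := by
    intro e
    have := huniq (g := w * tU ^ m) (f := φ ∘ shf^[m]) (f' := shf^[m] ∘ f') (by
      rw [Units.val_mul]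
      have := hφ.mul (htpow m)
      rwa [Prod.map_comp_map, Function.comp_id] at this) (by
      rw [hwz, inv_mul_cancel_right, Units.val_mul]
      have := (htpow m).mul hf'
      rwa [Prod.map_comp_map, Function.comp_id] at this) e
    exact this
  have hsurj : ∀ e, ∃ e', shf^[m] e' = e := fun e =>
    (Function.Injective.iterate (show Function.Injective shf by decide +kernel) m |> Finite.injective_iff_surjective.mp) e
  have hqc : pj9 F g2 * pj9 F qU = pj9 F qU * pj9 F g2 := by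
    have hplus : (∀ e, φ e = act 0 e) → pj9 F g2 * pj9 F qU = pj9 F qU * pj9 F g2 := fun hp => by
      have := hkey hwK hqK hφ (by rwa [show φ = act 0 from funext hp])
      rwa [hw, map_mul, map_mul, map_inv, mul_inv_eq_iff_eq_mul] at this
    rcases hk with hk | hk
    · refine hplus fun e => ?_
      obtain ⟨⟨a, b⟩, rfl⟩ := hsurj e
      rw [hφm, hk, hm]
      exact (shift_act k a b).1
    · exfalso
      have hφn : ∀ e, φ e = -act 0 e := fun e => by
        obtain ⟨⟨a, b⟩, rfl⟩ := hsurj e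
        rw [hφm, hk, hm]
        exact (shift_act k a b).2
      refine iter_differ 0 ?_
      obtain ⟨r, hr⟩ : ∃ r, r = qU * tU := ⟨_, rfl⟩
      obtain ⟨r', hr'⟩ : ∃ r', r' = w * tU := ⟨_, rfl⟩
      have hra : Acts ω (r : Matrix P9 P9 F) (Prod.map (fun e => act 0 (shf e)) id) := by
        rw [hr, Units.val_mul]
        have := hqa.mul (ht ▸ acts_tM h : Acts ω (tU : Matrix P9 P9 F) (Prod.map shf id))
        rwa [Prod.map_comp_map, Function.comp_id] at this
      have hra' : Acts ω (r' : Matrix P9 P9 F) (Prod.map (fun e => -act 0 (shf e)) id) := by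
        rw [hr', Units.val_mul]
        have := hφ.mul (ht ▸ acts_tM h : Acts ω (tU : Matrix P9 P9 F) (Prod.map shf id))
        rw [Prod.map_comp_map, Function.comp_id, show φ = fun e => -act 0 e from funext hφn] at this
        exact this
      have hiter : ∀ {u : GL P9 F} {φ : Fin 3 × Fin 3 → Fin 3 × Fin 3}, Acts ω (u : Matrix P9 P9 F) (Prod.map φ id) →
          u ∈ Kg ω X → ((∀ a b : Fin 3, φ^[3] (a, b) = (a, b)) ↔ pj9 F u ^ 3 = 1) := by
        intro u φ hu huK
        have h3 : Acts ω ((u * u * u : GL P9 F) : Matrix P9 P9 F) (Prod.map ((φ ∘ φ) ∘ φ) id) := by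
          rw [Units.val_mul, Units.val_mul]
          have := (hu.mul hu).mul hu
          rw [Prod.map_comp_map, Prod.map_comp_map, Function.comp_id, Function.comp_id] at this
          exact this
        rw [← map_pow, show u ^ 3 = u * u * u by rw [pow_succ, pow_two]]
        constructor
        · intro he
          refine kern_id hX ((Kg ω X).mul_mem ((Kg ω X).mul_mem huK huK) huK) ?_
          convert h3 using 1
          funext e
          exact Prod.ext (he e.1.1 e.1.2).symm rfl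
        · intro he a b
          obtain ⟨c, hc⟩ := pj9_eq_one.mp he
          exact huniq (g := u * u * u) (f := (φ ∘ φ) ∘ φ) (f' := id) h3 (hc ▸ (Acts.one).smul c) (a, b)
      rw [hiter hra' (hr' ▸ (Kg ω X).mul_mem hwK htK), hiter hra (hr ▸ (Kg ω X).mul_mem hqK htK)]
      have e1 : pj9 F r' = pj9 F g2 * pj9 F r * (pj9 F g2)⁻¹ := by
        rw [hr', hr, hw]
        simp only [map_mul, map_inv, mul_assoc]
        rw [(Commute.inv_left (show Commute (pj9 F g2) (pj9 F tU) from htc)).eq]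
      rw [e1, conj_pow, conj_eq_one_iff]
  refine ⟨tU ^ m * C, (NN h X).mul_mem ((NN h X).pow_mem ⟨htK.1, _, ht ▸ acts_tM h⟩ _) hCN, ?_⟩
  rw [show tU ^ m * C * g = g2 by rw [hg2, hg1, mul_assoc]]
  refine ⟨by rw [qM, ← hq]; exact commute_of_trace (hq ▸ trace_qM h) hqc,
    by rw [← ht]; exact commute_of_trace (ht ▸ trace_tM_ne h) htc, sh ω ^ m * A₁, ?_⟩
  rw [Units.val_mul, Units.val_pow_eq_pow_val, ht, hA₁, tM]
  clear * -
  induction m with
  | zero => rw [pow_zero, pow_zero, Matrix.one_mul, Matrix.one_mul]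
  | succ m ih => rw [pow_succ', pow_succ', Matrix.mul_assoc, ih, ← mul_kronecker_mul, Matrix.one_mul, Matrix.mul_assoc]

/-- **Correction.** -/
theorem reduce (hmix : ¬ Mixed X) {g : GL P9 F} (hg : g ∈ X)
    (hgj : (g : Matrix P9 P9 F) * jM ω = jM ω * (g : Matrix P9 P9 F)) :
    ∃ n ∈ NN hX.om X, ((n * g : GL P9 F) : Matrix P9 P9 F) * qM ω = qM ω * ((n * g : GL P9 F) : Matrix P9 P9 F) ∧
      ((n * g : GL P9 F) : Matrix P9 P9 F) * tM ω = tM ω * ((n * g : GL P9 F) : Matrix P9 P9 F) := by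
  obtain ⟨n, hn, h1, h2, -⟩ := reduce_fst hX hmix hg hgj
  exact ⟨n, hn, h1, h2⟩

end Cfsg.Agent.Classical.TriFrame
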