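/-
The action on the distinguished space of the elements centralising the copy of `SL(2,3)`.
-/
import Cfsg.Agent.Lib.Classical.TriFrame.Norm

set_option autoImplicit false
set_option linter.unusedSectionVars false
set_option linter.style.haveILetI false

namespace Cfsg.Agent.Classical.TriFrame

open Matrix Kronecker
open Cfsg.Agent.Classical.LinThree.Hess

variable {F : Type*} [Field F] {ω : F} {X : Subgroup (GL P9 F)}

/-- Twice the projection to the distinguished line. -/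
def A0 : Matrix (Fin 3) (Fin 3) F := vecMulVec aU aU

theorem A0_aU : (A0 : Matrix (Fin 3) (Fin 3) F) *ᵥ aU = (2 : F) • aU := by
  funext i
  fin_cases i <;> simp [A0, aU, Matrix.mulVec, dotProduct, Fin.sum_univ_three, vecMulVec] <;> ring

/-- The commutant of the copy of `SL(2,3)`. -/
theorem commutant3 (h : Om ω) {M : Matrix (Fin 3) (Fin 3) F} (hq : M * qm ω 0 = qm ω 0 * M)
    (hs : M * sh ω = sh ω * M) :
    M = M 0 0 • (1 : Matrix (Fin 3) (Fin 3) F) + (M 1 1 - M 0 0) • A0 := by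
  have hω : ω - 1 ≠ 0 := sub_ne_zero.mpr h.ne_one
  have hd : ∀ i j, (i = 0 ∧ j ≠ 0) ∨ (i ≠ 0 ∧ j = 0) → M i j = 0 := by
    intro i j hij
    have e := congrFun (congrFun hs i) j
    simp only [sh, mono, Matrix.mul_apply, Matrix.of_apply, Fin.sum_univ_three] at e
    fin_cases i <;> fin_cases j <;> simp [pw, fin_three_facts] at hij e ⊢
    all_goals first
      | exact e
      | exact (mul_eq_zero.mp (show (ω - 1) * _ = 0 by linear_combination e)).resolve_left hω
      | exact (mul_eq_zero.mp (show (ω - 1) * _ = 0 by linear_combination -e)).resolve_left hω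
  have e01 := hd 0 1 (Or.inl ⟨rfl, by decide⟩)
  have e02 := hd 0 2 (Or.inl ⟨rfl, by decide⟩)
  have e10 := hd 1 0 (Or.inr ⟨by decide, rfl⟩)
  have e20 := hd 2 0 (Or.inr ⟨by decide, rfl⟩)
  rw [qm, Matrix.mul_smul, Matrix.smul_mul] at hq
  have hq' := smul_right_injective (Matrix (Fin 3) (Fin 3) F) (inv_ne_zero h.gauss_ne) hq
  have q01 := congrFun (congrFun hq' 0) 1
  have q02 := congrFun (congrFun hq' 0) 2
  have q10 := congrFun (congrFun hq' 1) 0
  simp [Fm, Matrix.mul_apply, Fin.sum_univ_three, pw_zero, pw, fin_three_facts, e01, e02, e10, e20] at q01 q02 q10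
  ext i j
  fin_cases i <;> fin_cases j <;>
    simp [A0, aU, vecMulVec, Matrix.one_apply, e01, e02, e10, e20] <;>
    first | linear_combination q10 | linear_combination -q01 | linear_combination -q02 - q10

/-- The shape of the centraliser. -/
theorem exists_shape (h : Om ω) {g : Matrix P9 P9 F} (hq : g * qM ω = qM ω * g) (ht : g * tM ω = tM ω * g) :
    ∃ G N : Matrix (Fin 3) (Fin 3) F, g = (1 : Matrix (Fin 3) (Fin 3) F) ⊗ₖ G + A0 ⊗ₖ N := by
  refine ⟨Matrix.of fun k l => g (0, k) (0, l), Matrix.of fun k l => g (1, k) (1, l) - g (0, k) (0, l), ?_⟩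
  ext ⟨i, k⟩ ⟨j, l⟩
  have key : ∀ A : Matrix (Fin 3) (Fin 3) F, g * (A ⊗ₖ (1 : Matrix (Fin 3) (Fin 3) F)) =
      (A ⊗ₖ (1 : Matrix (Fin 3) (Fin 3) F)) * g →
      (Matrix.of fun i j => g (i, k) (j, l)) * A = A * (Matrix.of fun i j => g (i, k) (j, l)) := by
    intro A hA
    ext i j
    have e := congrFun (congrFun hA (i, k)) (j, l)
    simp only [Matrix.mul_apply, Fintype.sum_prod_type, kroneckerMap_apply, Matrix.one_apply, mul_ite, ite_mul,
      mul_one, mul_zero, zero_mul, Finset.sum_ite_eq, Finset.sum_ite_eq', Finset.mem_univ, if_true] at e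
    simpa [Matrix.mul_apply] using e
  have e := congrFun (congrFun (commutant3 h (key _ hq) (key _ ht)) i) j
  simp only [Matrix.of_apply, Matrix.add_apply, Matrix.smul_apply, smul_eq_mul, kroneckerMap_apply] at e ⊢
  rw [e]; ring

theorem shape_uv {G N : Matrix (Fin 3) (Fin 3) F} (v : Fin 3 → F) :
    ((1 : Matrix (Fin 3) (Fin 3) F) ⊗ₖ G + A0 ⊗ₖ N) *ᵥ uv v = uv ((G + (2 : F) • N) *ᵥ v) := by
  rw [Matrix.add_mulVec, kron_uv _ _ (c := 1) (by rw [Matrix.one_mulVec, one_smul]), kron_uv _ _ A0_aU, uv_smul,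
    uv_smul, Matrix.add_mulVec, Matrix.smul_mulVec, one_smul]
  funext x
  simp only [uv, Pi.add_apply]
  ring

variable [Fintype F]

/-- The action on the distinguished space. -/
def Hgrp (ω : F) (X : Subgroup (GL P9 F)) : Subgroup (GL (Fin 3) F) where
  carrier := {s | ∃ g ∈ X, (g : Matrix P9 P9 F) * qM ω = qM ω * (g : Matrix P9 P9 F) ∧
    (g : Matrix P9 P9 F) * tM ω = tM ω * (g : Matrix P9 P9 F) ∧
    ∀ v, (g : Matrix P9 P9 F) *ᵥ uv v = uv ((s : Matrix (Fin 3) (Fin 3) F) *ᵥ v)}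
  one_mem' := ⟨1, X.one_mem, by simp, by simp, fun v => by simp⟩
  mul_mem' := by
    rintro a b ⟨g, hg, hgq, hgt, hga⟩ ⟨g', hg', hgq', hgt', hgb⟩
    refine ⟨g * g', X.mul_mem hg hg', ?_, ?_, fun v => ?_⟩
    · rw [Units.val_mul, Matrix.mul_assoc, hgq', ← Matrix.mul_assoc, hgq, Matrix.mul_assoc]
    · rw [Units.val_mul, Matrix.mul_assoc, hgt', ← Matrix.mul_assoc, hgt, Matrix.mul_assoc]
    · rw [Units.val_mul, Units.val_mul, ← Matrix.mulVec_mulVec, hgb, hga, Matrix.mulVec_mulVec]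
  inv_mem' := by
    rintro a ⟨g, hg, hgq, hgt, hga⟩
    have key : ∀ M : Matrix P9 P9 F, (g : Matrix P9 P9 F) * M = M * (g : Matrix P9 P9 F) →
        ((g⁻¹ : GL P9 F) : Matrix P9 P9 F) * M = M * ((g⁻¹ : GL P9 F) : Matrix P9 P9 F) := fun M hM => by
      refine g.isUnit.mul_left_cancel ?_
      rw [← Matrix.mul_assoc, ← Units.val_mul, mul_inv_cancel, Units.val_one, Matrix.one_mul, ← Matrix.mul_assoc, hM,
        Matrix.mul_assoc, ← Units.val_mul, mul_inv_cancel, Units.val_one, Matrix.mul_one]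
    refine ⟨g⁻¹, X.inv_mem hg, key _ hgq, key _ hgt, fun v => ?_⟩
    have e := congrArg (fun w => ((g⁻¹ : GL P9 F) : Matrix P9 P9 F) *ᵥ w)
      (hga (((a⁻¹ : GL (Fin 3) F) : Matrix (Fin 3) (Fin 3) F) *ᵥ v))
    simp only [Matrix.mulVec_mulVec, ← Units.val_mul, inv_mul_cancel, mul_inv_cancel, Units.val_one,
      Matrix.one_mulVec] at e
    exact e.symm

theorem jM_of_qM (h : Om ω) {g : Matrix P9 P9 F} (hq : g * qM ω = qM ω * g) : g * jM ω = jM ω * g := by
  rw [← qM_sq h, ← Matrix.mul_assoc, hq, Matrix.mul_assoc, hq, Matrix.mul_assoc]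

theorem commutant_two : ∀ u v : Fin 3 × Fin 3, sg3 u v = sg3 (1, 0) (0, 1) →
    (∀ a b : Fin 3, lin2 u v (act 0 (a, b)) = act 0 (lin2 u v (a, b)) ∧ lin2 u v (shf (a, b)) = shf (lin2 u v (a, b))) →
    (∀ a b : Fin 3, lin2 u v (a, b) = (a, b)) ∨ (∀ a b : Fin 3, lin2 u v (a, b) = -(a, b)) := by
  decide +kernel

variable (hX : Gens ω X)

include hX

/-- The elements acting on the frame are those whose images normalise it. -/
theorem nn_iff (hmix : ¬ Mixed X) {s : GL (Fin 3) F} {g : GL P9 F} (hg : g ∈ X)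
    (hgq : (g : Matrix P9 P9 F) * qM ω = qM ω * (g : Matrix P9 P9 F))
    (hgt : (g : Matrix P9 P9 F) * tM ω = tM ω * (g : Matrix P9 P9 F))
    (hgs : ∀ v, (g : Matrix P9 P9 F) *ᵥ uv v = uv ((s : Matrix (Fin 3) (Fin 3) F) *ᵥ v)) :
    g ∈ NN hX.om X ↔ ∃ f, Acts3 ω (s : Matrix (Fin 3) (Fin 3) F) f := by
  have h := hX.om
  constructor
  · rintro ⟨-, f, hf⟩
    obtain ⟨qU, -, -, hq⟩ := qM_kern hX 0
    have hc : ∀ a, f (Prod.map (act 0) id a) = Prod.map (act 0) id (f a) := fun a =>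
      congrFun (Acts.unique h (g.isUnit.mul (show IsUnit (qM ω) by rw [qM, ← hq]; exact qU.isUnit))
        (f := f ∘ Prod.map (act 0) id) (f' := Prod.map (act 0) id ∘ f) (hf.mul (acts_qM h))
        (by rw [hgq]; exact (acts_qM h).mul hf)) a
    have hfix : ∀ v : Ix, Prod.map (act 0) id v = v → v.1 = 0 := by decide +kernel
    have h2 : ∀ e, (f (0, e)).1 = 0 := fun e => hfix _ (by
      rw [← hc]
      congr 1)
    refine ⟨fun e => (f (0, e)).2, fun e => ?_⟩
    obtain ⟨d, hd0, hd⟩ := hf (0, e)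
    refine ⟨d, hd0, Matrix.ext_of_mulVec_single fun k => ?_⟩
    generalize (Pi.single k (1 : F) : Fin 3 → F) = v
    have e1 := congrArg (fun M => M *ᵥ uv v) hd
    rw [show f (0, e) = ((0, (f (0, e)).2) : Ix) from Prod.ext (h2 e) rfl] at e1
    simp only [← Matrix.mulVec_mulVec, Matrix.smul_mulVec, W_uv, hgs, uv_smul] at e1
    rw [← Matrix.mulVec_mulVec, Matrix.smul_mulVec, ← Matrix.mulVec_mulVec]
    exact uv_inj e1
  · rintro ⟨f, hf⟩
    have hsu := s.isUnit
    obtain ⟨P, hP, hPm⟩ := exists_realise hX (hf.add h hsu) (hf.pres h hsu _ _)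
    have hP1 : Mem X ((1 : Matrix (Fin 3) (Fin 3) F) ⊗ₖ P) := hX.swap.conj hPm (sw_kron P 1)
    obtain ⟨n, hn, hne⟩ := hP1
    have hPu : IsUnit P := (Matrix.isUnit_iff_isUnit_det _).mpr (bd_units (kron_one P ▸ hPm.isUnit) 0)
    obtain ⟨Pu, hPu'⟩ : ∃ Pu : GL (Fin 3) F, (Pu : Matrix (Fin 3) (Fin 3) F) = P := ⟨hPu.unit, rfl⟩
    -- the quotient commutes with the small frame up to scalars
    have htw : ∀ e, ∃ μ : F, ((Pu⁻¹ * s : GL (Fin 3) F) : Matrix (Fin 3) (Fin 3) F) * rm ω e =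
        μ • (rm ω e * ((Pu⁻¹ * s : GL (Fin 3) F) : Matrix (Fin 3) (Fin 3) F)) := fun e => by
      obtain ⟨c, -, hc⟩ := hf e
      obtain ⟨d, hd0, hd⟩ := hP e
      refine ⟨c * d⁻¹, Pu.isUnit.mul_left_cancel ?_⟩
      rw [← Matrix.mul_assoc, ← Units.val_mul, mul_inv_cancel_left, hc, Matrix.mul_smul,
        ← Matrix.mul_assoc (Pu : Matrix (Fin 3) (Fin 3) F), hPu', hd, Matrix.smul_mul, Matrix.mul_assoc, ← hPu',
        ← Units.val_mul, mul_inv_cancel_left, smul_smul, mul_assoc, inv_mul_cancel₀ hd0, mul_one]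
    obtain ⟨c, b, hc0, hcb⟩ := rm_of_twisted h (Pu⁻¹ * s).ne_zero htw
    obtain ⟨w, hw, hwe⟩ := hX.frame ((0, b) : Ix)
    have hnN : n ∈ NN h X := ⟨hn, _, hne ▸ Acts3.one.kron hP⟩
    have hwN : w ∈ NN h X := ⟨hw, _, hwe ▸ Acts.frame h _⟩
    obtain ⟨u, hu⟩ : ∃ u, u = (n * w)⁻¹ * g := ⟨_, rfl⟩
    have hnwq : ∀ A : Matrix (Fin 3) (Fin 3) F, ((n * w : GL P9 F) : Matrix P9 P9 F) * (A ⊗ₖ (1 : Matrix (Fin 3) (Fin 3) F)) =
        (A ⊗ₖ (1 : Matrix (Fin 3) (Fin 3) F)) * ((n * w : GL P9 F) : Matrix P9 P9 F) := fun A => by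
      rw [Units.val_mul, hne, hwe, W, rm_zero, ← mul_kronecker_mul, ← mul_kronecker_mul, ← mul_kronecker_mul]
      simp
    have hnw_uv : ∀ v, ((n * w : GL P9 F) : Matrix P9 P9 F) *ᵥ uv v = uv ((P * rm ω b) *ᵥ v) := fun v => by
      rw [Units.val_mul, ← Matrix.mulVec_mulVec, hwe, W_uv, hne, kron_uv _ _ (c := 1) (by rw [Matrix.one_mulVec, one_smul]),
        one_smul, Matrix.mulVec_mulVec]
    have huK : u ∈ Kg ω X := by
      refine ⟨hu ▸ X.mul_mem (X.inv_mem (X.mul_mem hn hw)) hg, ?_, c, hc0, fun v => ?_⟩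
      · have hgj := jM_of_qM h hgq
        refine (n * w).isUnit.mul_left_cancel ?_
        rw [← Matrix.mul_assoc, ← Units.val_mul, hu, mul_inv_cancel_left, hgj, ← Matrix.mul_assoc, jM, hnwq,
          Matrix.mul_assoc, ← Units.val_mul, mul_inv_cancel_left]
      · have hs : (s : Matrix (Fin 3) (Fin 3) F) *ᵥ v = c • ((P * rm ω b) *ᵥ v) := by
          rw [← Matrix.smul_mulVec, ← Matrix.mul_smul, ← hcb, ← hPu', ← Units.val_mul, mul_inv_cancel_left]
        rw [hu, Units.val_mul, ← Matrix.mulVec_mulVec, hgs, hs, ← uv_smul, ← hnw_uv, Matrix.mulVec_smul,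
          Matrix.mulVec_mulVec, ← Units.val_mul, inv_mul_cancel, Units.val_one, Matrix.one_mulVec]
    have := (NN h X).mul_mem ((NN h X).mul_mem hnN hwN) (kern_le hX hmix huK)
    rwa [hu, mul_inv_cancel_left] at this

/-- An element of the image centralising a point up to scalars normalises the small frame. -/
theorem cent3 (hmix : ¬ Mixed X) {s : GL (Fin 3) F} (hs : s ∈ Hgrp ω X) {e : Fin 3 × Fin 3} (he : e ≠ 0) {c : F}
    (hc : (s : Matrix (Fin 3) (Fin 3) F) * rm ω e = c • (rm ω e * (s : Matrix (Fin 3) (Fin 3) F))) :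
    ∃ f, Acts3 ω (s : Matrix (Fin 3) (Fin 3) F) f := by
  have h := hX.om
  obtain ⟨g, hg, hgq, hgt, hgs⟩ := hs
  refine (nn_iff hX hmix hg hgq hgt hgs).mp ?_
  obtain ⟨w, hw, hwe⟩ := hX.frame ((0, e) : Ix)
  obtain ⟨tU, -, ht⟩ := tU_mem hX
  obtain ⟨qU, -, -, hq⟩ := qM_kern hX 0
  obtain ⟨jU, hjX, hj⟩ := jM_mem hX
  have hqM : (qU : Matrix P9 P9 F) = qM ω := hq
  have hwA : ∀ A : Matrix (Fin 3) (Fin 3) F, (w : Matrix P9 P9 F) * (A ⊗ₖ (1 : Matrix (Fin 3) (Fin 3) F)) =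
      (A ⊗ₖ (1 : Matrix (Fin 3) (Fin 3) F)) * (w : Matrix P9 P9 F) := fun A => by
    rw [hwe, W, rm_zero, ← mul_kronecker_mul, ← mul_kronecker_mul]; simp
  obtain ⟨y, hy⟩ : ∃ y, y = g * w * g⁻¹ * w⁻¹ := ⟨_, rfl⟩
  have hcomm : ∀ u : GL P9 F, Commute g u → Commute w u → Commute y u := fun u h1 h2 => by
    rw [hy]; exact ((h1.mul_left h2).mul_left h1.inv_left).mul_left h2.inv_left
  have hyq : Commute y qU := hcomm _ (Units.ext (by rw [Units.val_mul, Units.val_mul, hqM]; exact hgq))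
    (Units.ext (by rw [Units.val_mul, Units.val_mul, hqM]; exact hwA _))
  have hyt : Commute y tU := hcomm _ (Units.ext (by rw [Units.val_mul, Units.val_mul, ht]; exact hgt))
    (Units.ext (by rw [Units.val_mul, Units.val_mul, ht]; exact hwA _))
  have hyK : y ∈ Kg ω X := by
    refine ⟨hy ▸ X.mul_mem (X.mul_mem (X.mul_mem hg hw) (X.inv_mem hg)) (X.inv_mem hw), jM_of_qM h ?_, ?_⟩
    · rw [← hqM, ← Units.val_mul, ← Units.val_mul, hyq.eq]
    · refine ⟨c, fun q => ?_, fun v => ?_⟩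
      · rw [q, zero_smul] at hc
        exact (s.isUnit.mul (show IsUnit (rm ω e) by
          rw [Matrix.isUnit_iff_isUnit_det, det_rm h]; exact isUnit_one)).ne_zero hc
      · have hyw : (y : Matrix P9 P9 F) * (w : Matrix P9 P9 F) * (g : Matrix P9 P9 F) =
            (g : Matrix P9 P9 F) * (w : Matrix P9 P9 F) := by
          rw [← Units.val_mul, ← Units.val_mul, ← Units.val_mul, hy]
          congr 1
          group
        obtain ⟨t, ht'⟩ : ∃ t, (rm ω e * (s : Matrix (Fin 3) (Fin 3) F)) *ᵥ t = v :=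
          ⟨(rm ω e * (s : Matrix (Fin 3) (Fin 3) F))⁻¹ *ᵥ v, by
            rw [Matrix.mulVec_mulVec, Matrix.mul_nonsing_inv _ (by
              rw [Matrix.det_mul, det_rm h, one_mul]; exact (Matrix.isUnit_iff_isUnit_det _).mp s.isUnit),
              Matrix.one_mulVec]⟩
        have hwu : ∀ v, (w : Matrix P9 P9 F) *ᵥ uv v = uv (rm ω e *ᵥ v) := fun v => by rw [hwe, W_uv]
        have e1 := congrArg (fun M => M *ᵥ uv t) hyw
        simp only [← Matrix.mulVec_mulVec, hgs, hwu] at e1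
        rw [← ht', ← Matrix.mulVec_mulVec, e1, uv_smul, Matrix.mulVec_mulVec, Matrix.mulVec_mulVec, hc,
          Matrix.smul_mulVec]
  -- it is trivial or the involution
  obtain ⟨-, f, hf⟩ := kern_le hX hmix hyK
  obtain ⟨f1, hadd, hpres, rfl⟩ := kern_acts h hf hyK.2.1 hyK.2.2
  have hqa : Acts ω (qU : Matrix P9 P9 F) (Prod.map (act 0) id) := by rw [hqM]; exact acts_qM h
  have hta : Acts ω (tU : Matrix P9 P9 F) (Prod.map shf id) := by rw [ht]; exact acts_tM h
  have hcm : ∀ (u : GL P9 F) (φ : Fin 3 × Fin 3 → Fin 3 × Fin 3), Commute y u →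
      Acts ω (u : Matrix P9 P9 F) (Prod.map φ id) → ∀ v, f1 (φ v) = φ (f1 v) := fun u φ hu hφ v => by
    have := congrFun (Acts.unique h (y.isUnit.mul u.isUnit) (hf.mul hφ)
      (f' := Prod.map φ id ∘ Prod.map f1 id) (by rw [← Units.val_mul, hu.eq, Units.val_mul]; exact hφ.mul hf)) (v, 0)
    simpa [Prod.map] using this
  have hlin := eq_lin2 hadd
  have hcase := commutant_two _ _ (hpres _ _)
    (by rw [← hlin]; exact fun a b => ⟨hcm qU _ hyq hqa (a, b), hcm tU _ hyt hta (a, b)⟩)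
  rw [← hlin] at hcase
  rcases hcase with hid | hneg
  · have hy1 := kern_id hX hyK (by
      convert hf using 1
      funext v
      exact Prod.ext (hid v.1.1 v.1.2).symm rfl)
    rw [hy, map_mul, map_mul, map_mul, map_inv, map_inv, mul_inv_eq_one, mul_inv_eq_iff_eq_mul] at hy1
    obtain ⟨d, -, hd⟩ := pj9_comm.mp hy1
    exact cent_any hX hmix (a := ((0, e) : Ix)) (fun q => he (congrArg Prod.snd q)) hg (c := d) (hwe ▸ hd)
  · exfalso
    obtain ⟨jK, hjK, hje⟩ : ∃ jK : GL P9 F, jK ∈ Kg ω X ∧ (jK : Matrix P9 P9 F) = jM ω := by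
      refine ⟨jU, ⟨hjX, by rw [hj], 1, one_ne_zero, fun v => ?_⟩, hj⟩
      rw [hj, jM, kron_uv _ _ tm0_aU, Matrix.one_mulVec]
    have hy1 := kern_id hX ((Kg ω X).mul_mem hyK hjK) (by
      rw [Units.val_mul, hje]
      convert hf.mul (acts_jM h) using 1
      funext v
      refine Prod.ext ?_ rfl
      show v.1 = f1 (-v.1)
      have := hneg (-v.1).1 (-v.1).2
      rw [Prod.mk.eta, neg_neg] at this
      exact this.symm)
    rw [map_mul, hy, map_mul, map_mul, map_mul, map_inv, map_inv] at hy1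
    have hw3 : pj9 F w ^ 3 = 1 := by
      rw [← map_pow, pj9_eq_one, pow_succ, pow_two, Units.val_mul, Units.val_mul, hwe, W_mul h, Matrix.smul_mul,
        W_mul h, smul_smul, show ((0, e) : Ix) + (0, e) + (0, e) = 0 from Prod.ext (by simp) (triple_ix e), W_zero]
      exact ⟨_, rfl⟩
    have hjw : Commute (pj9 F jK) (pj9 F w) := by
      show _ = _
      rw [← map_mul, ← map_mul]
      exact congrArg _ (Units.ext (by rw [Units.val_mul, Units.val_mul, hje, jM]; exact (hwA _).symm))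
    have hj2 : pj9 F jK ^ 2 = 1 := by
      rw [← map_pow, pj9_eq_one]
      exact ⟨1, by rw [one_smul, pow_two, Units.val_mul, hje, jM, ← mul_kronecker_mul, Tm_mul_self h, Matrix.one_mul,
        one_kronecker_one]⟩
    have e2 : pj9 F g * pj9 F w * (pj9 F g)⁻¹ = (pj9 F jK)⁻¹ * pj9 F w := by
      have := mul_eq_one_iff_eq_inv.mp hy1
      rwa [mul_inv_eq_iff_eq_mul] at this
    have e3 := congrArg (fun x => x ^ 3) e2
    simp only [conj_pow, hw3, mul_one, mul_inv_cancel, (hjw.inv_left).mul_pow, inv_pow] at e3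
    rw [show pj9 F jK ^ 3 = pj9 F jK by rw [pow_succ, hj2, one_mul], eq_comm, inv_eq_one] at e3
    obtain ⟨d, hd⟩ := pj9_eq_one.mp e3
    rw [hje] at hd
    have d1 := congrFun (congrFun hd (0, 0)) (0, 0)
    have d2 := congrFun (congrFun hd (1, 0)) (1, 0)
    simp [jM, Tm, mono, pw_zero, fin_three_facts] at d1 d2
    rw [← d2] at d1
    exact one_ne_zero (neg_eq_zero.mp d1)

end Cfsg.Agent.Classical.TriFrame
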