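/-
Elements whose images centralise the small involution, corrected on the second factor.
-/
import Cfsg.Agent.Lib.Classical.TriFrame.Pair

set_option autoImplicit false
set_option linter.unusedSectionVars false
set_option linter.style.haveILetI false

namespace Cfsg.Agent.Classical.TriFrame

open Matrix Kronecker
open Cfsg.Agent.Classical.LinThree.Hess

variable {F : Type*} [Field F] {ω : F} {X : Subgroup (GL P9 F)}

/-- A decomposable vector. -/
def pr (x v : Fin 3 → F) : P9 → F := fun i => x i.1 * v i.2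

theorem uv_eq_pr (v : Fin 3 → F) : uv v = pr aU v := rfl

theorem kron_pr (A B : Matrix (Fin 3) (Fin 3) F) (x v : Fin 3 → F) :
    (A ⊗ₖ B) *ᵥ pr x v = pr (A *ᵥ x) (B *ᵥ v) := by
  funext i
  simp only [Matrix.mulVec, dotProduct, Fintype.sum_prod_type, kroneckerMap_apply, pr, Finset.sum_mul_sum]
  refine Finset.sum_congr rfl fun a _ => Finset.sum_congr rfl fun b _ => ?_
  ring

theorem pr_smul_left (c : F) (x v : Fin 3 → F) : pr (c • x) v = c • pr x v := by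
  funext i; simp [pr, mul_assoc]

theorem pr_smul_right (c : F) (x v : Fin 3 → F) : pr x (c • v) = c • pr x v := by
  funext i; simp [pr]; ring

theorem sw_mul_sw : (sw F : Matrix P9 P9 F) * sw F = 1 := by
  rw [sw_mul]
  ext x y
  by_cases hxy : x = y
  · subst hxy; simp [sw]
  · rw [Matrix.one_apply_ne hxy]
    simp [sw, Ne.symm hxy]

theorem Tm_zero_eq : Tm ω 0 = A0 - (1 : Matrix (Fin 3) (Fin 3) F) := by
  ext i j
  fin_cases i <;> fin_cases j <;> simp [Tm, mono, A0, aU, vecMulVec, pw_zero, fin_three_facts]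

theorem trace_Tm_zero : (Tm ω 0).trace = -1 := by
  rw [Tm_zero_eq, Matrix.trace_sub, Matrix.trace_one, Fintype.card_fin]
  simp [A0, aU, vecMulVec, Matrix.trace_fin_three]
  ring

variable [Fintype F] (hX : Gens ω X)

include hX

/-- Elements of the kernel commuting with the copy of `SL(2,3)` are trivial or the involution. -/
theorem small_comm (hmix : ¬ Mixed X) {y jU : GL P9 F} (hj : (jU : Matrix P9 P9 F) = jM ω) (hyK : y ∈ Kg ω X)
    (hyq : (y : Matrix P9 P9 F) * qM ω = qM ω * (y : Matrix P9 P9 F))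
    (hyt : (y : Matrix P9 P9 F) * tM ω = tM ω * (y : Matrix P9 P9 F)) :
    pj9 F y = 1 ∨ pj9 F (y * jU) = 1 := by
  have h := hX.om
  obtain ⟨tU, -, ht⟩ := tU_mem hX
  obtain ⟨qU, -, -, hq⟩ := qM_kern hX 0
  have hqM : (qU : Matrix P9 P9 F) = qM ω := hq
  have hjK : jU ∈ Kg ω X := by
    obtain ⟨g, hg, e⟩ := jM_mem hX
    rw [show jU = g from Units.ext (hj.trans e.symm)]
    exact ⟨hg, by rw [e], 1, one_ne_zero, fun v => by rw [e, jM, kron_uv _ _ tm0_aU, Matrix.one_mulVec]⟩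
  obtain ⟨-, f, hf⟩ := kern_le hX hmix hyK
  obtain ⟨f1, hadd, hpres, rfl⟩ := kern_acts h hf hyK.2.1 hyK.2.2
  have hcm : ∀ (u : GL P9 F) (φ : Fin 3 × Fin 3 → Fin 3 × Fin 3),
      (y : Matrix P9 P9 F) * (u : Matrix P9 P9 F) = (u : Matrix P9 P9 F) * (y : Matrix P9 P9 F) →
      Acts ω (u : Matrix P9 P9 F) (Prod.map φ id) → ∀ v, f1 (φ v) = φ (f1 v) := fun u φ hu hφ v => by
    have := congrFun (Acts.unique h (y.isUnit.mul u.isUnit) (hf.mul hφ)
      (f' := Prod.map φ id ∘ Prod.map f1 id) (by rw [hu]; exact hφ.mul hf)) (v, 0)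
    simpa [Prod.map] using this
  have hlin := eq_lin2 hadd
  have hcase := commutant_two _ _ (hpres _ _)
    (by rw [← hlin]; exact fun a b => ⟨hcm qU _ (by rw [hqM]; exact hyq) (hqM ▸ acts_qM h) (a, b),
      hcm tU _ (by rw [ht]; exact hyt) (ht ▸ acts_tM h) (a, b)⟩)
  rw [← hlin] at hcase
  rcases hcase with hid | hneg
  · refine Or.inl (kern_id hX hyK ?_)
    convert hf using 1
    funext v
    exact Prod.ext (hid v.1.1 v.1.2).symm rfl
  · refine Or.inr (kern_id hX ((Kg ω X).mul_mem hyK hjK) ?_)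
    rw [Units.val_mul, hj]
    convert hf.mul (acts_jM h) using 1
    funext v
    refine Prod.ext ?_ rfl
    show v.1 = f1 (-v.1)
    have := hneg (-v.1).1 (-v.1).2
    rw [Prod.mk.eta, neg_neg] at this
    exact this.symm

/-- The involution on the second factor is centralised when its image is. -/
theorem commute_second (hmix : ¬ Mixed X) (h2 : (2 : F) ≠ 0) {g : GL P9 F} {s : GL (Fin 3) F} (hg : g ∈ X)
    (hgq : (g : Matrix P9 P9 F) * qM ω = qM ω * (g : Matrix P9 P9 F))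
    (hgt : (g : Matrix P9 P9 F) * tM ω = tM ω * (g : Matrix P9 P9 F))
    (hgs : ∀ v, (g : Matrix P9 P9 F) *ᵥ uv v = uv ((s : Matrix (Fin 3) (Fin 3) F) *ᵥ v))
    (hs : (s : Matrix (Fin 3) (Fin 3) F) * Tm ω 0 = Tm ω 0 * (s : Matrix (Fin 3) (Fin 3) F)) :
    (g : Matrix P9 P9 F) * ((1 : Matrix (Fin 3) (Fin 3) F) ⊗ₖ Tm ω 0) =
      ((1 : Matrix (Fin 3) (Fin 3) F) ⊗ₖ Tm ω 0) * (g : Matrix P9 P9 F) := by
  have h := hX.om
  obtain ⟨jU, hjX, hj⟩ := jM_mem hX
  obtain ⟨j2, hj2X, hj2⟩ := hX.swap.conj (jM_mem hX) (A' := (1 : Matrix (Fin 3) (Fin 3) F) ⊗ₖ Tm ω 0) (by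
    rw [jM]; exact sw_kron _ _)
  obtain ⟨tU, -, ht⟩ := tU_mem hX
  obtain ⟨qU, -, -, hq⟩ := qM_kern hX 0
  obtain ⟨y, hy⟩ : ∃ y, y = g * j2 * g⁻¹ * j2⁻¹ := ⟨_, rfl⟩
  have hj2sq : j2 * j2 = 1 := Units.ext (by
    rw [Units.val_mul, hj2, ← mul_kronecker_mul, Matrix.one_mul, Tm_mul_self h, one_kronecker_one, Units.val_one])
  have hjsq : jU * jU = 1 := Units.ext (by
    rw [Units.val_mul, hj, jM, ← mul_kronecker_mul, Matrix.one_mul, Tm_mul_self h, one_kronecker_one, Units.val_one])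
  have hcomm : ∀ u : GL P9 F, Commute g u → Commute j2 u → Commute y u := fun u h1 h2 => by
    rw [hy]; exact ((h1.mul_left h2).mul_left h1.inv_left).mul_left h2.inv_left
  have hjA : ∀ A : Matrix (Fin 3) (Fin 3) F, (j2 : Matrix P9 P9 F) * (A ⊗ₖ (1 : Matrix (Fin 3) (Fin 3) F)) =
      (A ⊗ₖ (1 : Matrix (Fin 3) (Fin 3) F)) * (j2 : Matrix P9 P9 F) := fun A => by
    rw [hj2, ← mul_kronecker_mul, ← mul_kronecker_mul]; simp
  have hyq : Commute y qU := hcomm _ (Units.ext (by rw [Units.val_mul, Units.val_mul, hq]; exact hgq))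
    (Units.ext (by rw [Units.val_mul, Units.val_mul, hq]; exact hjA _))
  have hyt : Commute y tU := hcomm _ (Units.ext (by rw [Units.val_mul, Units.val_mul, ht]; exact hgt))
    (Units.ext (by rw [Units.val_mul, Units.val_mul, ht]; exact hjA _))
  have hyq' : (y : Matrix P9 P9 F) * qM ω = qM ω * (y : Matrix P9 P9 F) := by
    rw [qM, ← hq, ← Units.val_mul, ← Units.val_mul, hyq.eq]
  have hyK : y ∈ Kg ω X := by
    refine ⟨hy ▸ X.mul_mem (X.mul_mem (X.mul_mem hg hj2X) (X.inv_mem hg)) (X.inv_mem hj2X), jM_of_qM h hyq', 1,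
      one_ne_zero, fun v => ?_⟩
    have hyg : (y : Matrix P9 P9 F) * (j2 : Matrix P9 P9 F) * (g : Matrix P9 P9 F) =
        (g : Matrix P9 P9 F) * (j2 : Matrix P9 P9 F) := by
      rw [← Units.val_mul, ← Units.val_mul, ← Units.val_mul, hy]
      congr 1
      group
    have hju : ∀ v, (j2 : Matrix P9 P9 F) *ᵥ uv v = uv (Tm ω 0 *ᵥ v) := fun v => by
      rw [hj2, kron_uv _ _ (c := 1) (by rw [Matrix.one_mulVec, one_smul]), one_smul]
    obtain ⟨t, ht'⟩ : ∃ t, (Tm ω 0 * (s : Matrix (Fin 3) (Fin 3) F)) *ᵥ t = v :=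
      ⟨((s⁻¹ : GL (Fin 3) F) : Matrix (Fin 3) (Fin 3) F) *ᵥ (Tm ω 0 *ᵥ v), by
        rw [Matrix.mulVec_mulVec, Matrix.mulVec_mulVec, Matrix.mul_assoc (Tm ω 0), ← Units.val_mul, mul_inv_cancel,
          Units.val_one, Matrix.mul_one, Tm_mul_self h, Matrix.one_mulVec]⟩
    have e1 := congrArg (fun M => M *ᵥ uv t) hyg
    simp only [← Matrix.mulVec_mulVec, hgs, hju] at e1
    rw [one_smul, ← ht', ← Matrix.mulVec_mulVec, e1, Matrix.mulVec_mulVec, hs, ← Matrix.mulVec_mulVec]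
  have hyt' : (y : Matrix P9 P9 F) * tM ω = tM ω * (y : Matrix P9 P9 F) := by
    rw [← ht, ← Units.val_mul, ← Units.val_mul, hyt.eq]
  have htr : ((j2 : GL P9 F) : Matrix P9 P9 F).trace = -3 := by
    rw [hj2, trace_kronecker, trace_Tm_zero, Matrix.trace_one, Fintype.card_fin]; simp
  rcases small_comm hX hmix hj hyK hyq' hyt' with e | e
  · rw [hy, map_mul, map_mul, map_mul, map_inv, map_inv, mul_inv_eq_one, mul_inv_eq_iff_eq_mul] at e
    rw [← hj2]
    refine commute_of_trace ?_ e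
    rw [htr, neg_ne_zero]
    exact h.three
  · exfalso
    rw [hy, map_mul, map_mul, map_mul, map_mul, map_inv, map_inv] at e
    have e' : pj9 F (g * j2 * g⁻¹) = pj9 F (jU * j2) := by
      have hj2p : (pj9 F j2)⁻¹ = pj9 F j2 := inv_eq_of_mul_eq_one_right (by rw [← map_mul, hj2sq, map_one])
      have hjp : (pj9 F jU)⁻¹ = pj9 F jU := inv_eq_of_mul_eq_one_right (by rw [← map_mul, hjsq, map_one])
      rw [hj2p] at e
      rw [map_mul, map_mul, map_mul, map_inv]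
      have e1 := eq_inv_of_mul_eq_one_left e
      rw [hjp] at e1
      calc pj9 F g * pj9 F j2 * (pj9 F g)⁻¹ = pj9 F g * pj9 F j2 * (pj9 F g)⁻¹ * pj9 F j2 * (pj9 F j2)⁻¹ := by
            rw [mul_inv_cancel_right]
        _ = pj9 F jU * pj9 F j2 := by rw [e1, hj2p]
    obtain ⟨c, -, hc⟩ := pj9_eq.mp e'
    have hjj : ((jU * j2 : GL P9 F) : Matrix P9 P9 F) = Tm ω 0 ⊗ₖ Tm ω 0 := by
      rw [Units.val_mul, hj, hj2, jM, ← mul_kronecker_mul, Matrix.mul_one, Matrix.one_mul]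
    have t1 := congrArg Matrix.trace hc
    rw [Units.val_mul, Units.val_mul, Matrix.trace_units_conj, htr, hjj, Matrix.trace_smul, trace_kronecker,
      trace_Tm_zero, smul_eq_mul] at t1
    have t2 := congrArg Matrix.trace (congrArg (fun M => M * M) hc)
    rw [← Units.val_mul, show g * j2 * g⁻¹ * (g * j2 * g⁻¹) = g * (j2 * j2) * g⁻¹ by group, hj2sq, mul_one,
      mul_inv_cancel, Units.val_one, Matrix.smul_mul, Matrix.mul_smul, smul_smul, hjj, ← mul_kronecker_mul,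
      Tm_mul_self h, one_kronecker_one, Matrix.trace_smul, Matrix.trace_one, smul_eq_mul] at t2
    have h9 : (Fintype.card P9 : F) = 9 := by simp [Fintype.card_prod]
    rw [h9] at t2
    have h8 : (2 : F) * 2 * 2 * 9 = 0 := by linear_combination -t2 - 9 * (3 - c) * t1
    exact (mul_ne_zero (mul_ne_zero (mul_ne_zero h2 h2) h2) (nine_ne h)) h8

/-- **Correction on the second factor.** -/
theorem reduce_snd (hmix : ¬ Mixed X) {g : GL P9 F} (hg : g ∈ X)
    (hgq : (g : Matrix P9 P9 F) * qM ω = qM ω * (g : Matrix P9 P9 F))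
    (hgt : (g : Matrix P9 P9 F) * tM ω = tM ω * (g : Matrix P9 P9 F))
    (hgj : (g : Matrix P9 P9 F) * ((1 : Matrix (Fin 3) (Fin 3) F) ⊗ₖ Tm ω 0) =
      ((1 : Matrix (Fin 3) (Fin 3) F) ⊗ₖ Tm ω 0) * (g : Matrix P9 P9 F)) :
    ∃ n ∈ NN hX.om X, (∃ A : Matrix (Fin 3) (Fin 3) F, (n : Matrix P9 P9 F) = (1 : Matrix (Fin 3) (Fin 3) F) ⊗ₖ A) ∧
      ∀ B, B = qm ω 0 ∨ B = sh ω →
        ((n * g : GL P9 F) : Matrix P9 P9 F) * (B ⊗ₖ (1 : Matrix (Fin 3) (Fin 3) F)) =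
          (B ⊗ₖ (1 : Matrix (Fin 3) (Fin 3) F)) * ((n * g : GL P9 F) : Matrix P9 P9 F) ∧
        ((n * g : GL P9 F) : Matrix P9 P9 F) * ((1 : Matrix (Fin 3) (Fin 3) F) ⊗ₖ B) =
          ((1 : Matrix (Fin 3) (Fin 3) F) ⊗ₖ B) * ((n * g : GL P9 F) : Matrix P9 P9 F) := by
  have h := hX.om
  obtain ⟨S, hS, hSe⟩ := hX.swap
  have hSS : S * S = 1 := Units.ext (by rw [Units.val_mul, hSe, sw_mul_sw, Units.val_one])
  have hSN : S ∈ NN h X := ⟨hS, _, hSe ▸ Acts.sw h⟩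
  have hconj : ∀ (u : GL P9 F) (A B : Matrix (Fin 3) (Fin 3) F),
      (u : Matrix P9 P9 F) * (A ⊗ₖ B) = (A ⊗ₖ B) * (u : Matrix P9 P9 F) →
      ((S * u * S : GL P9 F) : Matrix P9 P9 F) * (B ⊗ₖ A) = (B ⊗ₖ A) * ((S * u * S : GL P9 F) : Matrix P9 P9 F) := by
    intro u A B hu
    rw [Units.val_mul, Units.val_mul, hSe]
    simp only [Matrix.mul_assoc]
    rw [sw_kron, ← Matrix.mul_assoc (u : Matrix P9 P9 F), hu, Matrix.mul_assoc, ← Matrix.mul_assoc (sw F), sw_kron,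
      Matrix.mul_assoc]
  obtain ⟨n, hn, h1, h2, A, hA⟩ := reduce_fst hX hmix (X.mul_mem (X.mul_mem hS hg) hS) (g := S * g * S)
    (by rw [jM]; exact hconj g _ _ hgj)
  refine ⟨S * n * S, (NN h X).mul_mem ((NN h X).mul_mem hSN hn) hSN, ⟨A, ?_⟩, fun B hB => ?_⟩
  · rw [Units.val_mul, Units.val_mul, hSe, hA, sw_kron, Matrix.mul_assoc, sw_mul_sw, Matrix.mul_one]
  rw [show S * n * S * g = S * (n * (S * g * S)) * S by
    calc S * n * S * g = S * n * S * g * (S * S) := by rw [hSS, mul_one]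
      _ = _ := by group]
  have hnA : ∀ B : Matrix (Fin 3) (Fin 3) F, (n : Matrix P9 P9 F) * ((1 : Matrix (Fin 3) (Fin 3) F) ⊗ₖ B) =
      ((1 : Matrix (Fin 3) (Fin 3) F) ⊗ₖ B) * (n : Matrix P9 P9 F) := fun B => by
    rw [hA, ← mul_kronecker_mul, ← mul_kronecker_mul]; simp
  have hfirst : ((S * g * S : GL P9 F) : Matrix P9 P9 F) * ((1 : Matrix (Fin 3) (Fin 3) F) ⊗ₖ B) =
      ((1 : Matrix (Fin 3) (Fin 3) F) ⊗ₖ B) * ((S * g * S : GL P9 F) : Matrix P9 P9 F) := by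
    refine hconj g _ _ ?_
    rcases hB with rfl | rfl
    · exact hgq
    · exact hgt
  refine ⟨hconj _ _ _ ?_, hconj _ _ _ ?_⟩
  · rw [Units.val_mul n, Matrix.mul_assoc, hfirst, ← Matrix.mul_assoc, hnA, Matrix.mul_assoc]
  · rcases hB with rfl | rfl
    · exact h1
    · exact h2

end Cfsg.Agent.Classical.TriFrame
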