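/-
The centraliser of the small involution in the image, five elements in the fixed field.
-/
import Cfsg.Agent.Lib.Classical.TriFrame.SwapCorr
import Cfsg.Agent.Lib.Classical.TriFrame.TransU

set_option autoImplicit false
set_option linter.unusedSectionVars false
set_option linter.style.haveILetI false

namespace Cfsg.Agent.Classical.TriFrame

open Matrix Kronecker Cfsg.Geo
open Cfsg.Agent.Classical
open Cfsg.Agent.Classical.LinThree.Hess

variable {F : Type*} [Field F] {ω : F} {X : Subgroup (GL P9 F)}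

theorem A0_sq : (A0 : Matrix (Fin 3) (Fin 3) F) * A0 = (2 : F) • A0 := by
  ext i j
  fin_cases i <;> fin_cases j <;> simp [A0, aU, vecMulVec, Matrix.mul_apply, Fin.sum_univ_three] <;> norm_num

theorem det_add_A0 (a : F) : ((1 : Matrix (Fin 3) (Fin 3) F) + a • A0).det = 1 + 2 * a := by
  rw [Matrix.det_fin_three]
  simp [A0, aU, vecMulVec, Matrix.one_apply, fin_three_facts]
  ring

theorem det_add_A00 (c : F) :
    ((1 : Matrix P9 P9 F) + c • ((A0 : Matrix (Fin 3) (Fin 3) F) ⊗ₖ (A0 : Matrix (Fin 3) (Fin 3) F))).det = 1 + 4 * c := by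
  have e : c • ((A0 : Matrix (Fin 3) (Fin 3) F) ⊗ₖ (A0 : Matrix (Fin 3) (Fin 3) F)) =
      (Matrix.replicateCol Unit (c • pr aU aU) : Matrix P9 Unit F) * (Matrix.replicateRow Unit (pr aU aU) : Matrix Unit P9 F) := by
    ext i j
    simp [Matrix.mul_apply, Matrix.replicateCol_apply, Matrix.replicateRow_apply, A0, vecMulVec, pr, kroneckerMap_apply]
    ring
  rw [e, Matrix.det_one_add_replicateCol_mul_replicateRow]
  simp [dotProduct, Fintype.sum_prod_type, Fin.sum_univ_three, pr, aU]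
  ring

theorem A0_e0 : (A0 : Matrix (Fin 3) (Fin 3) F) *ᵥ Pi.single 0 1 = 0 := by
  funext i
  fin_cases i <;> simp [A0, aU, vecMulVec]

theorem add_A0_e0 (a b : F) :
    (a • (1 : Matrix (Fin 3) (Fin 3) F) + b • A0) *ᵥ Pi.single 0 1 = a • Pi.single 0 1 := by
  rw [Matrix.add_mulVec, Matrix.smul_mulVec, Matrix.smul_mulVec, A0_e0, smul_zero, add_zero, Matrix.one_mulVec]

theorem add_A0_aU (a b : F) :
    (a • (1 : Matrix (Fin 3) (Fin 3) F) + b • A0) *ᵥ aU = (a + 2 * b) • aU := by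
  rw [Matrix.add_mulVec, Matrix.smul_mulVec, Matrix.smul_mulVec, A0_aU, Matrix.one_mulVec, smul_smul, ← add_smul, mul_comm b]

theorem pr_inj_right {x v w : Fin 3 → F} {i : Fin 3} (hx : x i ≠ 0) (e : pr x v = pr x w) : v = w := by
  funext k
  exact mul_left_cancel₀ hx (congrFun e (i, k))

/-- The shape of the commutant of both copies. -/
theorem shape_four (h : Om ω) (h2 : (2 : F) ≠ 0) {g : Matrix P9 P9 F}
    (hg : ∀ B, B = qm ω 0 ∨ B = sh ω →
      g * (B ⊗ₖ (1 : Matrix (Fin 3) (Fin 3) F)) = (B ⊗ₖ (1 : Matrix (Fin 3) (Fin 3) F)) * g ∧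
      g * ((1 : Matrix (Fin 3) (Fin 3) F) ⊗ₖ B) = ((1 : Matrix (Fin 3) (Fin 3) F) ⊗ₖ B) * g) :
    ∃ g0 g1 s0 s1 : F,
      g = (1 : Matrix (Fin 3) (Fin 3) F) ⊗ₖ (g0 • (1 : Matrix (Fin 3) (Fin 3) F) + g1 • A0) +
        A0 ⊗ₖ ((2 : F)⁻¹ • ((s0 - g0) • (1 : Matrix (Fin 3) (Fin 3) F) + (s1 - g1) • A0)) ∧
      ∀ v, g *ᵥ uv v = uv ((s0 • (1 : Matrix (Fin 3) (Fin 3) F) + s1 • A0) *ᵥ v) := by
  obtain ⟨G, N, hgN⟩ := exists_shape h (g := g) (hg _ (Or.inl rfl)).1 (hg _ (Or.inr rfl)).1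
  have hlow : ∀ v, g *ᵥ pr (Pi.single 0 1) v = pr (Pi.single 0 1) (G *ᵥ v) := fun v => by
    rw [hgN, Matrix.add_mulVec, kron_pr, kron_pr, A0_e0, Matrix.one_mulVec]
    funext x
    simp [pr]
  have hup : ∀ v, g *ᵥ uv v = uv ((G + (2 : F) • N) *ᵥ v) := fun v => hgN ▸ shape_uv v
  have hGB : ∀ B, B = qm ω 0 ∨ B = sh ω → G * B = B * G ∧ (G + (2 : F) • N) * B = B * (G + (2 : F) • N) := by
    intro B hB
    constructor <;> refine Matrix.ext_of_mulVec_single fun k => ?_ <;>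
      generalize (Pi.single k (1 : F) : Fin 3 → F) = v
    · have e := congrArg (fun M => M *ᵥ pr (Pi.single 0 1) v) (hg B hB).2
      simp only [← Matrix.mulVec_mulVec, kron_pr, hlow, Matrix.one_mulVec] at e
      rw [← Matrix.mulVec_mulVec, ← Matrix.mulVec_mulVec]
      exact pr_inj_right (i := 0) (by simp) e
    · have e := congrArg (fun M => M *ᵥ uv v) (hg B hB).2
      have hBu : ∀ v, ((1 : Matrix (Fin 3) (Fin 3) F) ⊗ₖ B) *ᵥ uv v = uv (B *ᵥ v) := fun v => by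
        rw [uv_eq_pr, kron_pr, Matrix.one_mulVec, uv_eq_pr]
      simp only [← Matrix.mulVec_mulVec, hBu, hup] at e
      rw [← Matrix.mulVec_mulVec, ← Matrix.mulVec_mulVec]
      exact uv_inj e
  obtain ⟨g0, g1, hG⟩ : ∃ g0 g1 : F, G = g0 • (1 : Matrix (Fin 3) (Fin 3) F) + g1 • A0 :=
    ⟨_, _, commutant3 h (hGB _ (Or.inl rfl)).1 (hGB _ (Or.inr rfl)).1⟩
  obtain ⟨s0, s1, hS⟩ : ∃ s0 s1 : F, G + (2 : F) • N = s0 • (1 : Matrix (Fin 3) (Fin 3) F) + s1 • A0 :=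
    ⟨_, _, commutant3 h (hGB _ (Or.inl rfl)).2 (hGB _ (Or.inr rfl)).2⟩
  refine ⟨g0, g1, s0, s1, ?_, fun v => by rw [hup, hS]⟩
  rw [hgN, ← hG]
  congr 2
  rw [sub_smul, sub_smul, show s0 • (1 : Matrix (Fin 3) (Fin 3) F) - g0 • 1 + (s1 • A0 - g1 • A0) =
    (s0 • (1 : Matrix (Fin 3) (Fin 3) F) + s1 • A0) - (g0 • 1 + g1 • A0) by abel, ← hS, ← hG, add_sub_cancel_left,
    smul_smul, inv_mul_cancel₀ h2, one_smul]

theorem split_four (h2 : (2 : F) ≠ 0) {g0 g1 s0 s1 : F} {g : Matrix P9 P9 F}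
    (hg : g = (1 : Matrix (Fin 3) (Fin 3) F) ⊗ₖ (g0 • (1 : Matrix (Fin 3) (Fin 3) F) + g1 • A0) +
      A0 ⊗ₖ ((2 : F)⁻¹ • ((s0 - g0) • (1 : Matrix (Fin 3) (Fin 3) F) + (s1 - g1) • A0)))
    (hε : g0 ≠ 0) {a b c : F} (ha : 2 * a * g0 = s0 - g0) (hb : b * g0 = g1)
    (hc : g0 * c * (1 + 2 * a) * (1 + 2 * b) * 2 = (s1 - g1) - 2 * a * b * g0) :
    g = g0 • (((1 : Matrix (Fin 3) (Fin 3) F) + a • A0) ⊗ₖ ((1 : Matrix (Fin 3) (Fin 3) F) + b • A0) *
      ((1 : Matrix P9 P9 F) + c • (A0 ⊗ₖ A0))) := by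
  rw [hg, ← one_kronecker_one (m := Fin 3) (n := Fin 3)]
  simp only [add_kronecker, kronecker_add, smul_kronecker, kronecker_smul, Matrix.mul_add, Matrix.add_mul,
    Matrix.smul_mul, Matrix.mul_smul, smul_add, smul_smul, ← mul_kronecker_mul, Matrix.one_mul, Matrix.mul_one, A0_sq]
  match_scalars <;> field_simp
  · linear_combination -hb
  · linear_combination -ha
  · linear_combination -hc

theorem square_four {g0 a b c : F} (hc : c + c + (c + c) * (c + c) = 0) {g : Matrix P9 P9 F}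
    (hg : g = g0 • (((1 : Matrix (Fin 3) (Fin 3) F) + a • A0) ⊗ₖ ((1 : Matrix (Fin 3) (Fin 3) F) + b • A0) *
      ((1 : Matrix P9 P9 F) + c • (A0 ⊗ₖ A0)))) :
    g * g = (g0 * g0) • (((1 : Matrix (Fin 3) (Fin 3) F) + (2 * a + 2 * a * a) • A0) ⊗ₖ
      ((1 : Matrix (Fin 3) (Fin 3) F) + (2 * b + 2 * b * b) • A0)) := by
  rw [hg, ← one_kronecker_one (m := Fin 3) (n := Fin 3)]
  simp only [add_kronecker, kronecker_add, smul_kronecker, kronecker_smul, Matrix.mul_add, Matrix.add_mul,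
    Matrix.smul_mul, Matrix.mul_smul, smul_add, smul_smul, ← mul_kronecker_mul, Matrix.one_mul, Matrix.mul_one, A0_sq]
  match_scalars
  · ring
  · ring
  · ring
  · linear_combination g0 * g0 * (1 + 2 * a) * (1 + 2 * a) * (1 + 2 * b) * (1 + 2 * b) * hc

/-- A homology of order three does not carry the clock to a normaliser of the small frame. -/
theorem homology_clock [CharP F 5] (h : Om ω) {x b b' : F} (hx : x = ω ∨ x = ω * ω) (hb : 1 + 2 * b = x)
    (hb' : 1 + 2 * b' = x * x) {f : Fin 3 × Fin 3 → Fin 3 × Fin 3}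
    (hf : Acts3 ω (((1 : Matrix (Fin 3) (Fin 3) F) + b • A0) * rm ω (0, 1) * ((1 : Matrix (Fin 3) (Fin 3) F) + b' • A0)) f) :
    False := by
  have hr := h.root
  have h3 := h.cube
  have h5 : (5 : F) = 0 := by exact_mod_cast (CharP.cast_eq_zero F 5)
  have h7 : (7 : F) ≠ 0 := fun e => one_ne_zero (show (1 : F) = 0 by linear_combination 3 * h5 - 2 * e)
  have h3' := h.three
  obtain ⟨d, hd0, hd⟩ := hf (0, 1)
  generalize f (0, 1) = v at hd
  obtain ⟨u, hu⟩ : ∃ u, u = ((1 : Matrix (Fin 3) (Fin 3) F) + b • A0) * rm ω (0, 1) *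
    ((1 : Matrix (Fin 3) (Fin 3) F) + b' • A0) := ⟨_, rfl⟩
  rw [← hu] at hd
  have u00 : u 0 0 = 1 := by
    simp [hu, A0, aU, vecMulVec, rm, mono, Matrix.mul_apply, Fin.sum_univ_three, Matrix.one_apply, pw, fin_three_facts]
  have u10 : u 1 0 = 0 ∧ u 2 0 = 0 ∧ u 0 1 = 0 := by
    simp [hu, A0, aU, vecMulVec, rm, mono, Matrix.mul_apply, Fin.sum_univ_three, Matrix.one_apply, pw, fin_three_facts]
  have u11 : u 1 1 = (1 + b) * ω * (1 + b') + (-b) * (ω * ω) * (-b') := by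
    simp [hu, A0, aU, vecMulVec, rm, mono, Matrix.mul_apply, Fin.sum_univ_three, Matrix.one_apply, pw, fin_three_facts]
    ring_nf
    simp
  have u21 : u 2 1 = (-b) * ω * (1 + b') + (1 + b) * (ω * ω) * (-b') := by
    simp [hu, A0, aU, vecMulVec, rm, mono, Matrix.mul_apply, Fin.sum_univ_three, Matrix.one_apply, pw, fin_three_facts]
    ring_nf
    simp
  have n11 : u 1 1 ≠ 0 := fun q => h7 (by
    rw [u11] at q
    rcases hx with rfl | rfl <;> grind)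
  have n21 : u 2 1 ≠ 0 := fun q => h7 (by
    rw [u21] at q
    rcases hx with rfl | rfl <;> grind)
  obtain ⟨v1, v2⟩ := v
  obtain ⟨u10, u20, u01⟩ := u10
  have a0 := congrFun (congrFun hd 0) 0
  have a1 := congrFun (congrFun hd 1) 1
  have a2 := congrFun (congrFun hd 2) 1
  fin_cases v1 <;> fin_cases v2 <;>
    simp [rm, mono, Matrix.mul_apply, Fin.sum_univ_three, pw, fin_three_facts, u00, u10, u20, u01] at a0 a1 a2 <;>
    grind [h.ne_one]

variable [Fintype F] {σ : F ≃+* F}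

theorem eigen_norm (hI : Iso σ X) {g : GL P9 F} (hg : g ∈ X) {x v : Fin 3 → F} {e : F}
    (he : (g : Matrix P9 P9 F) *ᵥ pr x v = e • pr x v) (h0 : hm σ (pr x v) (pr x v) ≠ 0) : e * σ e = 1 := by
  have := hI g hg (pr x v) (pr x v)
  rw [he, hm_smul_left, hm_smul_right, ← mul_assoc] at this
  exact mul_right_cancel₀ h0 (this.trans (one_mul _).symm)

theorem hm_pr (x v : Fin 3 → F) :
    hm σ (pr x v) (pr x v) = (x ⬝ᵥ fun i => σ (x i)) * (v ⬝ᵥ fun i => σ (v i)) := by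
  simp only [hm, cj, pr, dotProduct, Fintype.sum_prod_type, Finset.sum_mul_sum, map_mul]
  refine Finset.sum_congr rfl fun a _ => Finset.sum_congr rfl fun b _ => ?_
  ring

variable (hX : Gens ω X)

include hX

/-- A normaliser on the second factor gives a normaliser of the small frame. -/
theorem acts3_of_second {g : GL P9 F} (hgN : g ∈ NN hX.om X) {u : Matrix (Fin 3) (Fin 3) F}
    (hg : (g : Matrix P9 P9 F) = (1 : Matrix (Fin 3) (Fin 3) F) ⊗ₖ u) : ∃ f, Acts3 ω u f := by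
  have h := hX.om
  obtain ⟨-, f, hf⟩ := hgN
  have hfix : ∀ e, f (e, 0) = (e, 0) := fun e => by
    obtain ⟨c, -, hc⟩ := hf (e, 0)
    have e1 : (g : Matrix P9 P9 F) * W ω ((e, 0) : Ix) = W ω ((e, 0) : Ix) * (g : Matrix P9 P9 F) := by
      rw [hg, W, rm_zero, ← mul_kronecker_mul, ← mul_kronecker_mul]; simp
    rw [e1, ← Matrix.smul_mul] at hc
    exact (W_inj h (g.isUnit.mul_right_cancel hc)).symm
  have h0 : ∀ e, (f (0, e)).1 = 0 := fun e => by
    have hz : ∀ x : Fin 3 × Fin 3, (∀ e', sg3 x e' = 0) → x = 0 := by decide +kernel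
    refine hz _ fun e' => ?_
    have := Acts.pres h g.isUnit hf (0, e) (e', 0)
    rw [hfix] at this
    simpa [sg, sg3] using this
  refine ⟨fun e => (f (0, e)).2, fun e => ?_⟩
  obtain ⟨d, hd0, hd⟩ := hf (0, e)
  refine ⟨d, hd0, Matrix.ext_of_mulVec_single fun k => ?_⟩
  generalize (Pi.single k (1 : F) : Fin 3 → F) = v
  have hgs : ∀ v, (g : Matrix P9 P9 F) *ᵥ uv v = uv (u *ᵥ v) := fun v => by
    rw [hg, kron_uv _ _ (c := 1) (by rw [Matrix.one_mulVec, one_smul]), one_smul]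
  have e1 := congrArg (fun M => M *ᵥ uv v) hd
  rw [show f (0, e) = ((0, (f (0, e)).2) : Ix) from Prod.ext (h0 e) rfl] at e1
  simp only [← Matrix.mulVec_mulVec, Matrix.smul_mulVec, W_uv, hgs, uv_smul] at e1
  rw [← Matrix.mulVec_mulVec, Matrix.smul_mulVec, ← Matrix.mulVec_mulVec]
  exact uv_inj e1

/-- **The centraliser of the involution.** -/
theorem cent_tau [CharP F 5] (hσ : IsUSigma 5 σ) (hI : Iso σ X) (hmix : ¬ Mixed X) {s : GL (Fin 3) F}
    (hsH : s ∈ Hgrp ω X) (hs : (s : Matrix (Fin 3) (Fin 3) F) * Tm ω 0 = Tm ω 0 * (s : Matrix (Fin 3) (Fin 3) F)) :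
    ∃ f, Acts3 ω (s : Matrix (Fin 3) (Fin 3) F) f := by
  have h := hX.om
  have h5 : (5 : F) = 0 := by exact_mod_cast (CharP.cast_eq_zero F 5)
  have h2 : (2 : F) ≠ 0 := fun e => one_ne_zero (show (1 : F) = 0 by linear_combination h5 - 2 * e)
  obtain ⟨g, hg, hgq, hgt, hgs⟩ := hsH
  refine (nn_iff hX hmix hg hgq hgt hgs).mp ?_
  obtain ⟨n, hn, ⟨A, hA⟩, hB⟩ := reduce_snd hX hmix hg hgq hgt (commute_second hX hmix h2 hg hgq hgt hgs hs)
  have hngX : n * g ∈ X := X.mul_mem hn.1 hg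
  suffices hh : n * g ∈ NN h X by
    have := (NN h X).mul_mem ((NN h X).inv_mem hn) hh
    rwa [inv_mul_cancel_left] at this
  obtain ⟨k, hk⟩ : ∃ k, k = n * g := ⟨_, rfl⟩
  rw [← hk] at hngX hB ⊢
  obtain ⟨g0, g1, s0, s1, hshape, hup⟩ := shape_four h h2 hB
  obtain ⟨T, hT⟩ : ∃ T : GL (Fin 3) F, (T : Matrix (Fin 3) (Fin 3) F) = s0 • (1 : Matrix (Fin 3) (Fin 3) F) + s1 • A0 := by
    refine ⟨(?_ : IsUnit _).unit, rfl⟩
    have hu : ∀ v, (k : Matrix P9 P9 F) *ᵥ uv v = uv ((A * (s : Matrix (Fin 3) (Fin 3) F)) *ᵥ v) := fun v => by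
      rw [hk, Units.val_mul, ← Matrix.mulVec_mulVec, hgs, hA, kron_uv _ _ (c := 1) (by rw [Matrix.one_mulVec, one_smul]),
        one_smul, Matrix.mulVec_mulVec]
    have e : A * (s : Matrix (Fin 3) (Fin 3) F) = s0 • (1 : Matrix (Fin 3) (Fin 3) F) + s1 • A0 :=
      Matrix.ext_of_mulVec_single fun i => uv_inj (by rw [← hu, hup])
    rw [← e]
    refine IsUnit.mul ((Matrix.isUnit_iff_isUnit_det _).mpr (isUnit_iff_ne_zero.mpr fun q => ?_)) s.isUnit
    have := (Matrix.isUnit_iff_isUnit_det _).mp n.isUnit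
    rw [hA, det_kronecker, q, zero_pow (by simp), mul_zero] at this
    exact not_isUnit_zero this
  refine (nn_iff hX hmix hngX (hB _ (Or.inl rfl)).1 (hB _ (Or.inr rfl)).1
    (s := T) fun v => by rw [hup, hT]).mpr ?_
  rw [hT]
  -- the four scalars
  have hσx : ∀ x : F, σ x = x ^ 5 := hσ.apply_eq
  have h4 : (4 : F) ≠ 0 := fun e => one_ne_zero (show (1 : F) = 0 by linear_combination h5 - e)
  have hev : ∀ (x v : Fin 3 → F) (e : F), (k : Matrix P9 P9 F) *ᵥ pr x v = e • pr x v →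
      hm σ (pr x v) (pr x v) ≠ 0 → e ^ 6 = 1 := fun x v e he h0 => by
    have := eigen_norm hI hngX he h0
    rw [hσx] at this
    linear_combination this
  have hA0 : (Pi.single 0 1 : Fin 3 → F) ⬝ᵥ (fun i => σ ((Pi.single 0 1 : Fin 3 → F) i)) = 1 := by simp
  have hAa : (aU : Fin 3 → F) ⬝ᵥ (fun i => σ ((aU : Fin 3 → F) i)) = 2 := by
    simp [dotProduct, Fin.sum_univ_three, aU]; norm_num
  have hlow : ∀ v, (k : Matrix P9 P9 F) *ᵥ pr (Pi.single 0 1) v =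
      pr (Pi.single 0 1) ((g0 • (1 : Matrix (Fin 3) (Fin 3) F) + g1 • A0) *ᵥ v) := fun v => by
    rw [hshape, Matrix.add_mulVec, kron_pr, kron_pr, A0_e0, Matrix.one_mulVec]
    funext x
    simp [pr]
  have hε6 : g0 ^ 6 = 1 := hev (Pi.single 0 1) (Pi.single 0 1) _ (by rw [hlow, add_A0_e0, pr_smul_right])
    (by rw [hm_pr, hA0, one_mul]; exact one_ne_zero)
  have hδ6 : (g0 + 2 * g1) ^ 6 = 1 := hev (Pi.single 0 1) aU _ (by rw [hlow, add_A0_aU, pr_smul_right])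
    (by rw [hm_pr, hA0, hAa, one_mul]; exact h2)
  have hγ6 : s0 ^ 6 = 1 := hev aU (Pi.single 0 1) _ (by rw [← uv_eq_pr, hup, add_A0_e0, uv_smul])
    (by rw [hm_pr, hA0, hAa, mul_one]; exact h2)
  have hα6 : (s0 + 2 * s1) ^ 6 = 1 := hev aU aU _ (by rw [← uv_eq_pr, hup, add_A0_aU, uv_smul])
    (by rw [hm_pr, hAa]; exact mul_ne_zero h2 h2)
  have hne : ∀ {x : F}, x ^ 6 = 1 → x ≠ 0 := fun hx q => by rw [q, zero_pow (by norm_num)] at hx; exact zero_ne_one hx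
  have hε := hne hε6
  have hδ := hne hδ6
  have hγ := hne hγ6
  obtain ⟨a, ha⟩ : ∃ a, a = (s0 - g0) / (2 * g0) := ⟨_, rfl⟩
  obtain ⟨b, hb⟩ : ∃ b, b = g1 / g0 := ⟨_, rfl⟩
  have ha' : 1 + 2 * a = s0 / g0 := by rw [ha]; field_simp; ring
  have hb' : 1 + 2 * b = (g0 + 2 * g1) / g0 := by rw [hb]; field_simp
  obtain ⟨r, hr⟩ : ∃ r, r = (s0 + 2 * s1) * g0 / (s0 * (g0 + 2 * g1)) := ⟨_, rfl⟩
  obtain ⟨c, hc⟩ : ∃ c, c = (r - 1) / 4 := ⟨_, rfl⟩
  have hsplit := split_four h2 hshape hε (a := a) (b := b) (c := c) (by rw [ha]; field_simp) (by rw [hb]; field_simp)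
    (by rw [ha', hb', hc, hr, ha, hb]; field_simp; ring)
  have hdet := hX.det k hngX
  rw [hsplit, Matrix.det_smul, Matrix.det_mul, det_kronecker, det_add_A0, det_add_A0, det_add_A00,
    show 1 + 4 * c = r by rw [hc]; field_simp; ring, ha', hb',
    show Fintype.card P9 = 9 by simp, Fintype.card_fin] at hdet
  have hr2 : r * r = 1 := by
    have e : g0 ^ 3 * (s0 ^ 3 * (g0 + 2 * g1) ^ 3 * r) = 1 := by
      rw [← hdet, div_pow, div_pow]; field_simp
    have e' : g0 ^ 6 * s0 ^ 6 * (g0 + 2 * g1) ^ 6 * (r * r) = 1 := by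
      linear_combination (g0 ^ 3 * (s0 ^ 3 * (g0 + 2 * g1) ^ 3 * r) + 1) * e
    rwa [hε6, hγ6, hδ6, one_mul, one_mul, one_mul] at e'
  have hsq := square_four (c := c) (by rw [hc]; field_simp; linear_combination 4 * hr2) hsplit
  obtain ⟨x, hx⟩ : ∃ x, x = ((g0 + 2 * g1) / g0) * ((g0 + 2 * g1) / g0) := ⟨_, rfl⟩
  obtain ⟨b1, hb1⟩ : ∃ b1, b1 = 2 * b + 2 * b * b := ⟨_, rfl⟩
  have hb1x : 1 + 2 * b1 = x := by rw [hb1, hx, ← hb']; ring
  have hx3 : x * x * x = 1 := by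
    rw [hx]
    field_simp
    linear_combination hδ6 - hε6
  obtain ⟨m, hm'⟩ := pw_exists h hx3
  by_cases hm0 : m = 0
  · -- the signs
    have hx1 : x = 1 := by rw [hm', hm0, pw_zero]
    have hγα : (s0 + 2 * s1) * (s0 + 2 * s1) = s0 * s0 := by
      have e1 : (s0 + 2 * s1) * g0 = r * (s0 * (g0 + 2 * g1)) := by rw [hr]; field_simp
      have e2 : (g0 + 2 * g1) * (g0 + 2 * g1) = g0 * g0 := by
        rw [hx] at hx1; field_simp at hx1; linear_combination hx1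
      refine mul_right_cancel₀ (mul_ne_zero hε hε) ?_
      linear_combination ((s0 + 2 * s1) * g0 + r * (s0 * (g0 + 2 * g1))) * e1 +
        (s0 * s0 * ((g0 + 2 * g1) * (g0 + 2 * g1))) * hr2 + s0 * s0 * e2
    rcases mul_self_eq_mul_self_iff.mp hγα with e | e
    · have hs1 : s1 = 0 := (mul_eq_zero.mp (show (2 : F) * s1 = 0 by linear_combination e)).resolve_left h2
      exact ⟨id, fun u => ⟨1, one_ne_zero, by rw [hs1, zero_smul, add_zero]; simp⟩⟩
    · have hs1 : s1 = -s0 := mul_left_cancel₀ h2 (by linear_combination e)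
      refine ⟨fun e => -e, fun u => ?_⟩
      obtain ⟨d, hd⟩ := Tm_zero_rm h u
      refine ⟨pw ω d, pw_ne_zero h d, ?_⟩
      rw [hs1, show s0 • (1 : Matrix (Fin 3) (Fin 3) F) + -s0 • A0 = -s0 • Tm ω 0 by
        rw [Tm_zero_eq, smul_sub]; module, Matrix.smul_mul, hd, Matrix.mul_smul, smul_comm]
  · exfalso
    obtain ⟨w, hw, hwe⟩ := hX.frame ((0, (0, 1)) : Ix)
    have hwN : w ∈ NN h X := ⟨hw, _, hwe ▸ Acts.frame h _⟩
    obtain ⟨q, hq⟩ : ∃ q, q = k * k * w * (k * k)⁻¹ := ⟨_, rfl⟩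
    obtain ⟨b2, hb2⟩ : ∃ b2, b2 = (x * x - 1) / 2 := ⟨_, rfl⟩
    have hinv : ((1 : Matrix (Fin 3) (Fin 3) F) + b2 • A0) * ((1 : Matrix (Fin 3) (Fin 3) F) + b1 • A0) = 1 := by
      simp only [Matrix.mul_add, Matrix.add_mul, Matrix.one_mul, Matrix.mul_one, Matrix.smul_mul, Matrix.mul_smul,
        A0_sq, smul_smul]
      rw [show b1 = (x - 1) / 2 by rw [← hb1x]; field_simp; ring, hb2]
      match_scalars <;> field_simp
      linear_combination hx3
    obtain ⟨u, hu⟩ : ∃ u, u = ((1 : Matrix (Fin 3) (Fin 3) F) + b1 • A0) * rm ω (0, 1) *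
      ((1 : Matrix (Fin 3) (Fin 3) F) + b2 • A0) := ⟨_, rfl⟩
    have hqe : (q : Matrix P9 P9 F) = (1 : Matrix (Fin 3) (Fin 3) F) ⊗ₖ u := by
      refine (k * k).isUnit.mul_right_cancel ?_
      rw [← Units.val_mul, hq, inv_mul_cancel_right, Units.val_mul, Units.val_mul, hwe, hsq, ← hb1, W, rm_zero,
        Matrix.smul_mul, Matrix.mul_smul, ← mul_kronecker_mul, ← mul_kronecker_mul, hu, Matrix.mul_assoc _ _
        ((1 : Matrix (Fin 3) (Fin 3) F) + b1 • A0), hinv, Matrix.one_mul, Matrix.mul_one, Matrix.mul_one]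
    have hqN : q ∈ NN h X := cent_any hX hmix (a := (((1, 0), 0) : Ix)) (by decide)
      (hq ▸ X.mul_mem (X.mul_mem (X.mul_mem hngX hngX) hw) (X.inv_mem (X.mul_mem hngX hngX))) (c := 1)
      (by rw [one_smul, hqe, W, rm_zero, ← mul_kronecker_mul, ← mul_kronecker_mul]; simp)
    obtain ⟨f, hf⟩ := acts3_of_second hX hqN hqe
    refine homology_clock h (x := x) ?_ hb1x (show 1 + 2 * b2 = x * x by rw [hb2]; field_simp; ring) (hu ▸ hf)
    rw [hm']
    fin_cases m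
    · exact absurd rfl hm0
    · exact Or.inl (pw_one_val ω)
    · exact Or.inr (by simp [pw, pow_two])

end Cfsg.Agent.Classical.TriFrame
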