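/-
Subgroups of degree three containing the Hessian group with small centralisers of the frame, characteristic at
least seven.
-/
import Cfsg.Agent.Lib.Classical.TriFrame.Pair
import Cfsg.Agent.Lib.Classical.UThree.Hess

set_option autoImplicit false
set_option linter.unusedSectionVars false
set_option linter.style.haveILetI false

namespace Cfsg.Agent.Classical.TriFrame

open Matrix Kronecker Cfsg.Geo
open Cfsg.Agent.Classical
open Cfsg.Agent.Classical.LinThree.Hess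

universe u

variable {F : Type u} [Field F] [Fintype F] {ω : F} {H : Subgroup (GL (Fin 3) F)}

/-- The group contains the Hessian group and meets the centralisers of the frame in its normaliser only. -/
structure HessHyp (ω : F) (H : Subgroup (GL (Fin 3) F)) : Prop where
  om : Om ω
  rms : ∀ e, ∃ g ∈ H, (g : Matrix (Fin 3) (Fin 3) F) = rm ω e
  sc : ∀ c, ∃ g ∈ H, (g : Matrix (Fin 3) (Fin 3) F) = pw ω c • (1 : Matrix (Fin 3) (Fin 3) F)
  turn : ∀ k, ∃ g ∈ H, (g : Matrix (Fin 3) (Fin 3) F) = qm ω k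
  small : ∀ s ∈ H, ∀ (e : Fin 3 × Fin 3) (c : F), e ≠ 0 →
    (s : Matrix (Fin 3) (Fin 3) F) * rm ω e = c • (rm ω e * (s : Matrix (Fin 3) (Fin 3) F)) →
    ∃ f, Acts3 ω (s : Matrix (Fin 3) (Fin 3) F) f

theorem HessHyp.tms (hH : HessHyp ω H) (e : Fin 3 × Fin 3) :
    ∃ g ∈ H, (g : Matrix (Fin 3) (Fin 3) F) = Tm ω e := by
  have h := hH.om
  obtain ⟨q, hq, hqe⟩ := hH.turn 0
  obtain ⟨r, hr, hre⟩ := hH.rms e
  refine ⟨r * (q * q) * r⁻¹, H.mul_mem (H.mul_mem hr (H.mul_mem hq hq)) (H.inv_mem hr), ?_⟩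
  rw [Units.val_mul, Units.val_mul, Units.val_mul, hre, hqe, qm_sq h, ← Tm_mul_rm h, add_zero, Matrix.mul_assoc,
    ← hre, ← Units.val_mul, mul_inv_cancel, Units.val_one, Matrix.mul_one]

theorem four_ix : ∀ e : Fin 3 × Fin 3, e + e + (e + e) = e := by decide +kernel

theorem rm_inj (h : Om ω) {a b : Fin 3 × Fin 3} {c : F} (e : rm ω a = c • rm ω b) : a = b :=
  congrArg Prod.snd (W_inj h (a := ((0, a) : Ix)) (b := (0, b)) (c := c) (by rw [W, W, e, kronecker_smul]))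

theorem tm_rm (h : Om ω) : ∀ e : Fin 3 × Fin 3, ∃ c : F, c ≠ 0 ∧ Tm ω e = c • (rm ω (e + e) * Tm ω 0) := by
  intro e
  obtain ⟨c, hc⟩ := Tm_zero_rm h (-e)
  rw [neg_neg] at hc
  refine ⟨pw ω c * pw ω (e.2 * e.1) * (pw ω (e.2 * (-e).1))⁻¹, mul_ne_zero (mul_ne_zero (pw_ne_zero h _)
    (pw_ne_zero h _)) (inv_ne_zero (pw_ne_zero h _)), ?_⟩
  have e1 := Tm_mul_rm h e 0
  rw [add_zero] at e1
  have e2 := congrArg (fun M => M * rm ω (-e)) e1
  simp only [Matrix.mul_assoc, rm_mul h, add_neg_cancel, rm_zero, hc, Matrix.mul_smul, Matrix.mul_one] at e2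
  rw [← Matrix.mul_assoc, rm_mul h, Matrix.smul_mul, smul_smul] at e2
  calc Tm ω e = (pw ω (e.2 * (-e).1))⁻¹ • (pw ω (e.2 * (-e).1) • Tm ω e) := by
        rw [inv_smul_smul₀ (pw_ne_zero h _)]
    _ = _ := by rw [e2, smul_smul, mul_comm]

/-- Permuting the involutions means normalising the frame. -/
theorem acts_of_perm (h : Om ω) {y : Matrix (Fin 3) (Fin 3) F} (hperm : ∀ e, ∃ f, y * Tm ω e = Tm ω f * y) :
    ∃ f, Acts3 ω y f := by
  have hex : ∀ e, ∃ v, ∃ c : F, c ≠ 0 ∧ y * rm ω e = c • (rm ω v * y) := by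
    intro e
    obtain ⟨c1, hc1, he1⟩ := tm_rm h (e + e)
    rw [four_ix] at he1
    obtain ⟨v1, hv1⟩ := hperm (e + e)
    obtain ⟨v0, hv0⟩ := hperm 0
    obtain ⟨d1, hd1, hv1'⟩ := tm_rm h v1
    obtain ⟨d0, hd0, hv0'⟩ := tm_rm h v0
    obtain ⟨k, hk⟩ := Tm_zero_rm h (v0 + v0)
    refine ⟨(v1 + v1) + -(v0 + v0), c1⁻¹ * (d1 * d0) * (pw ω k * pw ω ((v1 + v1).2 * (-(v0 + v0)).1)),
      mul_ne_zero (mul_ne_zero (inv_ne_zero hc1) (mul_ne_zero hd1 hd0)) (mul_ne_zero (pw_ne_zero h _)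
        (pw_ne_zero h _)), ?_⟩
    have hrm : rm ω e = c1⁻¹ • (Tm ω (e + e) * Tm ω 0) := by
      rw [he1, Matrix.smul_mul, Matrix.mul_assoc, Tm_mul_self h, Matrix.mul_one, smul_smul, inv_mul_cancel₀ hc1,
        one_smul]
    rw [hrm, Matrix.mul_smul, ← Matrix.mul_assoc, hv1, Matrix.mul_assoc, hv0, hv1', hv0']
    simp only [Matrix.smul_mul, Matrix.mul_smul, smul_smul, ← Matrix.mul_assoc]
    rw [Matrix.mul_assoc (rm ω (v1 + v1)) (Tm ω 0), hk]
    simp only [Matrix.smul_mul, Matrix.mul_smul, smul_smul, ← Matrix.mul_assoc]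
    rw [Matrix.mul_assoc _ (Tm ω 0) (Tm ω 0), Tm_mul_self h, Matrix.mul_one, rm_mul h, Matrix.smul_mul, smul_smul]
    ring_nf
  choose v c hc0 hc using hex
  exact ⟨v, fun e => ⟨c e, hc0 e, hc e⟩⟩

theorem linear_invol : ∀ u v : Fin 3 × Fin 3, sg3 u v = sg3 (1, 0) (0, 1) →
    (∀ a b : Fin 3, lin2 u v (lin2 u v (a, b)) = (a, b)) →
    (∀ a b : Fin 3, lin2 u v (a, b) = (a, b)) ∨ (∀ a b : Fin 3, lin2 u v (a, b) = -(a, b)) := by
  decide +kernel

/-- A group of frame normalisers holding the involutions is normalised by frame normalisers only. -/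
theorem acts_of_normal (hH : HessHyp ω H) {K : Subgroup (GL (Fin 3) F)}
    (hK : ∀ x ∈ K, ∃ f, Acts3 ω (x : Matrix (Fin 3) (Fin 3) F) f) {h : GL (Fin 3) F}
    (hn : ∀ e, ∀ g : GL (Fin 3) F, (g : Matrix (Fin 3) (Fin 3) F) = Tm ω e → h * g * h⁻¹ ∈ K) :
    ∃ f, Acts3 ω (h : Matrix (Fin 3) (Fin 3) F) f := by
  have hω := hH.om
  have key : ∀ e, ∃ (c : F) (b : Fin 3 × Fin 3), c ≠ 0 ∧
      (h : Matrix (Fin 3) (Fin 3) F) * Tm ω e = c • (Tm ω 0 * rm ω b * (h : Matrix (Fin 3) (Fin 3) F)) := by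
    intro e
    obtain ⟨t, -, ht⟩ := hH.tms e
    obtain ⟨t0, -, ht0⟩ := hH.tms 0
    obtain ⟨x, hx⟩ : ∃ x, x = h * t * h⁻¹ := ⟨_, rfl⟩
    obtain ⟨f, hf⟩ := hK x (hx ▸ hn e t ht)
    have hxu := x.isUnit
    have hlin := eq_lin2 (hf.add hω hxu)
    have ht2 : t * t = 1 := Units.ext (by rw [Units.val_mul, ht, Tm_mul_self hω, Units.val_one])
    have hx2 : x * x = 1 := by
      rw [hx, show h * t * h⁻¹ * (h * t * h⁻¹) = h * (t * t) * h⁻¹ by group, ht2, mul_one, mul_inv_cancel]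
    have hff : ∀ a, f (f a) = a := fun a => by
      obtain ⟨c, hc0, hc⟩ := (hf.mul hf) a
      rw [← Units.val_mul, hx2, Units.val_one, Matrix.one_mul, Matrix.mul_one, Function.comp_apply] at hc
      exact (rm_inj hω hc).symm
    have hcase := linear_invol _ _ (hf.pres hω hxu _ _) (by rw [← hlin]; exact fun a b => hff (a, b))
    rw [← hlin] at hcase
    rcases hcase with hid | hneg
    · exfalso
      obtain ⟨c, b, hc0, hcb⟩ := rm_of_twisted hω x.ne_zero fun a => by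
        obtain ⟨c, -, hc⟩ := hf a
        exact ⟨c, by rw [hid a.1 a.2] at hc; exact hc⟩
      have e2 : (c * c * pw ω (b.2 * b.1)) • rm ω (b + b) = (1 : F) • rm ω 0 := by
        rw [← smul_smul, ← rm_mul hω, ← smul_smul, ← Matrix.mul_smul, ← Matrix.smul_mul, ← hcb, ← Units.val_mul, hx2,
          Units.val_one, one_smul, rm_zero]
      have hbb : b + b = 0 := by
        refine rm_inj hω (c := (c * c * pw ω (b.2 * b.1))⁻¹) ?_
        rw [one_smul] at e2
        rw [← e2, smul_smul, inv_mul_cancel₀ (mul_ne_zero (mul_ne_zero hc0 hc0) (pw_ne_zero hω _)), one_smul]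
      have hb : b = 0 := (show ∀ b : Fin 3 × Fin 3, b + b = 0 → b = 0 by decide) b hbb
      rw [hb, rm_zero] at hcb
      have ht1 : (t : Matrix (Fin 3) (Fin 3) F) = c • (1 : Matrix (Fin 3) (Fin 3) F) := by
        rw [show t = h⁻¹ * x * h by rw [hx]; group, Units.val_mul, Units.val_mul, hcb, Matrix.mul_smul, Matrix.mul_one,
          Matrix.smul_mul, ← Units.val_mul, inv_mul_cancel, Units.val_one]
      rw [ht] at ht1
      obtain ⟨d, hd0, hd⟩ := tm_rm hω e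
      obtain ⟨d', hd'⟩ := Tm_zero_rm hω (1, 0)
      have hcomm : Tm ω e * rm ω (1, 0) = rm ω (1, 0) * Tm ω e := by
        rw [ht1, Matrix.smul_mul, Matrix.one_mul, Matrix.mul_smul, Matrix.mul_one]
      rw [hd, Matrix.smul_mul, Matrix.mul_assoc, hd', Matrix.mul_smul, ← Matrix.mul_assoc, rm_mul hω, Matrix.mul_smul,
        ← Matrix.mul_assoc (rm ω (1, 0)), rm_mul hω, Matrix.smul_mul, Matrix.smul_mul, smul_smul, smul_smul,
        smul_smul, ← Matrix.smul_mul, ← Matrix.smul_mul] at hcomm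
      have e3 := (show IsUnit (Tm ω 0) from ht0 ▸ t0.isUnit).mul_right_cancel hcomm
      have h4 : d * pw ω d' * pw ω ((e + e).2 * (-((1 : Fin 3), (0 : Fin 3))).1) ≠ 0 :=
        mul_ne_zero (mul_ne_zero hd0 (pw_ne_zero hω _)) (pw_ne_zero hω _)
      have h5 := congrArg (fun M => (d * pw ω d' * pw ω ((e + e).2 * (-((1 : Fin 3), (0 : Fin 3))).1))⁻¹ • M) e3
      simp only [smul_smul, inv_mul_cancel₀ h4, one_smul] at h5
      exact (show ∀ a : Fin 3 × Fin 3, a + -((1 : Fin 3), (0 : Fin 3)) ≠ (1, 0) + a by decide) _ (rm_inj hω h5)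
    · obtain ⟨c, b, hc0, hcb⟩ := rm_of_twisted hω (t0 * x).ne_zero fun a => by
        obtain ⟨c, -, hc⟩ := hf a
        obtain ⟨d, hd⟩ := Tm_zero_rm hω (-a)
        rw [hneg a.1 a.2] at hc
        rw [neg_neg] at hd
        refine ⟨c * pw ω d, ?_⟩
        rw [Units.val_mul, ht0, Matrix.mul_assoc, hc, Matrix.mul_smul, ← Matrix.mul_assoc, hd, Matrix.smul_mul,
          smul_smul, Matrix.mul_assoc]
      refine ⟨c, b, hc0, ?_⟩
      rw [Units.val_mul, ht0] at hcb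
      have e1 := congrArg (fun M => Tm ω 0 * M * (h : Matrix (Fin 3) (Fin 3) F)) hcb
      simp only [← Matrix.mul_assoc, Tm_mul_self hω, Matrix.one_mul, Matrix.mul_smul, Matrix.smul_mul] at e1
      rw [← e1, hx, ← ht, ← Units.val_mul, ← Units.val_mul, inv_mul_cancel_right]
  have hex : ∀ e, ∃ v, ∃ c : F, c ≠ 0 ∧
      (h : Matrix (Fin 3) (Fin 3) F) * rm ω e = c • (rm ω v * (h : Matrix (Fin 3) (Fin 3) F)) := by
    intro e
    obtain ⟨c1, hc1, he1⟩ := tm_rm hω (e + e)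
    rw [four_ix] at he1
    obtain ⟨a1, b1, ha1, hb1⟩ := key (e + e)
    obtain ⟨a0, b0, ha0, hb0⟩ := key 0
    obtain ⟨d, hd⟩ := Tm_zero_rm hω b1
    refine ⟨-b1 + b0, c1⁻¹ * (a1 * a0) * (pw ω d * pw ω ((-b1).2 * b0.1)), mul_ne_zero (mul_ne_zero (inv_ne_zero hc1)
      (mul_ne_zero ha1 ha0)) (mul_ne_zero (pw_ne_zero hω _) (pw_ne_zero hω _)), ?_⟩
    have hrm : rm ω e = c1⁻¹ • (Tm ω (e + e) * Tm ω 0) := by
      rw [he1, Matrix.smul_mul, Matrix.mul_assoc, Tm_mul_self hω, Matrix.mul_one, smul_smul, inv_mul_cancel₀ hc1,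
        one_smul]
    rw [hrm, Matrix.mul_smul, ← Matrix.mul_assoc, hb1, Matrix.smul_mul, Matrix.mul_assoc (Tm ω 0 * rm ω b1), hb0,
      Matrix.mul_smul, ← Matrix.mul_assoc, ← Matrix.mul_assoc, hd]
    simp only [Matrix.smul_mul, smul_smul, Matrix.mul_assoc]
    rw [← Matrix.mul_assoc (Tm ω 0) (Tm ω 0), Tm_mul_self hω, Matrix.one_mul, ← Matrix.mul_assoc, rm_mul hω,
      Matrix.smul_mul, smul_smul]
    ring_nf
  choose v c hc0 hc using hex
  exact ⟨v, fun e => ⟨c e, hc0 e, hc e⟩⟩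

theorem no_diag (hH : HessHyp ω H) (h2 : (2 : F) ≠ 0) {d : GL (Fin 3) F} (hd : d ∈ H)
    (hde : (d : Matrix (Fin 3) (Fin 3) F) = Matrix.diagonal ![-1, -1, 1]) : False := by
  have h := hH.om
  obtain ⟨f, hf⟩ := hH.small d hd (0, 1) 1 (by decide) (by
    rw [hde, one_smul]
    ext i j
    fin_cases i <;> fin_cases j <;> simp [rm, mono, Matrix.mul_apply, Fin.sum_univ_three, pw, fin_three_facts])
  obtain ⟨c, hc0, hc⟩ := hf (1, 0)
  rw [hde] at hc
  have a1 := congrFun (congrFun hc 1) 0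
  have a2 := congrFun (congrFun hc 2) 1
  have a3 := congrFun (congrFun hc 0) 2
  have hr := h.root
  have h3 := h.cube
  have h33 := h.three
  generalize f (1, 0) = u at hc a1 a2 a3
  obtain ⟨u1, u2⟩ := u
  fin_cases u1 <;> fin_cases u2 <;>
    simp [rm, mono, Matrix.mul_apply, Fin.sum_univ_three, pw, fin_three_facts] at a1 a2 a3 ⊢ <;> grind

/-- **The linear case.** -/
theorem hess_linear {p : ℕ} [Fact p.Prime] [CharP F p] (hF : Fintype.card F = p) (h7 : 7 ≤ p) (hH : HessHyp ω H) :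
    ∀ s ∈ H, ∃ f, Acts3 ω (s : Matrix (Fin 3) (Fin 3) F) f := by
  classical
  have h := hH.om
  obtain ⟨G, hG⟩ : ∃ G : Subgroup (Matrix.SpecialLinearGroup (Fin 3) F), G = H.comap Matrix.SpecialLinearGroup.toGL :=
    ⟨_, rfl⟩
  have hin : ∀ (M : Matrix (Fin 3) (Fin 3) F) (hM : M.det = 1), (∃ g ∈ H, (g : Matrix (Fin 3) (Fin 3) F) = M) →
      ∃ g ∈ G, g.1 = M := by
    rintro M hM ⟨g, hg, e⟩
    obtain ⟨D, hD⟩ : ∃ D : Matrix.SpecialLinearGroup (Fin 3) F, D.1 = M := ⟨⟨M, hM⟩, rfl⟩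
    refine ⟨D, ?_, hD⟩
    rw [hG, Subgroup.mem_comap]
    convert hg
    exact Units.ext (hD.trans e.symm)
  have h2 : (2 : F) ≠ 0 := fun e => by
    have := (CharP.cast_eq_zero_iff F p 2).mp (by exact_mod_cast e)
    have := Nat.le_of_dvd (by norm_num) this
    omega
  rcases permutes_or_top hF h7 h G (fun e => hin _ (det_rm h e) (hH.rms e))
      (hin _ (by rw [Matrix.det_smul, Matrix.det_one, Fintype.card_fin, mul_one, pw_one_val, pow_succ, pow_two, h.cube]) (hH.sc 1))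
      (fun e => hin _ (det_Tm h e) (hH.tms e)) (fun k => hin _ (det_qm h k) (hH.turn k)) with hperm | htop
  · intro s hs
    obtain ⟨K, hK⟩ : ∃ K : Subgroup (GL (Fin 3) F), K = G.map Matrix.SpecialLinearGroup.toGL := ⟨_, rfl⟩
    refine acts_of_normal hH (K := K) (fun x hx => ?_) (h := s) fun e g hg => ?_
    · obtain ⟨y, hy, rfl⟩ := hK ▸ hx
      exact acts_of_perm h (hperm y hy)
    · rw [hK]
      refine ⟨⟨((s * g * s⁻¹ : GL (Fin 3) F) : Matrix (Fin 3) (Fin 3) F), ?_⟩, ?_, Units.ext rfl⟩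
      · rw [Units.val_mul, Units.val_mul, Matrix.det_units_conj, hg, det_Tm h]
      · rw [hG]
        show Matrix.SpecialLinearGroup.toGL _ ∈ H
        obtain ⟨g', hg', e'⟩ := hH.tms e
        convert H.mul_mem (H.mul_mem hs (show g ∈ H from Units.ext (e'.trans hg.symm) ▸ hg')) (H.inv_mem hs)
        exact Units.ext rfl
  · exfalso
    obtain ⟨d, hd⟩ : ∃ d : Matrix.SpecialLinearGroup (Fin 3) F, d.1 = Matrix.diagonal ![-1, -1, 1] :=
      ⟨⟨Matrix.diagonal ![-1, -1, 1], by rw [Matrix.det_diagonal]; simp [Fin.prod_univ_three]⟩, rfl⟩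
    have : d ∈ G := htop ▸ Subgroup.mem_top d
    rw [hG] at this
    exact no_diag hH h2 this hd

/-- **The unitary case.** -/
theorem hess_unitary {p : ℕ} [Fact p.Prime] [CharP F p] {σ : F ≃+* F} (hσ : IsUSigma p σ) (h7 : 7 ≤ p)
    (hH : HessHyp ω H) (hU : H ≤ GU 3 F p) : ∀ s ∈ H, ∃ f, Acts3 ω (s : Matrix (Fin 3) (Fin 3) F) f := by
  classical
  have h := hH.om
  obtain ⟨K, hK⟩ : ∃ K : Subgroup (GL (Fin 3) F), K = H ⊓ specialLinear (Fin 3) F := ⟨_, rfl⟩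
  have hin : ∀ (M : Matrix (Fin 3) (Fin 3) F), M.det = 1 → (∃ g ∈ H, (g : Matrix (Fin 3) (Fin 3) F) = M) →
      ∃ g ∈ K, (g : Matrix (Fin 3) (Fin 3) F) = M := by
    rintro M hM ⟨g, hg, e⟩
    exact ⟨g, hK ▸ ⟨hg, mem_specialLinear_iff.mpr (e ▸ hM)⟩, e⟩
  have hKS : K ≤ suGL 3 F p := fun g hg => by
    rw [hK] at hg
    exact ⟨hU hg.1, hg.2⟩
  have h2 : (2 : F) ≠ 0 := fun e => by
    have := (CharP.cast_eq_zero_iff F p 2).mp (by exact_mod_cast e)
    have := Nat.le_of_dvd (by norm_num) this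
    omega
  rcases UThree.Hess.permutes_or_top hσ rfl h7 h hKS (fun e => hin _ (det_rm h e) (hH.rms e))
      (hin _ (by rw [Matrix.det_smul, Matrix.det_one, Fintype.card_fin, mul_one, pw_one_val, pow_succ, pow_two, h.cube]) (hH.sc 1))
      (fun e => hin _ (det_Tm h e) (hH.tms e)) (fun k => hin _ (det_qm h k) (hH.turn k)) with hperm | htop
  · intro s hs
    refine acts_of_normal hH (K := K) (fun x hx => acts_of_perm h (fun e => hperm x hx e)) (h := s) fun e g hg => ?_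
    rw [hK]
    obtain ⟨g', hg', e'⟩ := hH.tms e
    refine ⟨H.mul_mem (H.mul_mem hs (show g ∈ H from Units.ext (e'.trans hg.symm) ▸ hg')) (H.inv_mem hs),
      mem_specialLinear_iff.mpr ?_⟩
    rw [Units.val_mul, Units.val_mul, Matrix.det_units_conj, hg, det_Tm h]
  · exfalso
    obtain ⟨d, hd⟩ : ∃ d : GL (Fin 3) F, (d : Matrix (Fin 3) (Fin 3) F) = Matrix.diagonal ![-1, -1, 1] :=
      ⟨GeneralLinearGroup.mkOfDetNeZero (Matrix.diagonal ![-1, -1, 1]) (by simp [Fin.prod_univ_three]), rfl⟩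
    have hdK : d ∈ K := htop ⟨mem_GU_iff.mpr fun x y => by
        simp only [hσ.hermForm_eq, hd, Fin.sum_univ_three, Matrix.mulVec_diagonal]
        simp, mem_specialLinear_iff.mpr (by rw [hd]; simp [Fin.prod_univ_three])⟩
    rw [hK] at hdK
    exact no_diag hH h2 hdK.1 hd

end Cfsg.Agent.Classical.TriFrame
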