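/-
A small centraliser of the central involution makes the group normalise the small frame.
-/
import Cfsg.Agent.Lib.Classical.TriFrame.HessBig
import Cfsg.Agent.Lib.Classical.TriFrame.Coprime
import Cfsg.Agent.Lib.Char.ZStar

set_option autoImplicit false
set_option linter.unusedSectionVars false
set_option linter.style.haveILetI false

namespace Cfsg.Agent.Classical.TriFrame

open Matrix Cfsg
open Cfsg.Agent.Classical.LinThree.Hess

universe u

variable {F : Type u} [Field F] [Fintype F] {ω : F} {H : Subgroup (GL (Fin 3) F)}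

theorem act_trans : ∀ e e' : Fin 3 × Fin 3, e ≠ 0 → e' ≠ 0 →
    ∃ w : Option (Fin 3) × Option (Fin 3) × Option (Fin 3), e' = Cf w.1 (Cf w.2.1 (Cf w.2.2 e)) := by
  decide +kernel

theorem act_four : ∀ k k' : Fin 3, ∀ a b : Fin 3,
    act k' (act k' (act k' (act k' (a, b)))) = (a, b) ∧
    (let φ := fun e => act k' (act k (act k (act k e))); φ (φ (φ (φ (a, b)))) = (a, b)) ∧
    (let φ := fun e => -act k' (act k (act k (act k e))); φ (φ (φ (φ (a, b)))) = (a, b)) := by
  decide +kernel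

theorem commutant_act : ∀ u v : Fin 3 × Fin 3, sg3 u v = sg3 (1, 0) (0, 1) →
    (∀ k, ∀ a b : Fin 3, lin2 u v (act k (a, b)) = act k (lin2 u v (a, b))) →
    (∀ a b : Fin 3, lin2 u v (a, b) = (a, b)) ∨ (∀ a b : Fin 3, lin2 u v (a, b) = -(a, b)) := by
  decide +kernel

theorem unique3 (h : Om ω) {y : GL (Fin 3) F} {f f' : Fin 3 × Fin 3 → Fin 3 × Fin 3}
    (hf : Acts3 ω (y : Matrix (Fin 3) (Fin 3) F) f) (hf' : Acts3 ω (y : Matrix (Fin 3) (Fin 3) F) f') : f = f' := by
  funext e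
  obtain ⟨c, hc0, hc⟩ := hf e
  obtain ⟨d, hd0, hd⟩ := hf' e
  rw [hc, ← Matrix.smul_mul, ← Matrix.smul_mul] at hd
  refine rm_inj h (c := c⁻¹ * d) ?_
  rw [← smul_smul, ← y.isUnit.mul_right_cancel hd, smul_smul, inv_mul_cancel₀ hc0, one_smul]

theorem acts3_pow {y : GL (Fin 3) F} {f : Fin 3 × Fin 3 → Fin 3 × Fin 3}
    (hf : Acts3 ω (y : Matrix (Fin 3) (Fin 3) F) f) (n : ℕ) :
    Acts3 ω ((y ^ n : GL (Fin 3) F) : Matrix (Fin 3) (Fin 3) F) f^[n] := by
  induction n with
  | zero => rw [pow_zero, Units.val_one]; exact Acts3.one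
  | succ n ih => rw [pow_succ, Units.val_mul, Function.iterate_succ]; exact ih.mul hf

theorem acts3_smul {M : Matrix (Fin 3) (Fin 3) F} {f : Fin 3 × Fin 3 → Fin 3 × Fin 3} (hf : Acts3 ω M f) (c : F) :
    Acts3 ω (c • M) f := fun e => by
  obtain ⟨d, hd0, hd⟩ := hf e
  exact ⟨d, hd0, by rw [Matrix.smul_mul, hd, Matrix.mul_smul, smul_comm]⟩

theorem trace_Tm0 : (Tm ω 0).trace = -1 := by
  simp [Tm, mono, Matrix.trace_fin_three, pw_zero, fin_three_facts]

/-- The elements normalising the small frame. -/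
def N3 (ω : F) (H : Subgroup (GL (Fin 3) F)) : Subgroup H where
  carrier := {y | ∃ f, Acts3 ω ((y : GL (Fin 3) F) : Matrix (Fin 3) (Fin 3) F) f}
  one_mem' := ⟨id, by rw [OneMemClass.coe_one, Units.val_one]; exact Acts3.one⟩
  mul_mem' := by
    rintro a b ⟨f, hf⟩ ⟨f', hf'⟩
    exact ⟨_, by rw [Subgroup.coe_mul, Units.val_mul]; exact hf.mul hf'⟩
  inv_mem' := by
    rintro a ⟨f, hf⟩
    refine ⟨f^[orderOf a - 1], ?_⟩
    rw [show a⁻¹ = a ^ (orderOf a - 1) from inv_eq_of_mul_eq_one_right (by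
      rw [← pow_succ', Nat.sub_add_cancel (orderOf_pos a), pow_orderOf_eq_one]), SubgroupClass.coe_pow]
    exact acts3_pow hf _

variable {K : Type u} [Group K] [Finite K] {π : H →* K}

/-- **Isolation.** -/
theorem hess_abstract (hH : HessHyp ω H)
    (hcent : ∀ s ∈ H, (s : Matrix (Fin 3) (Fin 3) F) * Tm ω 0 = Tm ω 0 * (s : Matrix (Fin 3) (Fin 3) F) →
      ∃ f, Acts3 ω (s : Matrix (Fin 3) (Fin 3) F) f)
    (hπ : Function.Surjective π)
    (hker : ∀ a b : H, π a = π b ↔ ∃ c : F, c ≠ 0 ∧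
      ((a : GL (Fin 3) F) : Matrix (Fin 3) (Fin 3) F) = c • ((b : GL (Fin 3) F) : Matrix (Fin 3) (Fin 3) F)) :
    ∀ s ∈ H, ∃ f, Acts3 ω (s : Matrix (Fin 3) (Fin 3) F) f := by
  classical
  have h := hH.om
  haveI : Fact (Nat.Prime 2) := ⟨Nat.prime_two⟩
  haveI : Fact (Nat.Prime 3) := ⟨Nat.prime_three⟩
  -- the frame, the involution and the quarter turns
  obtain ⟨R, hR⟩ : ∃ R : Fin 3 × Fin 3 → H, ∀ e, ((R e : GL (Fin 3) F) : Matrix (Fin 3) (Fin 3) F) = rm ω e := by
    choose r hr hre using hH.rms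
    exact ⟨fun e => ⟨r e, hr e⟩, hre⟩
  obtain ⟨T, hT⟩ : ∃ T : H, ((T : GL (Fin 3) F) : Matrix (Fin 3) (Fin 3) F) = Tm ω 0 :=
    let ⟨g, hg, e⟩ := hH.tms 0; ⟨⟨g, hg⟩, e⟩
  obtain ⟨Q, hQ⟩ : ∃ Q : Fin 3 → H, ∀ k, ((Q k : GL (Fin 3) F) : Matrix (Fin 3) (Fin 3) F) = qm ω k := by
    choose r hr hre using hH.turn
    exact ⟨fun k => ⟨r k, hr k⟩, hre⟩
  obtain ⟨ε, hε⟩ : ∃ ε : Fin 3 × Fin 3 → K, ∀ e, ε e = π (R e) := ⟨_, fun _ => rfl⟩
  obtain ⟨τ, hτ⟩ : ∃ τ, τ = π T := ⟨_, rfl⟩
  have hRa : ∀ b, Acts3 ω ((R b : GL (Fin 3) F) : Matrix (Fin 3) (Fin 3) F) id := fun b e => by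
    refine ⟨pw ω (b.2 * e.1) * (pw ω (e.2 * b.1))⁻¹, mul_ne_zero (pw_ne_zero h _) (inv_ne_zero (pw_ne_zero h _)), ?_⟩
    rw [hR, id, rm_mul h, rm_mul h, add_comm, smul_smul, mul_assoc, inv_mul_cancel₀ (pw_ne_zero h _), mul_one]
  have hTa : Acts3 ω ((T : GL (Fin 3) F) : Matrix (Fin 3) (Fin 3) F) fun e => -e := fun e => by
    obtain ⟨d, hd⟩ := Tm_zero_rm h e
    exact ⟨pw ω d, pw_ne_zero h d, by rw [hT, hd]⟩
  -- equal images
  have hsame : ∀ {a b : H} {f f' : Fin 3 × Fin 3 → Fin 3 × Fin 3}, π a = π b →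
      Acts3 ω ((a : GL (Fin 3) F) : Matrix (Fin 3) (Fin 3) F) f →
      Acts3 ω ((b : GL (Fin 3) F) : Matrix (Fin 3) (Fin 3) F) f' → f = f' := by
    intro a b f f' e hf hf'
    obtain ⟨c, -, hc⟩ := (hker _ _).mp e
    exact unique3 h hf (hc ▸ acts3_smul hf' c)
  have hεadd : ∀ a b, ε a * ε b = ε (a + b) := fun a b => by
    rw [hε, hε, hε, ← map_mul, hker]
    exact ⟨pw ω (a.2 * b.1), pw_ne_zero h _, by rw [Subgroup.coe_mul, Units.val_mul, hR, hR, hR, rm_mul h]⟩
  have hε0 : ε 0 = 1 := by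
    rw [hε, ← map_one π, hker]
    exact ⟨1, one_ne_zero, by rw [one_smul, hR, rm_zero, OneMemClass.coe_one, Units.val_one]⟩
  have hεinj : ∀ {a b}, ε a = ε b → a = b := fun {a b} e => by
    rw [hε, hε, hker] at e
    obtain ⟨c, -, hc⟩ := e
    rw [hR, hR] at hc
    exact rm_inj h hc
  -- conjugates of the frame
  have hconj : ∀ {y : H} {f : Fin 3 × Fin 3 → Fin 3 × Fin 3},
      Acts3 ω ((y : GL (Fin 3) F) : Matrix (Fin 3) (Fin 3) F) f → ∀ e, π y * ε e * (π y)⁻¹ = ε (f e) := by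
    intro y f hf e
    rw [mul_inv_eq_iff_eq_mul, hε, hε, ← map_mul, ← map_mul, hker]
    obtain ⟨c, hc0, hc⟩ := hf e
    exact ⟨c, hc0, by rw [Subgroup.coe_mul, Units.val_mul, Subgroup.coe_mul, Units.val_mul, hR, hR, hc]⟩
  -- lifting elements centralising the involution
  have hliftT : ∀ {y : H}, π y * τ = τ * π y →
      ((y : GL (Fin 3) F) : Matrix (Fin 3) (Fin 3) F) * Tm ω 0 = Tm ω 0 * ((y : GL (Fin 3) F) : Matrix (Fin 3) (Fin 3) F) := by
    intro y e
    rw [hτ, ← map_mul, ← map_mul, hker] at e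
    obtain ⟨c, hc0, hc⟩ := e
    rw [Subgroup.coe_mul, Units.val_mul, Subgroup.coe_mul, Units.val_mul, hT] at hc
    have t := congrArg (fun M => (M * (((y : GL (Fin 3) F)⁻¹ : GL (Fin 3) F) : Matrix (Fin 3) (Fin 3) F)).trace) hc
    simp only [Matrix.smul_mul, Matrix.trace_smul, smul_eq_mul] at t
    rw [Matrix.mul_assoc (Tm ω 0), ← Units.val_mul, mul_inv_cancel, Units.val_one, Matrix.mul_one,
      Matrix.trace_units_conj, trace_Tm0] at t
    rw [hc, show c = 1 by linear_combination t, one_smul]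
  have hinvol : ∀ x : K, x * x = 1 → Commute τ x → x = 1 ∨ x = τ := by
    intro x hx hxc
    obtain ⟨y, rfl⟩ := hπ x
    have hyT := hliftT hxc.eq.symm
    obtain ⟨f, hf⟩ := hcent y y.2 hyT
    have hlin := eq_lin2 (hf.add h (y : GL (Fin 3) F).isUnit)
    have hff : f ∘ f = id := hsame (a := y * y) (b := 1) (by rw [map_mul, hx, map_one])
      (by rw [Subgroup.coe_mul, Units.val_mul]; exact hf.mul hf) (by rw [OneMemClass.coe_one, Units.val_one]; exact Acts3.one)
    have hcase := linear_invol _ _ (hf.pres h (y : GL (Fin 3) F).isUnit _ _)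
      (by rw [← hlin]; exact fun a b => congrFun hff (a, b))
    rw [← hlin] at hcase
    have hid : ∀ {y : H}, Acts3 ω ((y : GL (Fin 3) F) : Matrix (Fin 3) (Fin 3) F) id →
        ((y : GL (Fin 3) F) : Matrix (Fin 3) (Fin 3) F) * Tm ω 0 = Tm ω 0 * ((y : GL (Fin 3) F) : Matrix (Fin 3) (Fin 3) F) →
        π y = 1 := by
      intro y hy hyT
      obtain ⟨c, b, hc0, hb⟩ := rm_of_twisted h (y : GL (Fin 3) F).ne_zero fun e => by
        obtain ⟨c, -, hc⟩ := hy e
        exact ⟨c, hc⟩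
      obtain ⟨d, hd⟩ := Tm_zero_rm h b
      rw [hb, Matrix.smul_mul, Matrix.mul_smul, hd, ← smul_comm (pw ω d), ← Matrix.smul_mul, ← Matrix.smul_mul,
        ← Matrix.smul_mul, smul_smul] at hyT
      have e := (show IsUnit (Tm ω 0) from hT ▸ (T : GL (Fin 3) F).isUnit).mul_right_cancel hyT
      have hbb : b = -b := rm_inj h (c := c⁻¹ * (pw ω d * c)) (by
        rw [← smul_smul, ← e, smul_smul, inv_mul_cancel₀ hc0, one_smul])
      rw [← map_one π, hker]
      refine ⟨c, hc0, ?_⟩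
      rw [hb, (show ∀ b : Fin 3 × Fin 3, b = -b → b = 0 by decide) b hbb, rm_zero, OneMemClass.coe_one, Units.val_one]
    rcases hcase with e | e
    · exact Or.inl (hid (by convert hf using 1; exact funext fun v => (e v.1 v.2).symm) hyT)
    · refine Or.inr ?_
      have := hid (y := y * T) (by
          rw [Subgroup.coe_mul, Units.val_mul]
          convert hf.mul hTa using 1
          funext v
          show v = f (-v)
          rw [show f (-v) = -(-v) from e (-v).1 (-v).2, neg_neg])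
        (by rw [Subgroup.coe_mul, Units.val_mul, hT, Matrix.mul_assoc, ← Matrix.mul_assoc (Tm ω 0), ← hyT,
          Matrix.mul_assoc])
      rw [map_mul, mul_eq_one_iff_eq_inv] at this
      rw [this, ← hτ]
      refine inv_eq_of_mul_eq_one_right ?_
      rw [hτ, ← map_mul, ← map_one π, hker]
      exact ⟨1, one_ne_zero, by rw [one_smul, Subgroup.coe_mul, Units.val_mul, hT, Tm_mul_self h, OneMemClass.coe_one,
        Units.val_one]⟩
  have hττ : τ * τ = 1 := by
    rw [hτ, ← map_mul, ← map_one π, hker]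
    exact ⟨1, one_ne_zero, by rw [one_smul, Subgroup.coe_mul, Units.val_mul, hT, Tm_mul_self h, OneMemClass.coe_one,
      Units.val_one]⟩
  have hτ1 : τ ≠ 1 := fun e => by
    have := hsame (a := T) (b := 1) (by rw [← hτ, e, map_one]) hTa
      (by rw [OneMemClass.coe_one, Units.val_one]; exact Acts3.one)
    exact absurd (congrFun this (1, 0)) (by decide)
  have hord : orderOf τ = 2 := orderOf_eq_prime (by rw [pow_two, hττ]) hτ1
  -- isolation
  have hcore : ∀ g : K, τ * g * τ⁻¹ * g⁻¹ ∈ oddCore K := by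
    obtain ⟨S, hS⟩ := IsPGroup.exists_le_sylow (P := Subgroup.zpowers τ) (p := 2) (by
      rw [IsPGroup.iff_card]; exact ⟨1, by rw [Nat.card_zpowers, hord, pow_one]⟩)
    have hτS : τ ∈ (S : Subgroup K) := hS (Subgroup.mem_zpowers τ)
    haveI : Nontrivial S :=
      ⟨⟨⟨τ, hτS⟩, 1, fun e => hτ1 (congrArg Subtype.val e)⟩⟩
    haveI := S.2.center_nontrivial
    obtain ⟨z, hz⟩ : ∃ z : Subgroup.center S, orderOf z = 2 := by
      obtain ⟨n, hn⟩ := IsPGroup.iff_card.mp (S.2.to_subgroup (Subgroup.center S))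
      refine exists_prime_orderOf_dvd_card' 2 ?_
      rw [hn]
      refine dvd_pow_self 2 fun q => ?_
      rw [q, pow_zero] at hn
      exact not_subsingleton (Subgroup.center S) (Nat.card_eq_one_iff_unique.mp hn).1
    have hz2 : ((z : S) : K) * ((z : S) : K) = 1 := by
      have e := pow_orderOf_eq_one z
      rw [hz, pow_two] at e
      rw [← Subgroup.coe_mul, ← Subgroup.coe_mul, e, OneMemClass.coe_one, OneMemClass.coe_one]
    have hzc : ∀ g, g ∈ (S : Subgroup K) → Commute g ((z : S) : K) := fun g hg =>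
      congrArg Subtype.val (Subgroup.mem_center_iff.mp z.2 ⟨g, hg⟩)
    have hzτ : ((z : S) : K) = τ := (hinvol _ hz2 (hzc τ hτS)).resolve_left fun e => by
      have : z = 1 := Subtype.ext (Subtype.ext e)
      rw [this, orderOf_one] at hz
      norm_num at hz
    refine Char.zStar (Char.oddInvol_of_isolated_sylow hord hτS fun g hg => ?_)
    refine (hinvol _ ?_ ?_).resolve_left fun e => hτ1 (conj_eq_one_iff.mp e)
    · rw [show g * τ * g⁻¹ * (g * τ * g⁻¹) = g * (τ * τ) * g⁻¹ by group, hττ, mul_one, mul_inv_cancel]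
    · exact hzτ ▸ (hzc _ hg).symm
  -- the odd core
  obtain ⟨O, hO⟩ : ∃ O, O = oddCore K := ⟨_, rfl⟩
  haveI : O.Normal := hO ▸ inferInstance
  have hOodd : Odd (Nat.card O) := hO ▸ Char.card_oddCore_odd K
  obtain ⟨NK, hNK⟩ : ∃ NK, NK = (N3 ω H).map π := ⟨_, rfl⟩
  obtain ⟨E, hE⟩ : ∃ E : Subgroup K, ∀ x, x ∈ E ↔ ∃ e, ε e = x :=
    ⟨{ carrier := Set.range ε
       one_mem' := ⟨0, hε0⟩
       mul_mem' := by rintro _ _ ⟨a, rfl⟩ ⟨b, rfl⟩; exact ⟨a + b, (hεadd a b).symm⟩
       inv_mem' := by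
        rintro _ ⟨a, rfl⟩
        exact ⟨-a, (inv_eq_of_mul_eq_one_right (by rw [hεadd, add_neg_cancel, hε0])).symm⟩ }, fun x => Iff.rfl⟩
  have hεc : ∀ {x e}, e ≠ 0 → x * ε e = ε e * x → x ∈ NK := by
    intro x e he hx
    obtain ⟨y, rfl⟩ := hπ x
    rw [hε, ← map_mul, ← map_mul, hker] at hx
    obtain ⟨c, -, hc⟩ := hx
    rw [Subgroup.coe_mul, Units.val_mul, Subgroup.coe_mul, Units.val_mul, hR] at hc
    rw [hNK]
    exact Subgroup.mem_map_of_mem π (hH.small y y.2 e c he hc)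
  have hQa : ∀ k, Acts3 ω ((Q k : GL (Fin 3) F) : Matrix (Fin 3) (Fin 3) F) (act k) := fun k => by
    rw [hQ]; exact Acts3.qm h k
  have hOc : ∀ {x}, x ∈ O → ∀ g, g * x * g⁻¹ ∈ O := fun {x} hx g => Subgroup.Normal.conj_mem inferInstance x hx g
  have hoddid : ∀ {y : H} {f : Fin 3 × Fin 3 → Fin 3 × Fin 3}, π y ∈ O →
      Acts3 ω ((y : GL (Fin 3) F) : Matrix (Fin 3) (Fin 3) F) f → (∀ v, f (f (f (f v))) = v) → ∀ v, f v = v := by
    intro y f hyO hf h4 v
    have hodd : Odd (orderOf (π y)) := Odd.of_dvd_nat hOodd (Subgroup.orderOf_dvd_natCard O hyO)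
    obtain ⟨n, hn⟩ := hodd
    have e1 : f^[orderOf (π y)] = id := hsame (a := y ^ orderOf (π y)) (b := 1) (by rw [map_pow, pow_orderOf_eq_one, map_one])
      (by rw [SubgroupClass.coe_pow]; exact acts3_pow hf _) (by rw [OneMemClass.coe_one, Units.val_one]; exact Acts3.one)
    have e2 : ∀ m, f^[4 * m] = id := fun m => by
      induction m with
      | zero => rfl
      | succ m ih => funext w; rw [Nat.mul_succ, Function.iterate_add_apply, ih]; exact h4 w
    rcases Nat.even_or_odd' n with ⟨m, hm | hm⟩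
    · have : f^[1] = id := by
        rw [hn, show 2 * n + 1 = 1 + 4 * m by omega, Function.iterate_add, e2] at e1
        exact e1
      exact congrFun this v
    · have e3 : f^[3] = id := by
        rw [hn, show 2 * n + 1 = 3 + 4 * m by omega, Function.iterate_add, e2] at e1
        exact e1
      calc f v = f (f^[3] v) := by rw [e3]; rfl
        _ = v := h4 v
  -- elements of the small part in the core fix the frame
  have hON : ∀ {x}, x ∈ O → x ∈ NK → x ∈ E := by
    intro x hxO hxN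
    obtain ⟨y, ⟨f, hf⟩, rfl⟩ := Subgroup.mem_map.mp (hNK ▸ hxN)
    have hu := (y : GL (Fin 3) F).isUnit
    have hlin := eq_lin2 (hf.add h hu)
    have hfr : ∀ a, ∃ b, f b = a := Finite.injective_iff_surjective.mp fun a b e => hεinj (by
      have := congrArg ε e
      rwa [← hconj hf, ← hconj hf, mul_left_inj, mul_right_inj] at this)
    have hcommk : ∀ k v, f (act k v) = act k (f v) := by
      intro k
      obtain ⟨y', hy'⟩ : ∃ y', y' = y * Q k * y⁻¹ := ⟨_, rfl⟩
      obtain ⟨g, hg⟩ : ∃ g, Acts3 ω ((y' : GL (Fin 3) F) : Matrix (Fin 3) (Fin 3) F) g :=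
        hy' ▸ (N3 ω H).mul_mem ((N3 ω H).mul_mem ⟨_, hf⟩ ⟨_, hQa k⟩) ((N3 ω H).inv_mem ⟨_, hf⟩)
      have hgf : g ∘ f = f ∘ act k := hsame (a := y' * y) (b := y * Q k) (by rw [hy', inv_mul_cancel_right])
        (by rw [Subgroup.coe_mul, Units.val_mul]; exact hg.mul hf)
        (by rw [Subgroup.coe_mul, Units.val_mul]; exact hf.mul (hQa k))
      have hu' := (y' : GL (Fin 3) F).isUnit
      have hglin := eq_lin2 (hg.add h hu')
      have hg2 : ∀ v, g (g v) = -v := fun v => by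
        obtain ⟨w, rfl⟩ := hfr v
        rw [show g (f w) = f (act k w) from congrFun hgf w, show g (f (act k w)) = f (act k (act k w)) from congrFun hgf _,
          (show ∀ k, ∀ w : Fin 3 × Fin 3, act k (act k w) = -w by decide +kernel) k w]
        have h0 : f 0 = 0 := by rw [hlin]; simp [lin2]
        have := hf.add h hu w (-w)
        rw [add_neg_cancel, h0] at this
        exact eq_neg_of_add_eq_zero_right this.symm
      obtain ⟨k', hk'⟩ := order_four _ _ (hg.pres h hu' _ _) (by rw [← hglin]; exact fun a b => hg2 (a, b))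
      rw [← hglin] at hk'
      have hφ : Acts3 ω (((y' * (Q k * Q k * Q k) : H) : GL (Fin 3) F) : Matrix (Fin 3) (Fin 3) F)
          (fun e => g (act k (act k (act k e)))) := by
        simp only [Subgroup.coe_mul, Units.val_mul]
        exact hg.mul (((hQa k).mul (hQa k)).mul (hQa k))
      have hmem : π (y' * (Q k * Q k * Q k)) ∈ O := by
        have hq4 : π (Q k * Q k * Q k) = (π (Q k))⁻¹ := by
          refine (inv_eq_of_mul_eq_one_right ?_).symm
          rw [← map_mul, ← map_one π, hker]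
          refine ⟨1, one_ne_zero, ?_⟩
          simp only [Subgroup.coe_mul, Units.val_mul, hQ, one_smul, OneMemClass.coe_one, Units.val_one]
          rw [← Matrix.mul_assoc, ← Matrix.mul_assoc, Matrix.mul_assoc (qm ω k * qm ω k), qm_sq h, Tm_mul_self h]
        rw [map_mul, hq4, hy', map_mul, map_mul, map_inv,
          show π y * π (Q k) * (π y)⁻¹ * (π (Q k))⁻¹ = π y * (π (Q k) * (π y)⁻¹ * (π (Q k))⁻¹) by group]
        exact O.mul_mem hxO (hOc (O.inv_mem hxO) _)
      have h1 := hoddid hmem hφ fun v => by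
        rcases hk' with q | q
        · simp only [fun e : Fin 3 × Fin 3 => (q e.1 e.2 : g e = act k' e)]
          exact (act_four k k' v.1 v.2).2.1
        · simp only [fun e : Fin 3 × Fin 3 => (q e.1 e.2 : g e = -act k' e)]
          exact (act_four k k' v.1 v.2).2.2
      intro v
      have e2 : g (f v) = f (act k v) := congrFun hgf v
      rw [← e2]
      have e3 := h1 (act k (f v))
      rwa [(act_four k k (f v).1 (f v).2).1] at e3
    have hcase := commutant_act _ _ (hf.pres h hu _ _) (by rw [← hlin]; exact fun k a b => hcommk k (a, b))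
    rw [← hlin] at hcase
    rcases hcase with e | e
    · obtain ⟨c, b, hc0, hb⟩ := rm_of_twisted h (y : GL (Fin 3) F).ne_zero fun a => by
        obtain ⟨c, -, hc⟩ := hf a
        exact ⟨c, by rwa [show f a = a from e a.1 a.2] at hc⟩
      refine (hE _).mpr ⟨b, ?_⟩
      rw [hε, eq_comm, hker]
      exact ⟨c, hc0, by rw [hb, hR]⟩
    · exfalso
      have := hoddid hxO hf (fun v => by
        rw [show f v = -v from e v.1 v.2, show f (-v) = v from (e (-v).1 (-v).2).trans (neg_neg v),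
          show f v = -v from e v.1 v.2]
        exact (e (-v).1 (-v).2).trans (neg_neg v)) (1, 0)
      rw [show f (1, 0) = -(1, 0) from e 1 0] at this
      exact absurd this (by decide)
  have hcube : ∀ x ∈ E, x ^ 3 = 1 := fun x hx => by
    obtain ⟨e, rfl⟩ := (hE x).mp hx
    rw [pow_succ, pow_two, hεadd, hεadd, triple_ix, hε0]
  have hcomm : IsMulCommutative E := ⟨⟨fun a b => Subtype.ext (by
    obtain ⟨u, hu⟩ := (hE a).mp a.2
    obtain ⟨v, hv⟩ := (hE b).mp b.2
    rw [Subgroup.coe_mul, Subgroup.coe_mul, ← hu, ← hv, hεadd, hεadd, add_comm])⟩⟩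
  have hcard : Nat.card E = 9 := by
    rw [Nat.card_congr (Equiv.ofBijective (fun e : Fin 3 × Fin 3 => (⟨ε e, (hE _).mpr ⟨e, rfl⟩⟩ : E))
      ⟨fun a b q => hεinj (congrArg Subtype.val q), fun x => by
        obtain ⟨e, he⟩ := (hE x).mp x.2
        exact ⟨e, Subtype.ext he⟩⟩).symm]
    simp
  have hact : Coprime.Acting ⊤ NK E := by
    refine ⟨hcomm, hcube, fun hcyc => ?_, fun a ha ha1 x _ hx => ?_⟩
    · obtain ⟨g, hg⟩ := hcyc.exists_ofOrder_eq_natCard
      have : orderOf g ∣ 3 := orderOf_dvd_of_pow_eq_one (Subtype.ext (by simpa using hcube g g.2))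
      rw [hg, hcard] at this
      norm_num at this
    · obtain ⟨e, rfl⟩ := (hE a).mp ha
      exact hεc (fun q => ha1 (by rw [q]; exact hε0)) hx
  have hEO : E ≤ Subgroup.normalizer (O : Set K) := by rw [Subgroup.normalizer_eq_top]; exact le_top
  by_cases hmeet : ∃ e, e ≠ 0 ∧ ε e ∈ O
  · -- the core is the frame
    obtain ⟨e0, he0, he0O⟩ := hmeet
    have hEle : E ≤ O := by
      intro x hx
      obtain ⟨e, rfl⟩ := (hE x).mp hx
      by_cases he : e = 0
      · rw [he, hε0]; exact O.one_mem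
      have hstep : ∀ k {v}, ε v ∈ O → ε (act k v) ∈ O := fun k {v} hv => by
        rw [← hconj (hQa k)]; exact hOc hv _
      have hstep' : ∀ (o : Option (Fin 3)) {v}, ε v ∈ O → ε (Cf o v) ∈ O := fun o {v} hv => by
        cases o with
        | none => exact hv
        | some k => exact hstep k hv
      obtain ⟨w, q⟩ := act_trans e0 e he0 he
      rw [q]
      exact hstep' _ (hstep' _ (hstep' _ he0O))
    have hnorm : ∀ x, (∀ a ∈ E, x * a * x⁻¹ ∈ E) → x ∈ NK := by
      intro x hx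
      obtain ⟨y, rfl⟩ := hπ x
      have : ∀ e, ∃ v, ∃ c : F, c ≠ 0 ∧ ((y : GL (Fin 3) F) : Matrix (Fin 3) (Fin 3) F) * rm ω e =
          c • (rm ω v * ((y : GL (Fin 3) F) : Matrix (Fin 3) (Fin 3) F)) := fun e => by
        obtain ⟨v, hv⟩ := (hE _).mp (hx _ ((hE _).mpr ⟨e, rfl⟩))
        rw [eq_mul_inv_iff_mul_eq, eq_comm, hε, hε, ← map_mul, ← map_mul, hker] at hv
        obtain ⟨c, hc0, hc⟩ := hv
        exact ⟨v, c, hc0, by rw [Subgroup.coe_mul, Units.val_mul, Subgroup.coe_mul, Units.val_mul, hR, hR] at hc; exact hc⟩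
      choose v c hc0 hc using this
      rw [hNK]
      exact Subgroup.mem_map_of_mem π ⟨v, fun e => ⟨c e, hc0 e, hc e⟩⟩
    have hmax : ∀ P : Subgroup K, P ≤ O → IsPGroup 3 P → Nat.card P ≤ Nat.card E := by
      have hE3 : IsPGroup 3 E := hact.isPGroup
      obtain ⟨S, hS⟩ := IsPGroup.exists_le_sylow (P := E.subgroupOf O) (p := 3)
        (hE3.of_equiv (Subgroup.subgroupOfEquivOfLe hEle).symm)
      have hSE : (S : Subgroup O) = E.subgroupOf O := by
        by_contra hne
        haveI : Group.IsNilpotent (S : Subgroup O) := S.2.isNilpotent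
        obtain ⟨A, hA⟩ : ∃ A, A = (E.subgroupOf O).subgroupOf (S : Subgroup O) := ⟨_, rfl⟩
        have hAt : A < ⊤ := by
          rw [lt_top_iff_ne_top, hA, Ne, Subgroup.subgroupOf_eq_top]
          exact fun q => hne (le_antisymm q hS)
        obtain ⟨x, hxn, hxA⟩ := SetLike.exists_of_lt (Group.normalizerCondition_of_isNilpotent A hAt)
        refine hxA (hA ▸ Subgroup.mem_subgroupOf.mpr (Subgroup.mem_subgroupOf.mpr (hON (x : O).2 (hnorm _ fun a ha => ?_))))
        have hmem := (Subgroup.mem_normalizer_iff.mp hxn ⟨⟨a, hEle ha⟩, hS (Subgroup.mem_subgroupOf.mpr ha)⟩).mp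
          (hA ▸ Subgroup.mem_subgroupOf.mpr (Subgroup.mem_subgroupOf.mpr ha))
        rw [hA, Subgroup.mem_subgroupOf, Subgroup.mem_subgroupOf] at hmem
        exact hmem
      intro P hP hP3
      obtain ⟨S', hS'⟩ := IsPGroup.exists_le_sylow (P := P.subgroupOf O) (p := 3)
        (hP3.of_equiv (Subgroup.subgroupOfEquivOfLe hP).symm)
      calc Nat.card P = Nat.card (P.subgroupOf O) := (Nat.card_congr (Subgroup.subgroupOfEquivOfLe hP).toEquiv).symm
        _ ≤ Nat.card (S' : Subgroup O) := Subgroup.card_le_of_le hS'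
        _ = Nat.card (S : Subgroup O) := by rw [Sylow.card_eq_multiplicity, Sylow.card_eq_multiplicity]
        _ = Nat.card E := by rw [hSE, Nat.card_congr (Subgroup.subgroupOfEquivOfLe hEle).toEquiv]
    have hEN : E ≤ NK := fun x hx => by
      obtain ⟨e, rfl⟩ := (hE x).mp hx
      rw [hNK, hε]
      exact Subgroup.mem_map_of_mem π ⟨_, hRa e⟩
    have hab : ∀ r ∈ E, ∀ r' ∈ E, r * r' = r' * r := fun r hr r' hr' =>
      congrArg Subtype.val (hcomm.is_comm.comm ⟨r, hr⟩ ⟨r', hr'⟩)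
    have hDN : O ≤ NK := Coprime.le_of_sylow hact le_top hEO hEle hEN hact.isPGroup hmax (fun x hxO hxn r hr =>
      hab x (hON hxO (hnorm x fun a ha => (Subgroup.mem_normalizer_iff.mp hxn a).mp ha)) r hr) hab
    have hOE : ∀ x, x ∈ O → x ∈ E := fun x hx => hON hx (hDN hx)
    intro s hs
    obtain ⟨y, hy, e⟩ := Subgroup.mem_map.mp (hNK ▸ hnorm (π ⟨s, hs⟩) fun a ha => hOE _ (hOc (hEle ha) _))
    obtain ⟨f, hf⟩ := hy
    obtain ⟨c, -, hc⟩ := (hker _ _).mp e.symm
    exact ⟨f, hc ▸ acts3_smul hf c⟩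
  · -- the core is trivial
    exfalso
    have hONt : ∀ x, x ∈ O → x ∈ NK → x = 1 := fun x hx hxN => by
      obtain ⟨e, rfl⟩ := (hE x).mp (hON hx hxN)
      by_cases he : e = 0
      · rw [he, hε0]
      · exact absurd ⟨e, he, hx⟩ hmeet
    have hOe : O ≤ NK := by
      refine Coprime.le_of_sylow hact le_top hEO bot_le bot_le IsPGroup.of_bot (fun P hP hP3 => ?_) ?_ ?_
      · refine Coprime.sylow_of_central hact le_top hEO bot_le IsPGroup.of_bot ?_ ?_ (by rw [Subgroup.card_bot, hcard]; norm_num) ?_ hP hP3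
        · intro r hr x _; rw [Subgroup.mem_bot.mp hr, one_mul, mul_one]
        · intro r hr x _; rw [Subgroup.mem_bot.mp hr, one_mul, mul_one]
        · intro x hx hxN _; rw [hONt x hx hxN]; exact one_mem _
      · intro x _ _ r hr; rw [Subgroup.mem_bot.mp hr, one_mul, mul_one]
      · intro r hr r' _; rw [Subgroup.mem_bot.mp hr, one_mul, mul_one]
    have hτc := hcore (ε (1, 0))
    rw [← hO] at hτc
    have h1 := hONt _ hτc (hOe hτc)
    rw [mul_inv_eq_one] at h1
    rw [hτ, hconj hTa] at h1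
    exact absurd (hεinj h1) (by decide)

/-- **The quaternion case.** -/
theorem hess_of_cent (hH : HessHyp ω H)
    (hcent : ∀ s ∈ H, (s : Matrix (Fin 3) (Fin 3) F) * Tm ω 0 = Tm ω 0 * (s : Matrix (Fin 3) (Fin 3) F) →
      ∃ f, Acts3 ω (s : Matrix (Fin 3) (Fin 3) F) f) :
    ∀ s ∈ H, ∃ f, Acts3 ω (s : Matrix (Fin 3) (Fin 3) F) f := by
  refine hess_abstract (π := ((QuotientGroup.mk' (Subgroup.center (GL (Fin 3) F))).comp H.subtype).rangeRestrict) hH hcent
    (MonoidHom.rangeRestrict_surjective _) fun a b => ?_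
  simp only [Subtype.ext_iff, MonoidHom.coe_rangeRestrict, MonoidHom.comp_apply, Subgroup.coe_subtype]
  show (QuotientGroup.mk _ : GL (Fin 3) F ⧸ Subgroup.center (GL (Fin 3) F)) = QuotientGroup.mk _ ↔ _
  rw [QuotientGroup.eq, Matrix.GeneralLinearGroup.center_eq_range_scalar]
  constructor
  · rintro ⟨u, hu⟩
    refine ⟨((u⁻¹ : Fˣ) : F), u⁻¹.ne_zero, ?_⟩
    have e : (b : GL (Fin 3) F) = (a : GL (Fin 3) F) * Units.map (Matrix.scalar (Fin 3) : F →+* _).toMonoidHom u := by
      rw [show Units.map (Matrix.scalar (Fin 3) : F →+* _).toMonoidHom u = _ from hu, mul_inv_cancel_left]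
    rw [e, Units.val_mul]
    ext i j
    simp [Matrix.scalar_apply, Matrix.mul_diagonal]
    field_simp
  · rintro ⟨c, hc0, hc⟩
    refine ⟨Units.mk0 c⁻¹ (inv_ne_zero hc0), Units.ext ?_⟩
    refine (a : GL (Fin 3) F).isUnit.mul_left_cancel ?_
    rw [← Units.val_mul, ← Units.val_mul, mul_inv_cancel_left, Units.val_mul]
    ext i j
    simp [hc, Matrix.scalar_apply, Matrix.mul_diagonal, hc0]
    field_simp

end Cfsg.Agent.Classical.TriFrame
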