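/-
The unitary group of degree three over four elements normalises the frame.
-/
import Cfsg.Agent.Lib.Classical.TriFrame.HessBig

set_option autoImplicit false
set_option linter.unusedSectionVars false

namespace Cfsg.Agent.Classical.TriFrame

open Matrix Kronecker Cfsg.Geo
open Cfsg.Agent.Classical
open Cfsg.Agent.Classical.LinThree.Hess

universe u

variable {F : Type u} [Field F] [Fintype F] {ω : F} {σ : F ≃+* F}

theorem mono_shift : ∀ (π φ : Fin 3 → Fin 3), (π 0 ≠ π 1 ∧ π 0 ≠ π 2 ∧ π 1 ≠ π 2) → ∀ a b : Fin 3,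
    ∃ (f : Fin 3 × Fin 3) (c : Fin 3), ∀ i : Fin 3, π i - a = π (i - f.1) ∧
      φ i + b * (π i - a) = c + (f.2 * (i - f.1) + φ (i - f.1)) := by
  decide +kernel

theorem third_ix : ∀ r q q' : Fin 3, q ≠ r → q' ≠ r → q' ≠ q → ∀ l, l = r ∨ l = q ∨ l = q' := by decide

theorem phase_choice : ∀ φ : Fin 3 → Fin 3, ∃ k i i' : Fin 3, i ≠ i' ∧
    ∀ r : Fin 3, r = i ∨ r = i' →
      (k * (r * r - 0 * 0) + r * 0 + φ 0 ≠ k * (r * r - 1 * 1) + r * 1 + φ 1 ∧
        k * (r * r - 0 * 0) + r * 0 + φ 0 ≠ k * (r * r - 2 * 2) + r * 2 + φ 2 ∧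
        k * (r * r - 1 * 1) + r * 1 + φ 1 ≠ k * (r * r - 2 * 2) + r * 2 + φ 2) := by
  decide +kernel

theorem distinct_sum (h : Om ω) {a b c : Fin 3} (hab : a ≠ b) (hac : a ≠ c) (hbc : b ≠ c) :
    pw ω a + pw ω b + pw ω c = 0 := by
  have hr := h.root
  fin_cases a <;> fin_cases b <;> fin_cases c <;> simp [pw] at hab hac hbc ⊢ <;> linear_combination hr

/-- **Characteristic two.** -/
theorem hess_two [CharP F 2] (hσ : IsUSigma 2 σ) (h : Om ω) {s : GL (Fin 3) F} (hs : s ∈ GU 3 F 2) :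
    ∃ f, Acts3 ω (s : Matrix (Fin 3) (Fin 3) F) f := by
  classical
  have hσω : σ ω = ω * ω := by rw [hσ.apply_eq, pow_two]
  obtain ⟨Pres, hPres⟩ : ∃ Pres : Matrix (Fin 3) (Fin 3) F → Prop, ∀ M, Pres M ↔
      ∀ x y, hermForm 3 F 2 (M *ᵥ x) (M *ᵥ y) = hermForm 3 F 2 x y := ⟨_, fun _ => Iff.rfl⟩
  have hcol : ∀ {M}, Pres M → ∀ j k, ∑ i, M i j * σ (M i k) = if j = k then 1 else 0 := by
    intro M hM j k
    have e := (hPres M).mp hM (Pi.single j 1) (Pi.single k 1)
    rw [hσ.hermForm_eq, hσ.hermForm_single, Matrix.mulVec_single_one, Matrix.mulVec_single_one] at e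
    simp only [Matrix.col_apply, one_mul] at e
    rw [e]
    by_cases hjk : j = k
    · subst hjk; simp
    · simp [hjk]
  have hcube : ∀ x : F, x ≠ 0 → x * x * x = 1 := fun x hx => by
    have e := FiniteField.pow_card_sub_one_eq_one x hx
    rw [hσ.card] at e
    linear_combination e
  have hN : ∀ x : F, x ≠ 0 → x * σ x = 1 := fun x hx => by
    rw [hσ.apply_eq, pow_two, ← mul_assoc]; exact hcube x hx
  -- a weight-one column makes it monomial
  have hmon : ∀ {M}, Pres M → ∀ i i' j₀ : Fin 3, i ≠ i' → M i j₀ = 0 → M i' j₀ = 0 →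
      ∃ f, Acts3 ω M f := by
    intro M hM i i' j₀ hii hi hi'
    obtain ⟨r, hr⟩ : ∃ r : Fin 3, ∀ l, l ≠ r → l = i ∨ l = i' :=
      (show ∀ i i' : Fin 3, i ≠ i' → ∃ r : Fin 3, ∀ l, l ≠ r → l = i ∨ l = i' by decide +kernel) i i' hii
    have hz : ∀ l, l ≠ r → M l j₀ = 0 := fun l hl => (hr l hl).elim (fun e => e ▸ hi) (fun e => e ▸ hi')
    have hrr : M r j₀ ≠ 0 := fun e => by
      have h1 := hcol hM j₀ j₀
      rw [Finset.sum_eq_single r (fun l _ hl => by rw [hz l hl, zero_mul]) (by simp), e, zero_mul, if_pos rfl] at h1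
      exact zero_ne_one h1
    have hrow : ∀ j, j ≠ j₀ → M r j = 0 := fun j hj => by
      have h1 := hcol hM j j₀
      rw [Finset.sum_eq_single r (fun l _ hl => by rw [hz l hl, map_zero, mul_zero]) (by simp), if_neg hj] at h1
      exact (mul_eq_zero.mp h1).resolve_right ((map_ne_zero σ).mpr hrr)
    -- every column has one non-zero entry
    have hone : ∀ j, ∃ p, M p j ≠ 0 ∧ ∀ l, l ≠ p → M l j = 0 := by
      intro j
      by_cases hj : j = j₀
      · exact ⟨r, hj ▸ hrr, fun l hl => hj ▸ hz l hl⟩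
      have hsum := hcol hM j j
      rw [if_pos rfl] at hsum
      have hex : ∀ p : Fin 3, p ≠ r → ∀ p', p' ≠ r → p' ≠ p → M p j ≠ 0 → M p' j = 0 := by
        intro p hp p' hp' hpp hne
        by_contra hne'
        have e3 := third_ix r
        rw [Finset.sum_eq_add_of_mem p p' (Finset.mem_univ _) (Finset.mem_univ _) (Ne.symm hpp)
          (fun l _ hl => by
            rcases e3 p p' hp hp' hpp l with q | q | q
            · rw [q, hrow j hj, zero_mul]
            · exact absurd q hl.1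
            · exact absurd q hl.2), hN _ hne, hN _ hne'] at hsum
        exact one_ne_zero (by linear_combination hsum : (1 : F) = 0)
      by_contra hcon
      push Not at hcon
      have hall : ∀ l, M l j = 0 := fun l => by
        by_contra hl
        obtain ⟨l', hl', hne⟩ := hcon l hl
        have hlr : l ≠ r := fun e => hl (e ▸ hrow j hj)
        have hlr' : l' ≠ r := fun e => hne (e ▸ hrow j hj)
        exact hne (hex l hlr l' hlr' hl' hl)
      simp [hall] at hsum
    choose p hp hp0 using hone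
    have hpinj : Function.Injective p := fun a b e => by
      by_contra hab
      have h1 := hcol hM a b
      rw [Finset.sum_eq_single (p a) (fun l _ hl => by rw [hp0 a l hl, zero_mul]) (by simp), if_neg hab] at h1
      rcases mul_eq_zero.mp h1 with q | q
      · exact hp a q
      · exact hp b (e ▸ (map_eq_zero σ).mp q)
    obtain ⟨e', he'⟩ : ∃ e' : Fin 3 ≃ Fin 3, e' = Equiv.ofBijective p (Finite.injective_iff_bijective.mp hpinj) := ⟨_, rfl⟩
    choose ψ hψ using fun i => pw_exists h (hcube _ (hp (e'.symm i)))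
    have hM' : M = mono ω e'.symm ψ := by
      ext a b
      by_cases hb : b = e'.symm a
      · subst hb
        rw [mono, Matrix.of_apply, if_pos rfl, ← hψ a]
        congr 1
        conv_lhs => rw [← e'.apply_symm_apply a]
        rw [he', Equiv.ofBijective_apply]
      · rw [mono, Matrix.of_apply, if_neg hb]
        refine hp0 b a fun q => hb ?_
        rw [eq_comm, Equiv.symm_apply_eq, he', Equiv.ofBijective_apply, q]
    have hπ : e'.symm 0 ≠ e'.symm 1 ∧ e'.symm 0 ≠ e'.symm 2 ∧ e'.symm 1 ≠ e'.symm 2 :=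
      ⟨e'.symm.injective.ne (by decide), e'.symm.injective.ne (by decide), e'.symm.injective.ne (by decide)⟩
    have hex : ∀ u : Fin 3 × Fin 3, ∃ v, ∃ c : F, c ≠ 0 ∧ M * rm ω u = c • (rm ω v * M) := by
      intro u
      obtain ⟨v, c, hc⟩ := mono_shift (e'.symm) ψ hπ u.1 u.2
      refine ⟨v, pw ω c, pw_ne_zero h c, ?_⟩
      rw [hM', rm, rm, mono_mul_mono h, mono_mul_mono h]
      exact mono_smul h hc
    choose v c hc0 hc using hex
    exact ⟨v, fun u => ⟨c u, hc0 u, hc u⟩⟩
  have hM : Pres (s : Matrix (Fin 3) (Fin 3) F) := (hPres _).mpr (mem_GU_iff.mp hs)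
  by_cases hall : ∀ i, (s : Matrix (Fin 3) (Fin 3) F) i 0 ≠ 0
  swap
  · push Not at hall
    obtain ⟨i, hi⟩ := hall
    -- the norms of two non-zero entries cancel
    obtain ⟨i', hii, hi'⟩ : ∃ i', i ≠ i' ∧ (s : Matrix (Fin 3) (Fin 3) F) i' 0 = 0 := by
      by_contra hcon
      push Not at hcon
      have h1 := hcol hM 0 0
      rw [Fin.sum_univ_three, if_pos rfl] at h1
      have h2' : ∀ l, l ≠ i → (s : Matrix (Fin 3) (Fin 3) F) l 0 * σ ((s : Matrix (Fin 3) (Fin 3) F) l 0) = 1 :=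
        fun l hl => hN _ (hcon l (Ne.symm hl))
      have h20 : (2 : F) = 0 := by exact_mod_cast (CharP.cast_eq_zero F 2)
      fin_cases i
      · rw [h2' 1 (by decide), h2' 2 (by decide), show (s : Matrix (Fin 3) (Fin 3) F) 0 0 = 0 from hi] at h1
        exact one_ne_zero (by linear_combination (norm := skip) h20 - h1; simp; ring : (1 : F) = 0)
      · rw [h2' 0 (by decide), h2' 2 (by decide), show (s : Matrix (Fin 3) (Fin 3) F) 1 0 = 0 from hi] at h1
        exact one_ne_zero (by linear_combination (norm := skip) h20 - h1; simp; ring : (1 : F) = 0)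
      · rw [h2' 0 (by decide), h2' 1 (by decide), show (s : Matrix (Fin 3) (Fin 3) F) 2 0 = 0 from hi] at h1
        exact one_ne_zero (by linear_combination (norm := skip) h20 - h1; simp; ring : (1 : F) = 0)
    exact hmon hM i i' 0 hii hi hi'
  choose φ hφ using fun i => pw_exists h (hcube _ (hall i))
  obtain ⟨k, i, i', hii, hdist⟩ := phase_choice φ
  obtain ⟨-, -, hq, -⟩ := UThree.Hess.unitary_std hσ h hσω
  have hP : Pres (qm ω k * (s : Matrix (Fin 3) (Fin 3) F)) := (hPres _).mpr fun x y => by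
    rw [← Matrix.mulVec_mulVec, ← Matrix.mulVec_mulVec, hq, (hPres _).mp hM]
  have hzero : ∀ r : Fin 3, r = i ∨ r = i' → (qm ω k * (s : Matrix (Fin 3) (Fin 3) F)) r 0 = 0 := by
    intro r hr
    obtain ⟨d1, d2, d3⟩ := hdist r hr
    rw [qm, Matrix.smul_mul, Matrix.smul_apply, Matrix.mul_apply, Fin.sum_univ_three, hφ 0, hφ 1, hφ 2]
    simp only [Fm, Matrix.of_apply, ← pw_add h]
    rw [distinct_sum h d1 d2 d3, smul_zero]
  obtain ⟨f, hf⟩ := hmon hP i i' 0 hii (hzero i (Or.inl rfl)) (hzero i' (Or.inr rfl))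
  have h4 : qm ω k * qm ω k * (qm ω k * qm ω k) = (1 : Matrix (Fin 3) (Fin 3) F) := by rw [qm_sq h, Tm_mul_self h]
  refine ⟨_, (?_ : Acts3 ω _ (act k ∘ act k ∘ act k ∘ f))⟩
  rw [show (s : Matrix (Fin 3) (Fin 3) F) = qm ω k * (qm ω k * (qm ω k * (qm ω k * (s : Matrix (Fin 3) (Fin 3) F)))) by
    simp only [← Matrix.mul_assoc] at h4 ⊢; rw [h4, Matrix.one_mul]]
  exact (Acts3.qm h k).mul ((Acts3.qm h k).mul ((Acts3.qm h k).mul hf))

end Cfsg.Agent.Classical.TriFrame
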