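/-
The centraliser of the involution on the first factor lies in the normaliser of the frame.
-/
import Cfsg.Agent.Lib.Classical.TriFrame.HessTwo
import Cfsg.Agent.Lib.Classical.TriFrame.HessQuat
import Cfsg.Agent.Lib.Classical.TriFrame.CentTau

set_option autoImplicit false
set_option linter.unusedSectionVars false
set_option linter.style.haveILetI false

namespace Cfsg.Agent.Classical.TriFrame

open Matrix Kronecker Cfsg.Geo
open Cfsg.Agent.Classical
open Cfsg.Agent.Classical.LinThree.Hess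

universe u

variable {F : Type u} [Field F] [Fintype F] {ω : F} {X : Subgroup (GL P9 F)}

/-- The two settings. -/
def Setting (p : ℕ) (X : Subgroup (GL P9 F)) : Prop :=
  p.Prime ∧ CharP F p ∧ ((Fintype.card F = p ∧ 7 ≤ p) ∨
    ∃ σ : F ≃+* F, IsUSigma p σ ∧ Iso σ X ∧ (p = 2 ∨ p = 5 ∨ 7 ≤ p))

theorem hm_pr2 {σ : F ≃+* F} (x v y w : Fin 3 → F) :
    hm σ (pr x v) (pr y w) = (x ⬝ᵥ fun i => σ (y i)) * (v ⬝ᵥ fun i => σ (w i)) := by
  simp only [hm, cj, pr, dotProduct, Fintype.sum_prod_type, Finset.sum_mul_sum, map_mul]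
  refine Finset.sum_congr rfl fun a _ => Finset.sum_congr rfl fun b _ => ?_
  ring

variable (hX : Gens ω X)

include hX

/-- The image satisfies the hypotheses. -/
theorem hgrp_hyp (hmix : ¬ Mixed X) : HessHyp ω (Hgrp ω X) := by
  have h := hX.om
  have hval : ∀ M : Matrix (Fin 3) (Fin 3) F, Mem X ((1 : Matrix (Fin 3) (Fin 3) F) ⊗ₖ M) →
      ∃ s ∈ Hgrp ω X, (s : Matrix (Fin 3) (Fin 3) F) = M := by
    rintro M ⟨g, hg, e⟩
    have hM : IsUnit M := by
      have := (Matrix.isUnit_iff_isUnit_det _).mp (e ▸ g.isUnit)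
      rw [det_kronecker, Matrix.det_one, one_pow, one_mul, Fintype.card_fin, isUnit_pow_iff (by norm_num)] at this
      exact (Matrix.isUnit_iff_isUnit_det _).mpr this
    have hA : ∀ A : Matrix (Fin 3) (Fin 3) F, (g : Matrix P9 P9 F) * (A ⊗ₖ (1 : Matrix (Fin 3) (Fin 3) F)) =
        (A ⊗ₖ (1 : Matrix (Fin 3) (Fin 3) F)) * (g : Matrix P9 P9 F) := fun A => by
      rw [e, ← mul_kronecker_mul, ← mul_kronecker_mul]; simp
    exact ⟨hM.unit, ⟨g, hg, hA _, hA _, fun v => by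
      rw [e, kron_uv _ _ (c := 1) (by rw [Matrix.one_mulVec, one_smul]), one_smul, IsUnit.unit_spec]⟩, rfl⟩
  have hfr : ∀ e, Mem X ((1 : Matrix (Fin 3) (Fin 3) F) ⊗ₖ rm ω e) := fun e => by
    have := hX.frame ((0, e) : Ix)
    rwa [W, rm_zero] at this
  refine ⟨h, fun e => hval _ (hfr e), fun c => hval _ ?_, fun k => hval _ (hX.swap.conj (hX.quarter k) (sw_kron _ _)),
    fun s hs e c he hc => cent3 hX hmix hs he hc⟩
  -- a scalar is a commutator of frame elements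
  obtain ⟨e, f, hef⟩ : ∃ e f : Fin 3 × Fin 3, sg3 e f = c :=
    (show ∀ c : Fin 3, ∃ e f : Fin 3 × Fin 3, sg3 e f = c by decide +kernel) c
  obtain ⟨a, ha, hae⟩ := hfr e
  obtain ⟨b, hb, hbe⟩ := hfr f
  refine ⟨a * b * a⁻¹ * b⁻¹, X.mul_mem (X.mul_mem (X.mul_mem ha hb) (X.inv_mem ha)) (X.inv_mem hb), ?_⟩
  refine (b * a).isUnit.mul_right_cancel ?_
  rw [← Units.val_mul, show a * b * a⁻¹ * b⁻¹ * (b * a) = a * b by group, Units.val_mul, Units.val_mul, hae, hbe]
  have hW := W_comm h ((0, e) : Ix) (0, f)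
  simp only [W, rm_zero] at hW
  rw [hW, show sg ((0, e) : Ix) (0, f) = c by rw [← hef]; simp [sg, sg3], kronecker_smul, one_kronecker_one,
    Matrix.smul_mul, Matrix.one_mul]

/-- The image preserves the form. -/
theorem hgrp_unitary {p : ℕ} [CharP F p] {σ : F ≃+* F} (hσ : IsUSigma p σ) (hI : Iso σ X) :
    Hgrp ω X ≤ GU 3 F p := by
  have h := hX.om
  rintro s ⟨g, hg, hgq, hgt, hgs⟩
  refine mem_GU_iff.mpr fun v w => ?_
  rw [hσ.hermForm_eq, hσ.hermForm_eq]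
  by_cases h2 : (2 : F) = 0
  · obtain ⟨G, N, hgN⟩ := exists_shape h hgq hgt
    have hlow : ∀ v, (g : Matrix P9 P9 F) *ᵥ pr (Pi.single 0 1) v = pr (Pi.single 0 1) (G *ᵥ v) := fun v => by
      rw [hgN, Matrix.add_mulVec, kron_pr, kron_pr, A0_e0, Matrix.one_mulVec]
      funext x
      simp [pr]
    have hsG : (s : Matrix (Fin 3) (Fin 3) F) = G := Matrix.ext_of_mulVec_single fun k => uv_inj (by
      rw [← hgs, hgN, shape_uv, h2, zero_smul, add_zero])
    have := hI g hg (pr (Pi.single 0 1) v) (pr (Pi.single 0 1) w)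
    rw [hlow, hlow, hm_pr2, hm_pr2, ← hsG] at this
    simpa [dotProduct, Fin.sum_univ_three] using this
  · have := hI g hg (uv v) (uv w)
    rw [hgs, hgs, uv_eq_pr, uv_eq_pr, uv_eq_pr, uv_eq_pr, hm_pr2, hm_pr2] at this
    refine mul_left_cancel₀ h2 (Eq.trans ?_ (this.trans ?_))
    all_goals
      rw [show (aU : Fin 3 → F) ⬝ᵥ (fun i => σ ((aU : Fin 3 → F) i)) = 2 by
        simp [dotProduct, Fin.sum_univ_three, aU]; norm_num]
      rfl

/-- **The image normalises the small frame.** -/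
theorem hgrp_acts {p : ℕ} (hS : Setting p X) (hmix : ¬ Mixed X) :
    ∀ s ∈ Hgrp ω X, ∃ f, Acts3 ω (s : Matrix (Fin 3) (Fin 3) F) f := by
  obtain ⟨hp, hchar, hcase⟩ := hS
  haveI : Fact p.Prime := ⟨hp⟩
  have h := hX.om
  rcases hcase with ⟨hF, h7⟩ | ⟨σ, hσ, hI, rfl | rfl | h7⟩
  · exact hess_linear hF h7 (hgrp_hyp hX hmix)
  · exact fun s hs => hess_two hσ h (hgrp_unitary hX hσ hI hs)
  · exact hess_of_cent (hgrp_hyp hX hmix) fun s hs hsT => cent_tau hX hσ hI hmix hs hsT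
  · exact hess_unitary hσ h7 (hgrp_hyp hX hmix) (hgrp_unitary hX hσ hI)

/-- **The centraliser of the involution.** -/
theorem cent_jM {p : ℕ} (hS : Setting p X) (hmix : ¬ Mixed X) {g : GL P9 F} (hg : g ∈ X)
    (hgj : (g : Matrix P9 P9 F) * jM ω = jM ω * (g : Matrix P9 P9 F)) : g ∈ NN hX.om X := by
  have h := hX.om
  obtain ⟨n, hn, hq, ht⟩ := reduce hX hmix hg hgj
  have hngX : n * g ∈ X := X.mul_mem hn.1 hg
  obtain ⟨k, hk⟩ : ∃ k, k = n * g := ⟨_, rfl⟩
  rw [← hk] at hq ht hngX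
  suffices hh : k ∈ NN h X by
    have := (NN h X).mul_mem ((NN h X).inv_mem hn) hh
    rwa [hk, inv_mul_cancel_left] at this
  obtain ⟨G, N, hgN⟩ := exists_shape h hq ht
  have hup : ∀ v, (k : Matrix P9 P9 F) *ᵥ uv v = uv ((G + (2 : F) • N) *ᵥ v) := fun v => hgN ▸ shape_uv v
  have hu : IsUnit (G + (2 : F) • N) := by
    rw [← Matrix.mulVec_injective_iff_isUnit]
    intro v w e
    refine uv_inj ((Matrix.mulVec_injective_iff_isUnit.mpr k.isUnit) ?_)
    rw [hup, hup]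
    exact congrArg uv e
  have hv : ∀ v, (k : Matrix P9 P9 F) *ᵥ uv v = uv ((hu.unit : Matrix (Fin 3) (Fin 3) F) *ᵥ v) := fun v => by
    rw [IsUnit.unit_spec, hup]
  exact (nn_iff hX hmix hngX hq ht (s := hu.unit) hv).mpr
    (hgrp_acts hX hS hmix _ ⟨k, hngX, hq, ht, hv⟩)

end Cfsg.Agent.Classical.TriFrame
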