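/-
The centraliser of the involution inverting the whole frame: its frame part.
-/
import Cfsg.Agent.Lib.Classical.TriFrame.CentJ

set_option autoImplicit false
set_option linter.unusedSectionVars false
set_option linter.style.haveILetI false

namespace Cfsg.Agent.Classical.TriFrame

open Matrix Kronecker
open Cfsg.Agent.Classical.LinThree.Hess

universe u

variable {F : Type u} [Field F] {ω : F} {X : Subgroup (GL P9 F)}

/-- The involution inverting the frame. -/
def iM (ω : F) : Matrix P9 P9 F := Tm ω 0 ⊗ₖ Tm ω 0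

/-- The map of the first involution. -/
def Jf : Ix → Ix := Prod.map (fun e => -e) id

theorem iM_sq (h : Om ω) : iM ω * iM ω = 1 := by
  rw [iM, ← mul_kronecker_mul, Tm_mul_self h, one_kronecker_one]

theorem acts_iM (h : Om ω) : Acts ω (iM ω) (fun a => -a) := by
  have h3 : Acts3 ω (Tm ω 0) fun e => -e := fun e => by
    obtain ⟨d, hd⟩ := Tm_zero_rm h e
    exact ⟨pw ω d, pw_ne_zero h d, hd⟩
  exact h3.kron h3

theorem trace_iM : (iM ω).trace = 1 := by
  rw [iM, trace_kronecker, trace_Tm_zero]; ring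

theorem jM_sq (h : Om ω) : jM ω * jM ω = 1 := by
  rw [jM, ← mul_kronecker_mul, Tm_mul_self h, Matrix.one_mul, one_kronecker_one]

theorem jM_iM (h : Om ω) : jM ω * iM ω = iM ω * jM ω := by
  rw [jM, iM, ← mul_kronecker_mul, ← mul_kronecker_mul]; simp

theorem jM_mul_iM (h : Om ω) : jM ω * iM ω = (1 : Matrix (Fin 3) (Fin 3) F) ⊗ₖ Tm ω 0 := by
  rw [jM, iM, ← mul_kronecker_mul, Tm_mul_self h, Matrix.one_mul]

/-- The elements of `X` centralising the involution. -/
def CI (ω : F) (X : Subgroup (GL P9 F)) : Subgroup (GL P9 F) where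
  carrier := {g | g ∈ X ∧ (g : Matrix P9 P9 F) * iM ω = iM ω * (g : Matrix P9 P9 F)}
  one_mem' := ⟨X.one_mem, by simp⟩
  mul_mem' := by
    rintro a b ⟨ha, ha'⟩ ⟨hb, hb'⟩
    exact ⟨X.mul_mem ha hb, by rw [Units.val_mul, Matrix.mul_assoc, hb', ← Matrix.mul_assoc, ha', Matrix.mul_assoc]⟩
  inv_mem' := by
    rintro a ⟨ha, ha'⟩
    refine ⟨X.inv_mem ha, a.isUnit.mul_left_cancel ?_⟩
    rw [← Matrix.mul_assoc, ← Units.val_mul, mul_inv_cancel, Units.val_one, Matrix.one_mul, ← Matrix.mul_assoc, ha',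
      Matrix.mul_assoc, ← Units.val_mul, mul_inv_cancel, Units.val_one, Matrix.mul_one]

/-- Trivial modulo scalars and the involution. -/
def IsZ (ω : F) (g : GL P9 F) : Prop :=
  ∃ c : F, c ≠ 0 ∧
    ((g : Matrix P9 P9 F) = c • (1 : Matrix P9 P9 F) ∨ (g : Matrix P9 P9 F) = c • iM ω)

/-- The trivial part of the centraliser, as a subgroup. -/
def ZI (h : Om ω) : Subgroup (CI ω X) where
  carrier := {g | IsZ ω (g : GL P9 F)}
  one_mem' := ⟨1, one_ne_zero, Or.inl (by simp)⟩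
  mul_mem' := by
    rintro a b ⟨c, hc, ha⟩ ⟨d, hd, hb⟩
    refine ⟨c * d, mul_ne_zero hc hd, ?_⟩
    rw [Subgroup.coe_mul, Units.val_mul]
    rcases ha with ha | ha <;> rcases hb with hb | hb <;> rw [ha, hb, Matrix.smul_mul, Matrix.mul_smul, smul_smul]
    · exact Or.inl (by rw [Matrix.one_mul])
    · exact Or.inr (by rw [Matrix.one_mul])
    · exact Or.inr (by rw [Matrix.mul_one])
    · exact Or.inl (by rw [iM_sq h])
  inv_mem' := by
    rintro a ⟨c, hc, ha⟩
    refine ⟨c⁻¹, inv_ne_zero hc, ?_⟩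
    rw [Subgroup.coe_inv]
    rcases ha with ha | ha
    · exact Or.inl ((a : GL P9 F).isUnit.mul_left_cancel (by
        rw [← Units.val_mul, mul_inv_cancel, Units.val_one, ha, Matrix.smul_mul, Matrix.one_mul, smul_smul,
          mul_inv_cancel₀ hc, one_smul]))
    · exact Or.inr ((a : GL P9 F).isUnit.mul_left_cancel (by
        rw [← Units.val_mul, mul_inv_cancel, Units.val_one, ha, Matrix.smul_mul, Matrix.mul_smul, smul_smul,
          mul_inv_cancel₀ hc, one_smul, iM_sq h]))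

instance ZI_normal (h : Om ω) : (ZI (X := X) h).Normal := ⟨fun z hz g => by
  obtain ⟨c, hc, hz⟩ := hz
  have hg := g.2.2
  have e : ((g * z * g⁻¹ : CI ω X) : GL P9 F) = (z : GL P9 F) := by
    refine Units.ext ((g : GL P9 F).isUnit.mul_right_cancel ?_)
    rw [Subgroup.coe_mul, Subgroup.coe_mul, Subgroup.coe_inv, ← Units.val_mul, inv_mul_cancel_right, Units.val_mul]
    rcases hz with hz | hz <;> rw [hz, Matrix.mul_smul, Matrix.smul_mul]
    · rw [Matrix.mul_one, Matrix.one_mul]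
    · rw [hg]
  exact ⟨c, hc, by rw [e]; exact hz⟩⟩

theorem mem_ZI {h : Om ω} {g : CI ω X} : g ∈ ZI h ↔ IsZ ω (g : GL P9 F) := Iff.rfl

theorem isZ_iM (h : Om ω) {g : GL P9 F} (hg : IsZ ω g) : ∀ f, Acts ω (g : Matrix P9 P9 F) f → f = id ∨ f = fun a => -a := by
  intro f hf
  obtain ⟨c, -, hc | hc⟩ := hg
  · exact Or.inl (Acts.unique h g.isUnit hf (hc ▸ Acts.one.smul c))
  · exact Or.inr (Acts.unique h g.isUnit hf (hc ▸ (acts_iM h).smul c))

variable [Fintype F] (hX : Gens ω X)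

include hX

theorem iM_mem : ∃ g ∈ CI ω X, (g : Matrix P9 P9 F) = iM ω := by
  obtain ⟨g, hg, e⟩ := (jM_mem hX).mul (hX.swap.conj (jM_mem hX) (A' := (1 : Matrix (Fin 3) (Fin 3) F) ⊗ₖ Tm ω 0) (by
    rw [jM]; exact sw_kron _ _))
  have e' : (g : Matrix P9 P9 F) = iM ω := by
    rw [e, jM, iM, ← mul_kronecker_mul, Matrix.mul_one, Matrix.one_mul]
  exact ⟨g, ⟨hg, by rw [e']⟩, e'⟩

theorem jM_memI : ∃ g ∈ CI ω X, (g : Matrix P9 P9 F) = jM ω := by
  obtain ⟨g, hg, e⟩ := jM_mem hX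
  exact ⟨g, ⟨hg, by rw [e]; exact jM_iM hX.om⟩, e⟩

/-- An element acting as `±1` is trivial modulo scalars and the involution. -/
theorem isZ_of_acts {g : GL P9 F} (hg : g ∈ CI ω X) {f : Ix → Ix} (hf : Acts ω (g : Matrix P9 P9 F) f)
    (hid : f = id ∨ f = fun a => -a) : IsZ ω g := by
  have h := hX.om
  obtain ⟨iU, hiU, hi⟩ := iM_mem hX
  have key : ∀ {u : GL P9 F}, u ∈ CI ω X → Acts ω (u : Matrix P9 P9 F) id →
      ∃ c : F, c ≠ 0 ∧ (u : Matrix P9 P9 F) = c • (1 : Matrix P9 P9 F) := by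
    intro u hu hf
    obtain ⟨c, b, hc, hb⟩ := W_of_twisted h u.ne_zero fun a => by
      obtain ⟨d, -, hd⟩ := hf a
      exact ⟨d, hd⟩
    obtain ⟨d, hd0, hd⟩ := acts_iM h b
    have e := hu.2
    rw [hb, Matrix.smul_mul, Matrix.mul_smul, hd, smul_smul, ← Matrix.smul_mul, ← Matrix.smul_mul] at e
    have e' := (show IsUnit (iM ω) from hi ▸ iU.isUnit).mul_right_cancel e
    have hbb : b = -b := W_inj h (c := c⁻¹ * (c * d)) (by
      rw [← smul_smul, ← e', smul_smul, inv_mul_cancel₀ hc, one_smul])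
    exact ⟨c, hc, by rw [hb, (show ∀ b : Ix, b = -b → b = 0 by decide +kernel) b hbb, W_zero]⟩
  rcases hid with rfl | rfl
  · obtain ⟨c, hc, e⟩ := key hg hf
    exact ⟨c, hc, Or.inl e⟩
  · obtain ⟨c, hc, e⟩ := key ((CI ω X).mul_mem hg hiU) (by
      rw [Units.val_mul, hi]
      convert hf.mul (acts_iM h) using 1
      funext a
      simp)
    refine ⟨c, hc, Or.inr ?_⟩
    rw [Units.val_mul, hi] at e
    calc (g : Matrix P9 P9 F) = (g : Matrix P9 P9 F) * iM ω * iM ω := by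
          rw [Matrix.mul_assoc, iM_sq h, Matrix.mul_one]
      _ = c • iM ω := by rw [e, Matrix.smul_mul, Matrix.one_mul]

/-- Every symplectic map is realised in the centraliser. -/
theorem realise_I {f : Ix → Ix} (hadd : ∀ a b, f (a + b) = f a + f b) (hsg : ∀ a b, sg (f a) (f b) = sg a b) :
    ∃ g ∈ CI ω X, g ∈ NN hX.om X ∧ Acts ω (g : Matrix P9 P9 F) f := by
  have h := hX.om
  obtain ⟨n, hn, hnf⟩ := exists_sp hX hadd hsg
  obtain ⟨iU, hiU, hi⟩ := iM_mem hX
  obtain ⟨u, hu⟩ : ∃ u, u = n * iU * n⁻¹ * iU⁻¹ := ⟨_, rfl⟩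
  have hu1 : Acts ω (u : Matrix P9 P9 F) id := by
    obtain ⟨n', hn'⟩ := hnf.inv h (show (n : Matrix P9 P9 F) * ((n⁻¹ : GL P9 F) : Matrix P9 P9 F) = 1 by
      rw [← Units.val_mul, mul_inv_cancel, Units.val_one])
    obtain ⟨i', hi'⟩ := (acts_iM h).inv h (show iM ω * ((iU⁻¹ : GL P9 F) : Matrix P9 P9 F) = 1 by
      rw [← hi, ← Units.val_mul, mul_inv_cancel, Units.val_one])
    have e1 : f ∘ n' = id := Acts.unique h (n * n⁻¹).isUnit (by rw [Units.val_mul]; exact hnf.mul hn')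
      (by rw [mul_inv_cancel, Units.val_one]; exact Acts.one)
    have e2 : (fun a : Ix => -a) ∘ i' = id := Acts.unique h (iU * iU⁻¹).isUnit
      (by rw [Units.val_mul, hi]; exact (acts_iM h).mul hi') (by rw [mul_inv_cancel, Units.val_one]; exact Acts.one)
    have hinv : f ∘ (fun a => -a) ∘ n' ∘ i' = id := by
      funext a
      have h0 : f 0 = 0 := by simpa using hadd 0 0
      have hneg : ∀ x, f (-x) = -f x := fun x => by
        have := hadd x (-x)
        rw [add_neg_cancel, h0] at this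
        exact eq_neg_of_add_eq_zero_right this.symm
      simp only [Function.comp_apply, hneg]
      rw [show f (n' (i' a)) = i' a from congrFun e1 _]
      exact congrFun e2 a
    rw [hu, Units.val_mul, Units.val_mul, Units.val_mul, hi]
    have := ((hnf.mul (acts_iM h)).mul hn').mul hi'
    rwa [Function.comp_assoc, Function.comp_assoc, hinv] at this
  obtain ⟨c, b, hc, hb⟩ := W_of_twisted h u.ne_zero fun a => by
    obtain ⟨d, -, hd⟩ := hu1 a
    exact ⟨d, hd⟩
  obtain ⟨w, hw, hwe⟩ := hX.frame b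
  have hni : (n : Matrix P9 P9 F) * iM ω = c • (W ω b * iM ω * (n : Matrix P9 P9 F)) := by
    rw [← Matrix.smul_mul, ← Matrix.smul_mul, ← hb, ← hi, ← Units.val_mul, ← Units.val_mul, ← Units.val_mul, hu,
      inv_mul_cancel_right, inv_mul_cancel_right]
  obtain ⟨d, hd0, hd⟩ := acts_iM h b
  have hkey : ((w * n : GL P9 F) : Matrix P9 P9 F) * iM ω =
      (c * pw ω (b.1.2 * b.1.1 + b.2.2 * b.2.1) * d⁻¹) • (iM ω * ((w * n : GL P9 F) : Matrix P9 P9 F)) := by
    have e3 : -b = b + b := (show ∀ b : Ix, -b = b + b by decide +kernel) b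
    replace hd : iM ω * W ω b = d • (W ω (b + b) * iM ω) := by rw [← e3]; exact hd
    have hd' : W ω (b + b) * iM ω = d⁻¹ • (iM ω * W ω b) := by
      rw [hd, smul_smul, inv_mul_cancel₀ hd0, one_smul]
    rw [Units.val_mul, hwe, Matrix.mul_assoc (W ω b) (n : Matrix P9 P9 F) (iM ω), hni, Matrix.mul_smul,
      ← Matrix.mul_assoc (W ω b), ← Matrix.mul_assoc (W ω b), W_mul h, Matrix.smul_mul, hd', Matrix.smul_mul,
      Matrix.smul_mul, smul_smul, smul_smul, Matrix.mul_assoc (iM ω)]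
  have htr := congrArg (fun M => (M * (((w * n)⁻¹ : GL P9 F) : Matrix P9 P9 F)).trace) hkey
  simp only [Matrix.smul_mul, Matrix.trace_smul, smul_eq_mul] at htr
  rw [Matrix.trace_units_conj, trace_iM, Matrix.mul_assoc (iM ω), ← Units.val_mul, mul_inv_cancel, Units.val_one,
    Matrix.mul_one, trace_iM, mul_one] at htr
  rw [← htr, one_smul] at hkey
  have hact : Acts ω ((w * n : GL P9 F) : Matrix P9 P9 F) f := by
    rw [Units.val_mul, hwe]
    exact (Acts.frame h b).mul hnf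
  exact ⟨w * n, ⟨X.mul_mem hw hn, hkey⟩, ⟨X.mul_mem hw hn, _, hact⟩, hact⟩

/-- The centraliser of the first involution modulo the second. -/
theorem cent_jbar {p : ℕ} (hS : Setting p X) (hmix : ¬ Mixed X) {g : GL P9 F} (hg : g ∈ CI ω X) {z : GL P9 F} (hz : IsZ ω z)
    (hgz : (g : Matrix P9 P9 F) * jM ω = (z : Matrix P9 P9 F) * (jM ω * (g : Matrix P9 P9 F))) : g ∈ NN hX.om X := by
  have h := hX.om
  obtain ⟨c, -, hz | hz⟩ := hz
  · rw [hz, Matrix.smul_mul, Matrix.one_mul] at hgz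
    have htr := congrArg (fun M => (M * ((g⁻¹ : GL P9 F) : Matrix P9 P9 F)).trace) hgz
    simp only [Matrix.smul_mul, Matrix.trace_smul, smul_eq_mul] at htr
    rw [Matrix.trace_units_conj, Matrix.mul_assoc (jM ω), ← Units.val_mul, mul_inv_cancel, Units.val_one,
      Matrix.mul_one] at htr
    rw [mul_right_cancel₀ (trace_jM h) (htr.symm.trans (one_mul _).symm), one_smul] at hgz
    exact cent_jM hX hS hmix hg.1 hgz
  · rw [hz, Matrix.smul_mul, ← Matrix.mul_assoc, ← jM_iM h, jM_mul_iM h] at hgz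
    have htr := congrArg (fun M => (M * ((g⁻¹ : GL P9 F) : Matrix P9 P9 F)).trace) hgz
    simp only [Matrix.smul_mul, Matrix.trace_smul, smul_eq_mul] at htr
    rw [Matrix.trace_units_conj, Matrix.mul_assoc _ (g : Matrix P9 P9 F), ← Units.val_mul, mul_inv_cancel,
      Units.val_one, Matrix.mul_one, trace_kronecker, jM, trace_kronecker, mul_comm (Matrix.trace (1 : Matrix (Fin 3) (Fin 3) F))] at htr
    have hne : (Tm ω 0).trace * Matrix.trace (1 : Matrix (Fin 3) (Fin 3) F) ≠ 0 := by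
      rw [trace_Tm_zero, Matrix.trace_one, Fintype.card_fin]
      simpa using h.three
    rw [mul_right_cancel₀ hne (htr.symm.trans (one_mul _).symm), one_smul] at hgz
    obtain ⟨S, hS', hSe⟩ := hX.swap
    have hSN : S ∈ NN h X := ⟨hS', _, hSe ▸ Acts.sw h⟩
    have : S * g ∈ NN h X := cent_jM hX hS hmix (X.mul_mem hS' hg.1) (by
      rw [Units.val_mul, Matrix.mul_assoc, hgz, hSe, ← Matrix.mul_assoc, sw_kron, jM, Matrix.mul_assoc])
    have := (NN h X).mul_mem ((NN h X).inv_mem hSN) this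
    rwa [inv_mul_cancel_left] at this

end Cfsg.Agent.Classical.TriFrame
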