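/-
Symplectic maps of the indices centralising the standard decomposition up to sign.
-/
import Cfsg.Agent.Lib.Classical.TriFrame.InvI

set_option autoImplicit false
set_option linter.unusedSectionVars false

namespace Cfsg.Agent.Classical.TriFrame

open Cfsg.Agent.Classical.LinThree.Hess

/-- A symplectic map. -/
def SpMap (f : Ix → Ix) : Prop := (∀ a b, f (a + b) = f a + f b) ∧ ∀ a b, sg (f a) (f b) = sg a b

/-- The other involution. -/
def Sf (a : Ix) : Ix := (-a.2, a.1)

theorem SpMap.comp {f g : Ix → Ix} (hf : SpMap f) (hg : SpMap g) : SpMap (f ∘ g) :=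
  ⟨fun a b => by simp only [Function.comp_apply, hg.1, hf.1], fun a b => by simp only [Function.comp_apply, hf.2, hg.2]⟩

theorem SpMap.neg_map {f : Ix → Ix} (hf : SpMap f) (a : Ix) : f (-a) = -f a := by
  have h0 : f 0 = 0 := by simpa using hf.1 0 0
  have := hf.1 a (-a)
  rw [add_neg_cancel, h0] at this
  exact eq_neg_of_add_eq_zero_right this.symm

theorem sg3_lin2 : ∀ u v e e' : Fin 3 × Fin 3, sg3 u v = sg3 (1, 0) (0, 1) → sg3 (lin2 u v e) (lin2 u v e') = sg3 e e' := by
  decide +kernel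

theorem lin2_add (u v e e' : Fin 3 × Fin 3) : lin2 u v (e + e') = lin2 u v e + lin2 u v e' := by
  simp only [lin2, Prod.fst_add, Prod.snd_add, Prod.mk_add_mk, add_mul]
  ext <;> simp only <;> abel

/-- A block map. -/
theorem spMap_block {u v u' v' : Fin 3 × Fin 3} (h : sg3 u v = sg3 (1, 0) (0, 1)) (h' : sg3 u' v' = sg3 (1, 0) (0, 1)) :
    SpMap (Prod.map (lin2 u v) (lin2 u' v')) := by
  refine ⟨fun a b => ?_, fun a b => ?_⟩
  · simp only [Prod.map, Prod.fst_add, Prod.snd_add, lin2_add, Prod.mk_add_mk]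
  · simp only [sg, Prod.map, sg3_lin2 _ _ _ _ h, sg3_lin2 _ _ _ _ h']

theorem spMap_first {u v : Fin 3 × Fin 3} (h : sg3 u v = sg3 (1, 0) (0, 1)) : SpMap (Prod.map (lin2 u v) id) := by
  refine ⟨fun a b => ?_, fun a b => ?_⟩
  · simp only [Prod.map, Prod.fst_add, Prod.snd_add, lin2_add, Prod.mk_add_mk, id]
  · simp only [sg, Prod.map, sg3_lin2 _ _ _ _ h, id]

theorem spMap_swap : SpMap Prod.swap :=
  ⟨fun a b => rfl, fun a b => by simp only [sg, Prod.fst_swap, Prod.snd_swap]; exact add_comm _ _⟩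

theorem lin2_act : ∀ k : Fin 3, ∃ u v : Fin 3 × Fin 3, sg3 u v = sg3 (1, 0) (0, 1) ∧
    ∀ a b : Fin 3, act k (a, b) = lin2 u v (a, b) := by decide +kernel

theorem act_lin (k : Fin 3) : ∃ u v : Fin 3 × Fin 3, sg3 u v = sg3 (1, 0) (0, 1) ∧ act k = lin2 u v := by
  obtain ⟨u, v, h, e⟩ := lin2_act k
  exact ⟨u, v, h, funext fun a => e a.1 a.2⟩

theorem shf_lin : ∃ u v : Fin 3 × Fin 3, sg3 u v = sg3 (1, 0) (0, 1) ∧ shf = lin2 u v :=
  ⟨(1, 2), (0, 1), by decide, funext fun a => (show ∀ a : Fin 3 × Fin 3, shf a = lin2 (1, 2) (0, 1) a by decide +kernel) a⟩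

theorem spMap_act (k : Fin 3) : SpMap (Prod.map (act k) id) := by
  obtain ⟨u, v, h, e⟩ := act_lin k
  exact e ▸ spMap_first h

theorem spMap_shf : SpMap (Prod.map shf id) := by
  obtain ⟨u, v, h, e⟩ := shf_lin
  exact e ▸ spMap_first h

/-- The maps centralising the decomposition. -/
theorem block_shape {f : Ix → Ix} (hf : SpMap f) (hJ : ∀ a, f (Jf a) = Jf (f a)) :
    ∃ u v u' v', sg3 u v = sg3 (1, 0) (0, 1) ∧ sg3 u' v' = sg3 (1, 0) (0, 1) ∧
      f = Prod.map (lin2 u v) (lin2 u' v') := by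
  have hself : ∀ x : Fin 3 × Fin 3, x = -x → x = 0 := by decide
  have h1 : ∀ a, (f (a, 0)).2 = 0 := fun a => hself _ (by
    have e := congrArg Prod.snd (hJ (a, 0))
    rw [show Jf ((a, 0) : Ix) = -((a, 0) : Ix) by simp [Jf], hf.neg_map] at e
    simpa [Jf] using e.symm)
  have h2 : ∀ b, (f (0, b)).1 = 0 := fun b => hself _ (by
    have e := congrArg Prod.fst (hJ (0, b))
    rw [show Jf ((0, b) : Ix) = ((0, b) : Ix) by simp [Jf]] at e
    simpa [Jf] using e)
  have hA := eq_lin2 (f := fun a => (f (a, 0)).1) fun a b => by rw [← Prod.fst_add, ← hf.1]; simp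
  have hB := eq_lin2 (f := fun a => (f (0, a)).2) fun a b => by rw [← Prod.snd_add, ← hf.1]; simp
  refine ⟨(f ((1, 0), 0)).1, (f ((0, 1), 0)).1, (f (0, (1, 0))).2, (f (0, (0, 1))).2, ?_, ?_, funext fun a => ?_⟩
  · have e := hf.2 (((1, 0), 0) : Ix) (((0, 1), 0) : Ix)
    have z1 := h1 (1, 0)
    have z2 := h1 (0, 1)
    simp only [sg] at e
    rw [z1, z2] at e
    simpa [sg3] using e
  · have e := hf.2 ((0, (1, 0)) : Ix) ((0, (0, 1)) : Ix)
    have z1 := h2 (1, 0)
    have z2 := h2 (0, 1)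
    simp only [sg] at e
    rw [z1, z2] at e
    simpa [sg3] using e
  · calc f a = f (a.1, 0) + f (0, a.2) := by rw [← hf.1]; simp
      _ = _ := Prod.ext (by
        rw [Prod.fst_add, h2, add_zero]
        exact congrFun hA a.1) (by
        rw [Prod.snd_add, h1, zero_add]
        exact congrFun hB a.2)

/-- The maps inverting the decomposition. -/
theorem anti_shape {f : Ix → Ix} (hf : SpMap f) (hJ : ∀ a, f (Jf a) = -Jf (f a)) :
    ∃ u v u' v', sg3 u v = sg3 (1, 0) (0, 1) ∧ sg3 u' v' = sg3 (1, 0) (0, 1) ∧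
      f = fun a => (lin2 u' v' a.2, lin2 u v a.1) := by
  obtain ⟨u, v, u', v', h, h', e⟩ := block_shape (spMap_swap.comp hf) fun a => by
    simp only [Function.comp_apply, hJ]
    exact (show ∀ b : Ix, Prod.swap (-Jf b) = Jf (Prod.swap b) by decide +kernel) _
  refine ⟨u, v, u', v', h, h', funext fun a => ?_⟩
  have := congrArg Prod.swap (congrFun e a)
  simpa [Prod.map] using this

theorem comm_quarter : ∀ u v : Fin 3 × Fin 3, sg3 u v = sg3 (1, 0) (0, 1) →
    ((∀ a b : Fin 3, lin2 u v (a, b) = (a, b)) ∨ (∀ a b : Fin 3, lin2 u v (a, b) = -(a, b))) ∨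
    ((∀ a b : Fin 3, (lin2 u v)^[12] (a, b) = (a, b)) ∧
      ((let C := fun e => lin2 u v (act 0 ((lin2 u v)^[11] (act 0 (act 0 (act 0 e)))))
        ∀ a b : Fin 3, C (C (a, b)) = -(a, b)) ∨
      (let C := fun e => lin2 u v (shf ((lin2 u v)^[11] (shf (shf e))))
        ∀ a b : Fin 3, C (C (a, b)) = -(a, b)))) := by
  decide +kernel

theorem invol_lin : ∀ u v : Fin 3 × Fin 3, sg3 u v = sg3 (1, 0) (0, 1) →
    (∀ a b : Fin 3, lin2 u v (lin2 u v (a, b)) = -(a, b)) →
    ∃ (o : Option (Fin 3)) (n : Fin 3), ∀ a b : Fin 3,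
      Cf o (shf^[n.val] (lin2 u v (a, b))) = act 0 (Cf o (shf^[n.val] (a, b))) := by
  decide +kernel

theorem act_anti : ∀ k : Fin 3, ∀ a b : Fin 3,
    act k (act (k + 1) (a, b)) = -act (k + 1) (act k (a, b)) ∧ act k (act k (a, b)) = -(a, b) := by
  decide +kernel

theorem act_zero_conj : ∀ a b : Fin 3, act 1 (act 0 (a, b)) = -act 0 (act 1 (a, b)) := by decide +kernel

/-- Carries the swap to the decomposition. -/
def gD (a : Ix) : Ix := ((a.1.1 + a.2.1, -(a.1.2 + a.2.2)), (a.1.1 - a.2.1, -(a.1.2 - a.2.2)))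

theorem spMap_gD : SpMap gD := by
  have h1 : ∀ a b : Ix, gD (a + b) = gD a + gD b := fun a b => by
    simp only [gD, Prod.fst_add, Prod.snd_add, Prod.mk_add_mk]
    ext <;> simp only <;> abel
  exact ⟨h1, by decide +kernel⟩

theorem gD_swap : ∀ a : Ix, gD (Prod.swap a) = -Jf (gD a) := by decide +kernel

/-- Carries two quarter turns to the other involution. -/
def gS (a : Ix) : Ix :=
  ((a.1.2 + a.2.1 + 2 * a.2.2, a.1.1 + a.2.1 + a.2.2), (2 * a.1.1 + a.2.1 + a.2.2, a.1.2 + 2 * a.2.1 + a.2.2))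

theorem spMap_gS : SpMap gS := by
  have h1 : ∀ a b : Ix, gS (a + b) = gS a + gS b := fun a b => by
    simp only [gS, Prod.fst_add, Prod.snd_add, Prod.mk_add_mk, mul_add]
    ext <;> simp only <;> abel
  exact ⟨h1, by decide +kernel⟩

theorem gS_quarter : ∀ a : Ix, gS (Prod.map (act 0) (act 0) a) = Sf (gS a) := by decide +kernel

theorem spMap_pow {f : Ix → Ix} (hf : SpMap f) (n : ℕ) : SpMap f^[n] := by
  induction n with
  | zero => exact ⟨fun a b => rfl, fun a b => rfl⟩
  | succ n ih => rw [Function.iterate_succ]; exact ih.comp hf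

theorem spMap_Cf (o : Option (Fin 3)) (n : ℕ) : SpMap (Prod.map (fun e => Cf o (shf^[n] e)) id) := by
  have h1 : SpMap (Prod.map (Cf o) id) := by
    cases o with
    | none => exact ⟨fun a b => rfl, fun a b => rfl⟩
    | some k => exact spMap_act k
  have h2 : ∀ m : ℕ, (Prod.map shf id : Ix → Ix)^[m] = Prod.map shf^[m] id := fun m => by
    induction m with
    | zero => rfl
    | succ m ih => rw [Function.iterate_succ, ih, Prod.map_comp_map, Function.comp_id, Function.iterate_succ]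
  have h3 := h1.comp (h2 n ▸ spMap_pow spMap_shf n)
  rwa [Prod.map_comp_map, Function.comp_id] at h3

/-- An involution centralising the decomposition up to sign is conjugate to it. -/
theorem invol_type {f : Ix → Ix} (hf : SpMap f) (hJ : (∀ a, f (Jf a) = Jf (f a)) ∨ ∀ a, f (Jf a) = -Jf (f a))
    (h2 : ∀ a, f (f a) = a) :
    (f = id ∨ f = fun a => -a) ∨ ∃ g, SpMap g ∧ ((∀ a, g (f a) = Jf (g a)) ∨ ∀ a, g (f a) = -Jf (g a)) := by
  rcases hJ with hJ | hJ
  · obtain ⟨u, v, u', v', h, h', rfl⟩ := block_shape hf hJ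
    have hA := linear_invol u v h fun a b => by simpa [Prod.map] using congrArg Prod.fst (h2 ((a, b), 0))
    have hB := linear_invol u' v' h' fun a b => by simpa [Prod.map] using congrArg Prod.snd (h2 (0, (a, b)))
    rcases hA with hA | hA <;> rcases hB with hB | hB
    · exact Or.inl (Or.inl (funext fun a => Prod.ext (hA a.1.1 a.1.2) (hB a.2.1 a.2.2)))
    · exact Or.inr ⟨id, ⟨fun a b => rfl, fun a b => rfl⟩, Or.inr fun a =>
        Prod.ext ((hA a.1.1 a.1.2).trans (by simp [Jf])) ((hB a.2.1 a.2.2).trans (by simp [Jf]))⟩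
    · exact Or.inr ⟨id, ⟨fun a b => rfl, fun a b => rfl⟩, Or.inl fun a =>
        Prod.ext ((hA a.1.1 a.1.2).trans (by simp [Jf])) ((hB a.2.1 a.2.2).trans (by simp [Jf]))⟩
    · exact Or.inl (Or.inr (funext fun a => Prod.ext (hA a.1.1 a.1.2) (hB a.2.1 a.2.2)))
  · obtain ⟨u, v, u', v', h, h', rfl⟩ := anti_shape hf hJ
    refine Or.inr ⟨gD ∘ Prod.map (lin2 u v) id, spMap_gD.comp (spMap_first h), Or.inr fun a => ?_⟩
    have e : lin2 u v (lin2 u' v' a.2) = a.2 := congrArg Prod.snd (h2 (0, a.2))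
    rw [Function.comp_apply, Function.comp_apply, ← gD_swap]
    congr 1
    simp [Prod.map, e]

/-- An element of square `-1` centralising the decomposition up to sign is conjugate to the other involution. -/
theorem quarter_type {f : Ix → Ix} (hf : SpMap f) (hJ : (∀ a, f (Jf a) = Jf (f a)) ∨ ∀ a, f (Jf a) = -Jf (f a))
    (h2 : ∀ a, f (f a) = -a) : ∃ g, SpMap g ∧ ∀ a, g (f a) = Sf (g a) := by
  rcases hJ with hJ | hJ
  · obtain ⟨u, v, u', v', h, h', rfl⟩ := block_shape hf hJ
    obtain ⟨o, n, hon⟩ := invol_lin u v h fun a b => by simpa [Prod.map] using congrArg Prod.fst (h2 ((a, b), 0))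
    obtain ⟨o', n', hon'⟩ := invol_lin u' v' h' fun a b => by simpa [Prod.map] using congrArg Prod.snd (h2 (0, (a, b)))
    have hg : SpMap (Prod.map (fun e => Cf o (shf^[n.val] e)) (fun e => Cf o' (shf^[n'.val] e))) :=
      (spMap_Cf o n.val).comp (spMap_swap.comp ((spMap_Cf o' n'.val).comp spMap_swap))
    refine ⟨gS ∘ _, spMap_gS.comp hg, fun a => ?_⟩
    rw [Function.comp_apply, Function.comp_apply, ← gS_quarter]
    congr 1
    simp only [Prod.map]
    rw [← Prod.mk.eta (p := a.1), hon, ← Prod.mk.eta (p := a.2), hon']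
  · obtain ⟨u, v, u', v', h, h', rfl⟩ := anti_shape hf hJ
    refine ⟨Prod.map (lin2 u v) id, spMap_first h, fun a => ?_⟩
    have e : lin2 u v (lin2 u' v' a.2) = -a.2 := congrArg Prod.snd (h2 (0, a.2))
    simp [Prod.map, Sf, e]

/-- A map commuting with the decomposition up to sign is central, or has a commutator which is a quarter turn. -/
theorem first_comm {u v : Fin 3 × Fin 3} (h : sg3 u v = sg3 (1, 0) (0, 1)) (hne : lin2 u v ≠ id)
    (hne' : lin2 u v ≠ fun e => -e) :
    ∃ (g : Fin 3 × Fin 3 → Fin 3 × Fin 3) (k : Fin 3) (C : Fin 3 × Fin 3 → Fin 3 × Fin 3),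
      SpMap (Prod.map g id) ∧ (C = act k ∨ C = fun e => -act k e) ∧ ∀ e, C (g (lin2 u v e)) = lin2 u v (g e) := by
  rcases comm_quarter u v h with (q | q) | ⟨h12, hC⟩
  · exact absurd (funext fun e : Fin 3 × Fin 3 => q e.1 e.2) hne
  · exact absurd (funext fun e : Fin 3 × Fin 3 => q e.1 e.2) hne'
  have key : ∀ (g gi : Fin 3 × Fin 3 → Fin 3 × Fin 3), SpMap (Prod.map g id) → SpMap (Prod.map gi id) →
      (∀ e, gi (g e) = e) →
      (∀ a b : Fin 3, (fun e => lin2 u v (g ((lin2 u v)^[11] (gi e))))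
        ((fun e => lin2 u v (g ((lin2 u v)^[11] (gi e)))) (a, b)) = -(a, b)) →
      ∃ (g : Fin 3 × Fin 3 → Fin 3 × Fin 3) (k : Fin 3) (C : Fin 3 × Fin 3 → Fin 3 × Fin 3),
        SpMap (Prod.map g id) ∧ (C = act k ∨ C = fun e => -act k e) ∧ ∀ e, C (g (lin2 u v e)) = lin2 u v (g e) := by
    intro g gi hg hgi hinv hsq
    obtain ⟨C, hCd⟩ : ∃ C, C = fun e => lin2 u v (g ((lin2 u v)^[11] (gi e))) := ⟨_, rfl⟩
    rw [← hCd] at hsq
    have hpow : ∀ m, (Prod.map (lin2 u v) id : Ix → Ix)^[m] = Prod.map (lin2 u v)^[m] id := fun m => by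
      induction m with
      | zero => rfl
      | succ m ih => rw [Function.iterate_succ, ih, Prod.map_comp_map, Function.comp_id, Function.iterate_succ]
    have hCs : SpMap (Prod.map C id) := by
      have := ((spMap_first h).comp hg).comp ((hpow 11 ▸ spMap_pow (spMap_first h) 11).comp hgi)
      rw [Prod.map_comp_map, Prod.map_comp_map, Prod.map_comp_map, Function.id_comp, Function.comp_id] at this
      rw [hCd]
      exact this
    have hlin := eq_lin2 (f := C) fun a b => by simpa [Prod.map] using congrArg Prod.fst (hCs.1 (a, 0) (b, 0))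
    obtain ⟨k, hk⟩ := order_four _ _ (by simpa [sg, sg3, Prod.map] using hCs.2 ((1, 0), 0) ((0, 1), 0))
      (by rw [← hlin]; exact hsq)
    rw [← hlin] at hk
    refine ⟨g, k, C, hg, hk.imp (fun q => funext fun e => q e.1 e.2) (fun q => funext fun e => q e.1 e.2), fun e => ?_⟩
    simp only [hCd, hinv]
    congr 2
    have := h12 e.1 e.2
    rwa [Function.iterate_succ_apply] at this
  rcases hC with hC | hC
  · have h3 : SpMap (Prod.map (fun e => act 0 (act 0 (act 0 e))) id) := by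
      have := (spMap_act 0).comp ((spMap_act 0).comp (spMap_act 0))
      rwa [Prod.map_comp_map, Prod.map_comp_map, Function.comp_id, Function.comp_id] at this
    exact key (act 0) _ (spMap_act 0) h3
      (fun e => (show ∀ e, act 0 (act 0 (act 0 (act 0 e))) = e by decide +kernel) e) hC
  · have h3 : SpMap (Prod.map (fun e => shf (shf e)) id) := by
      have := spMap_shf.comp spMap_shf
      rwa [Prod.map_comp_map, Function.comp_id] at this
    exact key shf _ spMap_shf h3 (fun e => (show ∀ e, shf (shf (shf e)) = e by decide +kernel) e) hC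

end Cfsg.Agent.Classical.TriFrame
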