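/-
Identities between the standard involutions on the fixed space of the second involution.
-/
import Cfsg.Agent.Lib.Classical.TriFrame.InvMaps

set_option autoImplicit false
set_option linter.unusedSectionVars false

namespace Cfsg.Agent.Classical.TriFrame

open Matrix Kronecker
open Cfsg.Agent.Classical.LinThree.Hess

variable {F : Type*} [Field F] {ω : F}

/-- The element of square the second involution. -/
def Su (ω : F) : Matrix P9 P9 F := sw F * ((1 : Matrix (Fin 3) (Fin 3) F) ⊗ₖ Tm ω 0)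

/-- A conjugate of the first involution centralising it. -/
def j1 (ω : F) : Matrix P9 P9 F := sw F * (qm ω 0 ⊗ₖ (qm ω 0 * Tm ω 0))

theorem qm_comm_Tm (h : Om ω) : Tm ω 0 * qm ω 0 = qm ω 0 * Tm ω 0 := by
  rw [← qm_sq h 0, Matrix.mul_assoc]

theorem sw_kron_mul (A B C D : Matrix (Fin 3) (Fin 3) F) :
    sw F * (A ⊗ₖ B) * (sw F * (C ⊗ₖ D)) = (B * C) ⊗ₖ (A * D) := by
  rw [sw_kron, Matrix.mul_assoc, ← Matrix.mul_assoc (sw F), sw_mul_sw, Matrix.one_mul, ← mul_kronecker_mul]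

theorem kron_mul_sw (A B C D : Matrix (Fin 3) (Fin 3) F) :
    (A ⊗ₖ B) * (sw F * (C ⊗ₖ D)) = sw F * ((B * C) ⊗ₖ (A * D)) := by
  rw [← Matrix.mul_assoc, ← sw_kron B A, Matrix.mul_assoc, ← mul_kronecker_mul]

theorem Su_sq (h : Om ω) : Su ω * Su ω = iM ω := by
  rw [Su, sw_kron_mul, Matrix.one_mul, Matrix.mul_one, iM]

theorem iM_Su (h : Om ω) : iM ω * Su ω = Su ω * iM ω := by
  rw [Su, iM, kron_mul_sw, Matrix.mul_assoc, ← mul_kronecker_mul]
  simp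

theorem iM_j1 (h : Om ω) : iM ω * j1 ω = j1 ω * iM ω := by
  rw [j1, iM, kron_mul_sw, Matrix.mul_assoc, ← mul_kronecker_mul, ← Matrix.mul_assoc (Tm ω 0) (qm ω 0),
    qm_comm_Tm h]

theorem j1_Su (h : Om ω) : j1 ω * Su ω = Su ω * j1 ω := by
  rw [j1, Su, sw_kron_mul, sw_kron_mul, Matrix.mul_one, Matrix.one_mul, qm_comm_Tm h]

theorem j1_sq (h : Om ω) : j1 ω * j1 ω = 1 := by
  rw [j1, sw_kron_mul, ← Matrix.mul_assoc (qm ω 0), Matrix.mul_assoc (qm ω 0) (Tm ω 0), qm_comm_Tm h,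
    ← Matrix.mul_assoc (qm ω 0) (qm ω 0), qm_sq h, Tm_mul_self h, one_kronecker_one]

theorem trace_Su : (Su ω).trace = 1 := by
  rw [Su, sw_mul]
  simp only [Matrix.trace, Matrix.diag, Matrix.of_apply, kroneckerMap_apply, Fintype.sum_prod_type, Fin.sum_univ_three]
  simp [Tm, mono, pw_zero, fin_three_facts]

theorem trace_Su_iM (h : Om ω) : (Su ω * iM ω).trace = 1 := by
  rw [Su, iM, Matrix.mul_assoc, ← mul_kronecker_mul, Matrix.one_mul, Tm_mul_self h, sw_mul]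
  simp only [Matrix.trace, Matrix.diag, Matrix.of_apply, kroneckerMap_apply, Fintype.sum_prod_type, Fin.sum_univ_three]
  simp [Tm, mono, pw_zero, fin_three_facts]

theorem ident_plus (h : Om ω) : (1 + jM ω) * (1 + iM ω) * (1 + Su ω) = 0 := by
  have e : (1 + jM ω) * (1 + iM ω) * (1 + Su ω) =
      (A0 : Matrix (Fin 3) (Fin 3) F) ⊗ₖ A0 + sw F * (A0 ⊗ₖ A0) := by
    rw [show (A0 : Matrix (Fin 3) (Fin 3) F) = Tm ω 0 + 1 by rw [Tm_zero_eq, sub_add_cancel],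
      ← one_kronecker_one (m := Fin 3) (n := Fin 3)]
    simp only [jM, iM, Su, Matrix.add_mul, Matrix.mul_add, add_kronecker, kronecker_add, kron_mul_sw,
      ← mul_kronecker_mul, Matrix.one_mul, Matrix.mul_one, Tm_mul_self h]
    abel
  rw [e, sw_mul]
  ext x y
  simp only [Matrix.add_apply, Matrix.of_apply, kroneckerMap_apply, A0, vecMulVec, Matrix.zero_apply]
  ring

theorem ident_minus (h : Om ω) : (1 + j1 ω) * (1 + iM ω) * (1 - Su ω) = 0 := by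
  have hc := h.gauss_ne
  have hg := h.gauss_sq
  obtain ⟨k, hk⟩ : ∃ k : F, k = (ω - ω * ω)⁻¹ * (ω - ω * ω)⁻¹ := ⟨_, rfl⟩
  have hk3 : k * (-3) = 1 := by
    rw [hk, ← mul_inv, hg, inv_mul_cancel₀ (neg_ne_zero.mpr h.three)]
  have e : (1 + j1 ω) * (1 + iM ω) * (1 - Su ω) =
      ((1 : Matrix (Fin 3) (Fin 3) F) ⊗ₖ (1 : Matrix (Fin 3) (Fin 3) F) + Tm ω 0 ⊗ₖ Tm ω 0 - qm ω 0 ⊗ₖ qm ω 0 -
        (qm ω 0 * Tm ω 0) ⊗ₖ (qm ω 0 * Tm ω 0)) +
      sw F * (qm ω 0 ⊗ₖ (qm ω 0 * Tm ω 0) + (qm ω 0 * Tm ω 0) ⊗ₖ qm ω 0 -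
        (1 : Matrix (Fin 3) (Fin 3) F) ⊗ₖ Tm ω 0 - Tm ω 0 ⊗ₖ (1 : Matrix (Fin 3) (Fin 3) F)) := by
    have hss : ∀ M : Matrix P9 P9 F, sw F * (sw F * M) = M := fun M => by
      rw [← Matrix.mul_assoc, sw_mul_sw, Matrix.one_mul]
    rw [← one_kronecker_one (m := Fin 3) (n := Fin 3)]
    simp only [hss, j1, iM, Su, Matrix.add_mul, Matrix.mul_add, Matrix.mul_sub, kron_mul_sw, sw_kron_mul, Matrix.mul_assoc (sw F),
      ← mul_kronecker_mul, Matrix.one_mul, Matrix.mul_one, Matrix.mul_assoc (qm ω 0) (Tm ω 0), Tm_mul_self h]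
    abel
  rw [e, qm, sw_mul]
  ext ⟨a, b⟩ ⟨c, d⟩
  have hr := h.root
  fin_cases a <;> fin_cases b <;> fin_cases c <;> fin_cases d <;>
    simp [Matrix.mul_apply, Fin.sum_univ_three, Fm, Tm, mono, pw, fin_three_facts, Matrix.one_apply] <;> grind

end Cfsg.Agent.Classical.TriFrame
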