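/-
Subgroups of the centraliser of the second involution normalised by its frame part.
-/
import Cfsg.Agent.Lib.Classical.TriFrame.InvMaps

set_option autoImplicit false
set_option linter.unusedSectionVars false
set_option linter.style.haveILetI false

namespace Cfsg.Agent.Classical.TriFrame

open Matrix Kronecker
open Cfsg.Agent.Classical.LinThree.Hess

universe u

variable {F : Type u} [Field F] {ω : F} {X : Subgroup (GL P9 F)}

theorem spMap_of_acts (h : Om ω) {g : GL P9 F} {f : Ix → Ix} (hf : Acts ω (g : Matrix P9 P9 F) f) : SpMap f :=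
  ⟨hf.add h g.isUnit, hf.pres h g.isUnit⟩

theorem acts_exact (h : Om ω) {a b : GL P9 F} {f f' : Ix → Ix} (e : a = b) (ha : Acts ω (a : Matrix P9 P9 F) f)
    (hb : Acts ω (b : Matrix P9 P9 F) f') : f = f' := Acts.unique h b.isUnit (e ▸ ha) hb

theorem SpMap.bijective {f : Ix → Ix} (hf : SpMap f) : Function.Bijective f :=
  Finite.injective_iff_bijective.mp fun a b e => by
    have h0 : ∀ x : Ix, (∀ z, sg z x = 0) → x = 0 := by decide +kernel
    rw [← sub_eq_zero]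
    refine h0 _ fun z => ?_
    rw [← hf.2, sub_eq_add_neg, hf.1, hf.neg_map, e, ← sub_eq_add_neg, sub_self, sg_zero_right]

theorem lin2_neg : ∀ u v e : Fin 3 × Fin 3, lin2 u v (-e) = -lin2 u v e := by decide +kernel

variable [Fintype F] (hX : Gens ω X)

include hX

theorem isZ_of_maps {a b : GL P9 F} (ha : a ∈ CI ω X) (hb : b ∈ CI ω X) (hbN : b ∈ NN hX.om X) (haN : a ∈ NN hX.om X)
    {f f' : Ix → Ix} (hf : Acts ω (a : Matrix P9 P9 F) f) (hf' : Acts ω (b : Matrix P9 P9 F) f')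
    (he : f = f' ∨ ∀ v, f v = -f' v) : IsZ ω (a * b⁻¹) := by
  have h := hX.om
  obtain ⟨-, φ, hφ⟩ := (NN h X).mul_mem haN ((NN h X).inv_mem hbN)
  refine isZ_of_acts hX ((CI ω X).mul_mem ha ((CI ω X).inv_mem hb)) hφ ?_
  have e := acts_exact h (inv_mul_cancel_right a b) (f := φ ∘ f')
    (by rw [Units.val_mul]; exact hφ.mul hf') hf
  rcases he with rfl | hneg
  · refine Or.inl (funext fun v => ?_)
    obtain ⟨w, rfl⟩ := (spMap_of_acts h hf).bijective.2 v
    exact congrFun e w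
  · refine Or.inr (funext fun v => ?_)
    obtain ⟨w, rfl⟩ := (spMap_of_acts h hf').bijective.2 v
    exact (congrFun e w).trans (hneg w)

/-- A subgroup normalised by the frame part and holding an element centralising the first involution holds that
involution. -/
theorem kill (L : Subgroup (GL P9 F)) (hLC : L ≤ CI ω X)
    (hLn : ∀ n ∈ CI ω X, n ∈ NN hX.om X → ∀ x ∈ L, n * x * n⁻¹ ∈ L) {x : GL P9 F} (hx : x ∈ L) {f : Ix → Ix}
    (hf : Acts ω (x : Matrix P9 P9 F) f) (hJ : (∀ a, f (Jf a) = Jf (f a)) ∨ ∀ a, f (Jf a) = -Jf (f a))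
    (hne : ¬ IsZ ω x) :
    ∃ y ∈ L, y ∈ NN hX.om X ∧ ∃ φ, Acts ω (y : Matrix P9 P9 F) φ ∧ (φ = Jf ∨ ∀ v, φ v = -Jf v) := by
  have h := hX.om
  -- commutators
  have hcm : ∀ {x n : GL P9 F} {f g : Ix → Ix}, x ∈ L → Acts ω (x : Matrix P9 P9 F) f → n ∈ CI ω X → n ∈ NN h X →
      Acts ω (n : Matrix P9 P9 F) g →
      ∃ y ∈ L, ∃ φ, SpMap φ ∧ Acts ω (y : Matrix P9 P9 F) φ ∧ φ ∘ g ∘ f = f ∘ g := by
    intro x n f g hx hf hn hnN hg
    have hxN : x ∈ NN h X := ⟨(hLC hx).1, f, hf⟩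
    obtain ⟨y, hy⟩ : ∃ y, y = x * n * x⁻¹ * n⁻¹ := ⟨_, rfl⟩
    have hyN : y ∈ NN h X := hy ▸ (NN h X).mul_mem ((NN h X).mul_mem ((NN h X).mul_mem hxN hnN) ((NN h X).inv_mem hxN))
      ((NN h X).inv_mem hnN)
    obtain ⟨-, φ, hφ⟩ := hyN
    refine ⟨y, ?_, φ, spMap_of_acts h hφ, hφ, ?_⟩
    · rw [hy, show x * n * x⁻¹ * n⁻¹ = x * (n * x⁻¹ * n⁻¹) by group]
      exact L.mul_mem hx (hLn n hn hnN _ (L.inv_mem hx))
    · exact acts_exact h (show y * (n * x) = x * n by rw [hy]; group)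
        (by rw [Units.val_mul, Units.val_mul]; exact hφ.mul (hg.mul hf)) (by rw [Units.val_mul]; exact hf.mul hg)
  have hconj : ∀ {x n : GL P9 F} {f g : Ix → Ix}, x ∈ L → Acts ω (x : Matrix P9 P9 F) f → n ∈ CI ω X → n ∈ NN h X →
      Acts ω (n : Matrix P9 P9 F) g →
      ∃ y ∈ L, ∃ φ, Acts ω (y : Matrix P9 P9 F) φ ∧ φ ∘ g = g ∘ f := by
    intro x n f g hx hf hn hnN hg
    obtain ⟨-, φ, hφ⟩ := (NN h X).mul_mem ((NN h X).mul_mem hnN ⟨(hLC hx).1, f, hf⟩) ((NN h X).inv_mem hnN)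
    exact ⟨_, hLn n hn hnN x hx, φ, hφ, acts_exact h (inv_mul_cancel_right (n * x) n)
      (by rw [Units.val_mul]; exact hφ.mul hg) (by rw [Units.val_mul]; exact hg.mul hf)⟩
  -- a map moving the first factor
  have step : ∀ {x : GL P9 F} {u v u' v' : Fin 3 × Fin 3}, x ∈ L → sg3 u v = sg3 (1, 0) (0, 1) →
      sg3 u' v' = sg3 (1, 0) (0, 1) → Acts ω (x : Matrix P9 P9 F) (Prod.map (lin2 u v) (lin2 u' v')) →
      lin2 u v ≠ id → lin2 u v ≠ (fun e => -e) →
      ∃ y ∈ L, y ∈ NN h X ∧ ∃ φ, Acts ω (y : Matrix P9 P9 F) φ ∧ (φ = Jf ∨ ∀ v, φ v = -Jf v) := by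
    intro x u v u' v' hx h1 h2 hxf hne1 hne2
    obtain ⟨g, k, C, hg, hC, hCg⟩ := first_comm h1 hne1 hne2
    obtain ⟨n, hn, hnN, hnf⟩ := realise_I hX hg.1 hg.2
    obtain ⟨y, hy, φ, -, hφ, hφe⟩ := hcm hx hxf hn hnN hnf
    have hφC : φ = Prod.map C id := by
      funext a
      obtain ⟨w, hw⟩ := (hg.comp (spMap_block h1 h2)).bijective.2 a
      rw [← hw, show φ ((Prod.map g id ∘ Prod.map (lin2 u v) (lin2 u' v')) w) = _ from congrFun hφe w]
      simp [Prod.map, hCg]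
    obtain ⟨n', hn', hn'N, hn'f⟩ := realise_I hX (spMap_act (k + 1)).1 (spMap_act (k + 1)).2
    obtain ⟨z, hz, ψ, -, hψ, hψe⟩ := hcm hy (hφC ▸ hφ) hn' hn'N hn'f
    refine ⟨z, hz, ⟨(hLC hz).1, ψ, hψ⟩, ψ, hψ, Or.inl (funext fun a => ?_)⟩
    have hCs : SpMap (Prod.map C id) := hφC ▸ spMap_of_acts h hφ
    obtain ⟨w, hw⟩ := ((spMap_act (k + 1)).comp hCs).bijective.2 a
    rw [← hw, show ψ ((Prod.map (act (k + 1)) id ∘ Prod.map C id) w) = _ from congrFun hψe w]
    simp only [Function.comp_apply, Prod.map, Jf, id]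
    have e1 := (act_anti k w.1.1 w.1.2).1
    have e2 : ∀ (k : Fin 3) (v : Fin 3 × Fin 3), act k (-v) = -act k v := by decide +kernel
    rcases hC with rfl | rfl <;> simp only [e1, e2, neg_neg]
  rcases hJ with hJ | hJ
  · obtain ⟨u, v, u', v', h1, h2, rfl⟩ := block_shape (spMap_of_acts h hf) hJ
    by_cases hA : lin2 u v = id ∨ lin2 u v = fun e => -e
    · by_cases hB : lin2 u' v' = id ∨ lin2 u' v' = fun e => -e
      · refine ⟨x, hx, ⟨(hLC hx).1, _, hf⟩, _, hf, ?_⟩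
        rcases hA with hA | hA <;> rcases hB with hB | hB <;> rw [hA, hB] at hf ⊢
        · exact absurd (isZ_of_acts hX (hLC hx) hf (Or.inl Prod.map_id)) hne
        · exact Or.inr fun a => by simp [Jf, Prod.map]
        · exact Or.inl rfl
        · exact absurd (isZ_of_acts hX (hLC hx) hf (Or.inr rfl)) hne
      · push Not at hB
        obtain ⟨n, hn, hnN, hnf⟩ := realise_I hX spMap_swap.1 spMap_swap.2
        obtain ⟨y, hy, φ, hφ, hφe⟩ := hconj hx hf hn hnN hnf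
        refine step hy h2 h1 (?_ : Acts ω _ (Prod.map (lin2 u' v') (lin2 u v))) hB.1 hB.2
        convert hφ using 1
        funext a
        have := congrFun hφe (Prod.swap a)
        simp only [Function.comp_apply, Prod.swap_swap] at this
        rw [this]
        rfl
    · push Not at hA
      exact step hx h1 h2 hf hA.1 hA.2
  · obtain ⟨u, v, u', v', h1, h2, rfl⟩ := anti_shape (spMap_of_acts h hf) hJ
    obtain ⟨n, hn, hnN, hnf⟩ := realise_I hX (spMap_act 0).1 (spMap_act 0).2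
    obtain ⟨y, hy, φ, hφs, hφ, hφe⟩ := hcm hx hf hn hnN hnf
    obtain ⟨f0, hf0⟩ : ∃ f0 : Ix → Ix, f0 = fun a => (lin2 u' v' a.2, lin2 u v a.1) := ⟨_, rfl⟩
    rw [← hf0] at hφe hf
    have hf0s : SpMap f0 := spMap_of_acts h hf
    have hbij := ((spMap_act 0).comp hf0s).bijective
    have hneg1 : ∀ a : Ix, (Prod.map (act 0) id ∘ f0) (-Jf a) = Jf ((Prod.map (act 0) id ∘ f0) a) := fun a => by
      have e2 : ∀ v : Fin 3 × Fin 3, act 0 (-v) = -act 0 v := by decide +kernel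
      simp [hf0, Jf, Prod.map, lin2_neg, e2]
    have hφJ : ∀ a, φ (Jf a) = Jf (φ a) := by
      intro a
      obtain ⟨w, rfl⟩ := hbij.2 a
      rw [← hneg1, show φ ((Prod.map (act 0) id ∘ f0) (-Jf w)) = _ from congrFun hφe _,
        show φ ((Prod.map (act 0) id ∘ f0) w) = _ from congrFun hφe _]
      simp [hf0, Jf, Prod.map, lin2_neg,
        (show ∀ v : Fin 3 × Fin 3, act 0 (-v) = -act 0 v by decide +kernel)]
    obtain ⟨p, q, p', q', g1, g2, rfl⟩ := block_shape hφs hφJ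
    have hfirst : lin2 p q (0, 1) = (1, 0) := by
      obtain ⟨w, hw⟩ := hf0s.bijective.2 (((1, 0), 0) : Ix)
      have e := congrArg Prod.fst (congrFun hφe w)
      simp only [Function.comp_apply, hw, Prod.map, id] at e
      rw [show act 0 ((1 : Fin 3), (0 : Fin 3)) = (0, 1) by decide] at e
      rw [e]
      simp only [hf0, Prod.map, id] at hw ⊢
      exact congrArg Prod.fst hw
    exact step hy g1 g2 hφ (fun q0 => by rw [q0] at hfirst; exact absurd hfirst (by decide))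
      (fun q0 => by rw [q0] at hfirst; exact absurd hfirst (by decide))

end Cfsg.Agent.Classical.TriFrame
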