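/-
Transitivity on hyperbolic pairs, and the symplectic maps of square `-1`.
-/
import Cfsg.Agent.Lib.Classical.TriFrame.InvMaps

set_option autoImplicit false
set_option linter.unusedSectionVars false

namespace Cfsg.Agent.Classical.TriFrame

open Matrix Kronecker
open Cfsg.Agent.Classical.LinThree.Hess

universe u

theorem SpMap.bijective' {f : Ix → Ix} (hf : SpMap f) : Function.Bijective f :=
  Finite.injective_iff_bijective.mp fun a b e => by
    have h0 : ∀ x : Ix, (∀ z, sg z x = 0) → x = 0 := by decide +kernel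
    rw [← sub_eq_zero]
    refine h0 _ fun z => ?_
    rw [← hf.2, sub_eq_add_neg, hf.1, hf.neg_map, e, ← sub_eq_add_neg, sub_self, sg_zero_right]

variable {F : Type u} [Field F] {ω : F} {X : Subgroup (GL P9 F)} [Fintype F] (hX : Gens ω X)

include hX

/-- Every hyperbolic pair is the image of the standard one. -/
theorem exists_hyp_pair {v w : Ix} (hvw : sg v w = sg ((1, 0), 0) ((0, 1), 0)) :
    ∃ g, SpMap g ∧ g ((1, 0), 0) = v ∧ g ((0, 1), 0) = w := by
  have hv : v ≠ 0 := fun e => by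
    rw [e, sg_zero_left] at hvw
    exact absurd hvw (by decide)
  obtain ⟨g, hg, hge⟩ := real_trans hX hv
  obtain ⟨g', hg', hg'g, hgg'⟩ := hg.inv hX.om
  obtain ⟨-, ga, gs⟩ := hg'.props hX.om
  obtain ⟨-, ga0, gs0⟩ := hg.props hX.om
  obtain ⟨t, ht⟩ : ∃ t, t = g' w := ⟨_, rfl⟩
  have ht1 : t.1.2 = 1 := by
    have := gs v w
    rw [hvw, ← ht, ← hge, hg'g] at this
    revert this
    exact (show ∀ v : Ix, sg ((1, 0), 0) v = sg ((1, 0), 0) ((0, 1), 0) → v.1.2 = 1 by decide +kernel) t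
  have hs : ∀ x : Fin 3, Real ω X (Prod.map (fun a : Fin 3 × Fin 3 => (a.1 + a.2 * x, a.2)) id) := fun x =>
    real_first hX (fun a b => by simp [add_mul]; abel) ((show ∀ x : Fin 3,
      sg3 ((1 : Fin 3) + 0 * x, (0 : Fin 3)) (0 + 1 * x, 1) = sg3 (1, 0) (0, 1) by decide) x)
  have hq : ∀ k : Fin 3, Real ω X (Prod.map (act k) id) := fun k =>
    real_of_mem (hX.quarter k) ((Acts3.qm hX.om k).kron Acts3.one)
  have hdec : ∀ v : Ix, v.1.2 = 1 → ∃ (x : Fin 3) (e : Fin 3 × Fin 3),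
      (Prod.map (fun a : Fin 3 × Fin 3 => (a.1 + a.2 * x, a.2)) id ∘ (Prod.map (act 0) id ∘ Prod.map (act 0) id ∘
        Prod.map (act 0) id) ∘ (Prod.swap ∘ dgf e ∘ Prod.swap) ∘ Prod.map (act 0) id) ((1, 0), 0) = ((1, 0), 0) ∧
      (Prod.map (fun a : Fin 3 × Fin 3 => (a.1 + a.2 * x, a.2)) id ∘ (Prod.map (act 0) id ∘ Prod.map (act 0) id ∘
        Prod.map (act 0) id) ∘ (Prod.swap ∘ dgf e ∘ Prod.swap) ∘ Prod.map (act 0) id) ((0, 1), 0) = v := by
    decide +kernel
  obtain ⟨x, e, h1, h2⟩ := hdec t ht1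
  obtain ⟨k, hk⟩ : ∃ k : Ix → Ix, k = Prod.map (fun a : Fin 3 × Fin 3 => (a.1 + a.2 * x, a.2)) id ∘
      (Prod.map (act 0) id ∘ Prod.map (act 0) id ∘ Prod.map (act 0) id) ∘ (Prod.swap ∘ dgf e ∘ Prod.swap) ∘
        Prod.map (act 0) id := ⟨_, rfl⟩
  have hkr : Real ω X k := hk ▸ (hs x).comp (((hq 0).comp ((hq 0).comp (hq 0))).comp
    (((real_swap hX).comp ((real_dg hX e).comp (real_swap hX))).comp (hq 0)))
  rw [← hk] at h1 h2
  obtain ⟨-, ka, ks⟩ := hkr.props hX.om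
  refine ⟨g ∘ k, SpMap.comp ⟨ga0, gs0⟩ ⟨ka, ks⟩, ?_, ?_⟩
  · rw [Function.comp_apply, h1, hge]
  · rw [Function.comp_apply, h2, ht, hgg']

/-- A symplectic map of square `-1` is conjugate to the other involution. -/
theorem quarter_general {f : Ix → Ix} (hf : SpMap f) (h2 : ∀ a, f (f a) = -a) :
    ∃ g, SpMap g ∧ ∀ a, g (f a) = Sf (g a) := by
  have hneg : ∀ x y : Ix, sg x (-y) = -sg x y := by decide +kernel
  -- a vector not orthogonal to its image
  obtain ⟨v, hv⟩ : ∃ v, sg v (f v) ≠ 0 := by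
    by_contra hcon
    push Not at hcon
    have hz : ∀ x : Ix, (∀ z, sg z x = 0) → x = 0 := by decide +kernel
    have hd : ∀ x : Fin 3, x + x = 0 → x = 0 := by decide
    have key : ∀ u w, sg u (f w) = 0 := fun u w => by
      have e := hcon (u + w)
      rw [hf.1, sg_add_left, sg_add_right, sg_add_right, hcon u, hcon w, add_zero, zero_add] at e
      have e2 : sg w (f u) = sg u (f w) := by
        rw [← hf.2 w (f u), h2, hneg, sg_swap u (f w), neg_neg]
      rw [e2] at e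
      exact hd _ e
    have e := hz _ fun z => key z (f ((1, 0), 0))
    rw [h2] at e
    exact absurd e (by decide)
  obtain ⟨p, q, hpq, hfp⟩ : ∃ p q : Ix, sg p q = sg ((1, 0), 0) ((0, 1), 0) ∧ (f p = q ∧ f q = -p ∨ f p = -q ∧ f q = p) := by
    have hcase : ∀ x : Fin 3, x ≠ 0 → x = sg ((1, 0), 0) ((0, 1), 0) ∨ -x = sg ((1, 0), 0) ((0, 1), 0) := by
      decide +kernel
    rcases hcase _ hv with e | e
    · exact ⟨v, f v, e, Or.inl ⟨rfl, h2 v⟩⟩
    · exact ⟨f v, v, by rw [sg_swap v (f v), e], Or.inr ⟨h2 v, rfl⟩⟩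
  obtain ⟨g, hg, hge, hgf⟩ := exists_hyp_pair hX hpq
  obtain ⟨g', hg'⟩ := hg.bijective'.2.hasRightInverse
  replace hg' : ∀ a, g (g' a) = a := hg'
  have hg'g : ∀ a, g' (g a) = a := fun a => hg.bijective'.1 (hg' (g a))
  have hg's : SpMap g' := ⟨fun a b => hg.bijective'.1 (by rw [hg', hg.1, hg', hg']), fun a b => by
    rw [← hg.2, hg', hg']⟩
  obtain ⟨f1, hf1⟩ : ∃ f1, f1 = g' ∘ f ∘ g := ⟨_, rfl⟩
  have hf1s : SpMap f1 := hf1 ▸ hg's.comp (hf.comp hg)
  have h12 : ∀ a, f1 (f1 a) = -a := fun a => by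
    simp only [hf1, Function.comp_apply, hg', h2, hg's.neg_map, hg'g]
  have himg : (f1 ((1, 0), 0)).2 = 0 ∧ (f1 ((0, 1), 0)).2 = 0 := by
    simp only [hf1, Function.comp_apply, hge, hgf]
    rcases hfp with ⟨a, b⟩ | ⟨a, b⟩ <;> rw [a, b] <;> simp only [hg's.neg_map] <;>
      rw [← hge, ← hgf, hg'g, hg'g] <;> simp
  have hJ : ∀ a, f1 (Jf a) = Jf (f1 a) := by
    -- the first factor and its complement are preserved
    have h1 : ∀ a, (f1 (a, 0)).2 = 0 := fun a => by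
      have e := add_ext3 (v := fun x => (f1 (x, 0)).2.1) (v' := fun _ => 0)
        (fun x y => by rw [← Prod.fst_add, ← Prod.snd_add, ← hf1s.1]; simp) (fun x y => by simp) (by simp [himg.1])
        (by simp [himg.2]) a
      have e' := add_ext3 (v := fun x => (f1 (x, 0)).2.2) (v' := fun _ => 0)
        (fun x y => by rw [← Prod.snd_add, ← Prod.snd_add, ← hf1s.1]; simp) (fun x y => by simp) (by simp [himg.1])
        (by simp [himg.2]) a
      exact Prod.ext e e'
    have h2' : ∀ b, (f1 (0, b)).1 = 0 := fun b => by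
      have hz : ∀ x : Fin 3 × Fin 3, (∀ z, sg3 z x = 0) → x = 0 := by decide +kernel
      refine hz _ fun z => ?_
      have e := hf1s.2 (f1 (z, 0)) (0, b)
      rw [h12] at e
      have r1 : sg (-((z, 0) : Ix)) (f1 (0, b)) = -sg3 z (f1 (0, b)).1 := by
        simp only [sg, sg3, Prod.fst_neg, Prod.snd_neg, neg_zero, Prod.fst_zero, Prod.snd_zero, zero_mul, mul_zero,
          sub_zero, add_zero, mul_neg, neg_mul, neg_sub]
        abel
      have r2 : sg (f1 (z, 0)) ((0, b) : Ix) = 0 := by simp [sg, sg3, h1]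
      rw [r1, r2] at e
      exact neg_eq_zero.mp e
    intro a
    have e1 : f1 (Jf a) = f1 (-(a.1, 0)) + f1 (0, a.2) := by rw [← hf1s.1]; simp [Jf, Prod.map]
    have e2 : f1 a = f1 (a.1, 0) + f1 (0, a.2) := by rw [← hf1s.1]; simp
    rw [e1, e2, hf1s.neg_map]
    exact Prod.ext (by simp [Jf, h2']) (by simp [Jf, h1])
  obtain ⟨k, hk, hkf⟩ := quarter_type hf1s (Or.inl hJ) h12
  refine ⟨k ∘ g', hk.comp hg's, fun a => ?_⟩
  have := hkf (g' a)
  simp only [hf1, Function.comp_apply, hg'] at this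
  exact this

end Cfsg.Agent.Classical.TriFrame
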