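/-
The centraliser of the second involution in odd characteristic.
-/
import Cfsg.Agent.Lib.Classical.TriFrame.InvKill
import Cfsg.Agent.Lib.Classical.TriFrame.InvPair
import Cfsg.Agent.Lib.Classical.TriFrame.InvIdent

set_option autoImplicit false
set_option linter.unusedSectionVars false
set_option linter.style.haveILetI false

namespace Cfsg.Agent.Classical.TriFrame

open Matrix Kronecker
open Cfsg.Agent.Classical.LinThree.Hess

universe u

variable {F : Type u} [Field F] {ω : F} {X : Subgroup (GL P9 F)}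

/-- The elements acting by scalars on the fixed space. -/
def KI (ω : F) (X : Subgroup (GL P9 F)) : Subgroup (GL P9 F) where
  carrier := {x | x ∈ CI ω X ∧ ∃ c : F, c ≠ 0 ∧ (x : Matrix P9 P9 F) * (1 + iM ω) = c • (1 + iM ω)}
  one_mem' := ⟨one_mem _, 1, one_ne_zero, by simp⟩
  mul_mem' := by
    rintro a b ⟨ha, c, hc, ha'⟩ ⟨hb, d, hd, hb'⟩
    exact ⟨mul_mem ha hb, d * c, mul_ne_zero hd hc, by
      rw [Units.val_mul, Matrix.mul_assoc, hb', Matrix.mul_smul, ha', smul_smul]⟩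
  inv_mem' := by
    rintro a ⟨ha, c, hc, ha'⟩
    refine ⟨inv_mem ha, c⁻¹, inv_ne_zero hc, a.isUnit.mul_left_cancel ?_⟩
    rw [← Matrix.mul_assoc, ← Units.val_mul, mul_inv_cancel, Units.val_one, Matrix.one_mul, Matrix.mul_smul, ha',
      smul_smul, inv_mul_cancel₀ hc, one_smul]

variable [Fintype F] (hX : Gens ω X)

include hX

theorem Su_mem : ∃ g ∈ CI ω X, g ∈ NN hX.om X ∧ (g : Matrix P9 P9 F) = Su ω ∧ Acts ω (g : Matrix P9 P9 F) Sf := by
  have h := hX.om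
  obtain ⟨g, hg, e⟩ := hX.swap.mul (hX.swap.conj (jM_mem hX) (A' := (1 : Matrix (Fin 3) (Fin 3) F) ⊗ₖ Tm ω 0) (by
    rw [jM]; exact sw_kron _ _))
  replace e : (g : Matrix P9 P9 F) = Su ω := e
  have hj : Acts ω ((1 : Matrix (Fin 3) (Fin 3) F) ⊗ₖ Tm ω 0) (Prod.map id fun e => -e) :=
    Acts3.one.kron fun e => by
      obtain ⟨d, hd⟩ := Tm_zero_rm h e
      exact ⟨pw ω d, pw_ne_zero h d, hd⟩
  have hf : Acts ω (g : Matrix P9 P9 F) Sf := by
    rw [e, Su]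
    convert (Acts.sw h).mul hj using 1
    funext a
    simp [Sf, Prod.map]
  exact ⟨g, ⟨hg, by rw [e]; exact (iM_Su h).symm⟩, ⟨hg, _, hf⟩, e, hf⟩

theorem j1_mem : ∃ g ∈ CI ω X, g ∈ NN hX.om X ∧ (g : Matrix P9 P9 F) = j1 ω ∧
    Acts ω (g : Matrix P9 P9 F) (fun a => (-act 0 a.2, act 0 a.1)) := by
  have h := hX.om
  have h2 : Mem X ((1 : Matrix (Fin 3) (Fin 3) F) ⊗ₖ (qm ω 0 * Tm ω 0)) :=
    hX.swap.conj (((hX.quarter 0).mul (jM_mem hX))) (by rw [jM, ← mul_kronecker_mul, Matrix.one_mul]; exact sw_kron _ _)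
  obtain ⟨g, hg, e⟩ := hX.swap.mul ((hX.quarter 0).mul h2)
  replace e : (g : Matrix P9 P9 F) = j1 ω := by
    rw [e, j1, ← mul_kronecker_mul, Matrix.mul_one, Matrix.one_mul]
  have hq : Acts3 ω (qm ω 0 * Tm ω 0) (act 0 ∘ fun e => -e) := (Acts3.qm h 0).mul fun e => by
    obtain ⟨d, hd⟩ := Tm_zero_rm h e
    exact ⟨pw ω d, pw_ne_zero h d, hd⟩
  have hf : Acts ω (g : Matrix P9 P9 F) (fun a => (-act 0 a.2, act 0 a.1)) := by
    rw [e, j1]
    convert (Acts.sw h).mul ((Acts3.qm h 0).kron hq) using 1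
    funext a
    simp [Prod.map, (show ∀ v : Fin 3 × Fin 3, act 0 (-v) = -act 0 v by decide +kernel)]
  exact ⟨g, ⟨hg, by rw [e]; exact (iM_j1 h).symm⟩, ⟨hg, _, hf⟩, e, hf⟩

variable {p : ℕ} (hS : Setting p X) (hmix : ¬ Mixed X)

include hS hmix

/-- An element centralising the first involution modulo the trivial part. -/
theorem commJ {x jU : GL P9 F} (hj : (jU : Matrix P9 P9 F) = jM ω) (hx : x ∈ CI ω X)
    (hz : IsZ ω (x * jU * x⁻¹ * jU⁻¹)) :
    ∃ f, Acts ω (x : Matrix P9 P9 F) f ∧ x ∈ NN hX.om X ∧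
      ((∀ a, f (Jf a) = Jf (f a)) ∨ ∀ a, f (Jf a) = -Jf (f a)) := by
  have h := hX.om
  obtain ⟨z, hze⟩ : ∃ z, z = x * jU * x⁻¹ * jU⁻¹ := ⟨_, rfl⟩
  rw [← hze] at hz
  have e : x * jU = z * (jU * x) := by rw [hze]; group
  have hxN : x ∈ NN h X := cent_jbar hX hS hmix hx hz (by rw [← hj, ← Units.val_mul, e, Units.val_mul, Units.val_mul])
  obtain ⟨-, f, hf⟩ := hxN
  refine ⟨f, hf, ⟨hx.1, f, hf⟩, ?_⟩
  have hja : Acts ω (jU : Matrix P9 P9 F) Jf := hj ▸ acts_jM h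
  obtain ⟨c, hc, hzc | hzc⟩ := hz
  · refine Or.inl fun a => ?_
    exact congrFun (acts_exact h e (f := f ∘ Jf) (f' := id ∘ (Jf ∘ f)) (by rw [Units.val_mul]; exact hf.mul hja)
      (by rw [Units.val_mul, Units.val_mul, hzc]; exact (Acts.one.smul c).mul (hja.mul hf))) a
  · refine Or.inr fun a => ?_
    exact congrFun (acts_exact h e (f := f ∘ Jf) (f' := (fun a => -a) ∘ (Jf ∘ f)) (by rw [Units.val_mul]; exact hf.mul hja)
      (by rw [Units.val_mul, Units.val_mul, hzc]; exact ((acts_iM h).smul c).mul (hja.mul hf))) a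

/-- **The centraliser of the second involution, odd characteristic.** -/
theorem cent_iM_odd (h2 : (2 : F) ≠ 0) {g : GL P9 F} (hgX : g ∈ X)
    (hgi : (g : Matrix P9 P9 F) * iM ω = iM ω * (g : Matrix P9 P9 F)) : g ∈ NN hX.om X := by
  classical
  have h := hX.om
  obtain ⟨ρ, hρd⟩ : ∃ ρ : CI ω X →* CI ω X ⧸ ZI (X := X) h, ρ = QuotientGroup.mk' _ := ⟨_, rfl⟩
  have hρ1 : ∀ a : CI ω X, ρ a = 1 ↔ IsZ ω (a : GL P9 F) := fun a => by
    rw [hρd, QuotientGroup.mk'_apply, QuotientGroup.eq_one_iff, mem_ZI]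
  have hρ : ∀ a b : CI ω X, ρ a = ρ b ↔ IsZ ω ((a : GL P9 F) * (b : GL P9 F)⁻¹) := fun a b => by
    rw [← mul_inv_eq_one, ← map_inv, ← map_mul, hρ1, Subgroup.coe_mul, Subgroup.coe_inv]
  have hρs : Function.Surjective ρ := hρd ▸ QuotientGroup.mk'_surjective _
  obtain ⟨jU, hjI, hj⟩ := jM_memI hX
  obtain ⟨j, hje⟩ : ∃ j : CI ω X, j = ⟨jU, hjI⟩ := ⟨_, rfl⟩
  have hjv : (j : GL P9 F) = jU := by rw [hje]
  have hja : Acts ω (jU : Matrix P9 P9 F) Jf := hj ▸ acts_jM h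
  have hjN : jU ∈ NN h X := ⟨hjI.1, _, hja⟩
  have hjZ : ¬ IsZ ω jU := fun hz => by
    rcases isZ_iM h hz _ hja with e | e
    · exact absurd (congrFun e ((1, 0), 0)) (by decide)
    · exact absurd (congrFun e (0, (1, 0))) (by decide)
  have hj2 : ρ j * ρ j = 1 := by
    rw [← map_mul, hρ1]
    exact ⟨1, one_ne_zero, Or.inl (by rw [Subgroup.coe_mul, Units.val_mul, hjv, hj, jM_sq h, one_smul])⟩
  have hP : ∀ x : CI ω X, ((x : GL P9 F) : Matrix P9 P9 F) * (1 + iM ω) = (1 + iM ω) * ((x : GL P9 F) : Matrix P9 P9 F) :=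
    fun x => by rw [Matrix.mul_add, Matrix.add_mul, x.2.2, Matrix.mul_one, Matrix.one_mul]
  have hzP : ∀ {z : GL P9 F}, IsZ ω z → ∃ c : F, c ≠ 0 ∧ (z : Matrix P9 P9 F) * (1 + iM ω) = c • (1 + iM ω) := by
    rintro z ⟨c, hc, e | e⟩
    · exact ⟨c, hc, by rw [e, Matrix.smul_mul, Matrix.one_mul]⟩
    · exact ⟨c, hc, by rw [e, Matrix.smul_mul, Matrix.mul_add, Matrix.mul_one, iM_sq h, add_comm (iM ω) 1]⟩
  -- the kernel is trivial
  have hjK : ∀ {y : GL P9 F}, y ∈ KI ω X → y ∈ NN h X → ∀ {φ}, Acts ω (y : Matrix P9 P9 F) φ →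
      (φ = Jf ∨ ∀ v, φ v = -Jf v) → False := by
    intro y hy hyN φ hφ hφe
    obtain ⟨d, hd, hdP⟩ := hzP (isZ_of_maps hX hy.1 hjI hjN hyN hφ hja hφe)
    obtain ⟨c, hc, hyP⟩ := hy.2
    have e1 : jM ω * (1 + iM ω) = (d⁻¹ * c) • (1 + iM ω) := by
      have := hP j
      rw [hjv, hj] at this
      have e0 : (y : Matrix P9 P9 F) = ((y * jU⁻¹ : GL P9 F) : Matrix P9 P9 F) * jM ω := by
        rw [← hj, ← Units.val_mul, inv_mul_cancel_right]
      rw [e0, Matrix.mul_assoc, this, ← Matrix.mul_assoc, hdP, Matrix.smul_mul, ← this] at hyP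
      rw [← smul_smul, ← hyP, inv_smul_smul₀ hd]
    obtain ⟨e, he⟩ : ∃ e, e = d⁻¹ * c := ⟨_, rfl⟩
    rw [← he] at e1
    have e2 := congrArg Matrix.trace e1
    rw [Matrix.mul_add, Matrix.mul_one, jM_mul_iM h, Matrix.trace_add, Matrix.trace_smul, Matrix.trace_add, trace_iM,
      Matrix.trace_one, jM, trace_kronecker, trace_kronecker, trace_Tm_zero, Matrix.trace_one, smul_eq_mul,
      show (Fintype.card P9 : F) = 9 by simp [Fintype.card_prod], Fintype.card_fin] at e2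
    have e3 : e * e = 1 := by
      have e4 : (1 : Matrix P9 P9 F) + iM ω = (e * e) • (1 + iM ω) := by
        rw [← smul_smul, ← e1, ← Matrix.mul_smul, ← e1, ← Matrix.mul_assoc, jM_sq h, Matrix.one_mul]
      have t := congrArg Matrix.trace e4
      rw [Matrix.trace_smul, Matrix.trace_add, trace_iM, Matrix.trace_one, smul_eq_mul,
        show (Fintype.card P9 : F) = 9 by simp [Fintype.card_prod]] at t
      have h10 : (9 : F) + 1 ≠ 0 := fun q => by
        have h6 : (2 : F) * 3 = 0 := by push_cast at e2; linear_combination -e2 - e * q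
        exact mul_ne_zero h2 h.three h6
      exact mul_right_cancel₀ h10 (by linear_combination -t)
    push_cast at e2
    have h64 : (2 : F) * 2 * 2 * 2 * 2 * 2 = 0 := by linear_combination -(e * (9 + 1) - 6) * e2 - 100 * e3
    exact mul_ne_zero (mul_ne_zero (mul_ne_zero (mul_ne_zero (mul_ne_zero h2 h2) h2) h2) h2) h2 h64
  obtain ⟨K, hKd⟩ : ∃ K, K = ((KI ω X).subgroupOf (CI ω X)).map ρ := ⟨_, rfl⟩
  have hKn : ∀ g : CI ω X, ∀ k ∈ K, ρ g * k * (ρ g)⁻¹ ∈ K := by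
    intro g k hk
    obtain ⟨x, hx, rfl⟩ := Subgroup.mem_map.mp (hKd ▸ hk)
    rw [← map_inv, ← map_mul, ← map_mul, hKd]
    refine Subgroup.mem_map_of_mem ρ (Subgroup.mem_subgroupOf.mpr ⟨(g * x * g⁻¹).2, ?_⟩)
    obtain ⟨c, hc, hxc⟩ := (Subgroup.mem_subgroupOf.mp hx).2
    refine ⟨c, hc, ?_⟩
    rw [Subgroup.coe_mul, Subgroup.coe_mul, Units.val_mul, Units.val_mul, Matrix.mul_assoc, hP g⁻¹,
      ← Matrix.mul_assoc, Matrix.mul_assoc ((g : GL P9 F) : Matrix P9 P9 F), hxc, Matrix.mul_smul, hP g,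
      Matrix.smul_mul, Matrix.mul_assoc, ← Units.val_mul, Subgroup.coe_inv, mul_inv_cancel, Units.val_one, Matrix.mul_one]
  have hfix : ∀ k ∈ K, ρ j * k = k * ρ j → k = 1 := by
    intro k hk hjk
    obtain ⟨x, hx, rfl⟩ := Subgroup.mem_map.mp (hKd ▸ hk)
    by_contra hne
    have hz : IsZ ω ((x : GL P9 F) * jU * (x : GL P9 F)⁻¹ * jU⁻¹) := by
      have := (hρ (x * j) (j * x)).mp (by rw [map_mul, map_mul, hjk])
      rw [Subgroup.coe_mul, Subgroup.coe_mul, _root_.mul_inv_rev, hjv, ← mul_assoc] at this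
      exact this
    obtain ⟨f, hf, -, hJ⟩ := commJ hX hS hmix hj x.2 hz
    have hKI : ∀ n ∈ CI ω X, n ∈ NN h X → ∀ y ∈ KI ω X, n * y * n⁻¹ ∈ KI ω X := by
      rintro n hn - y ⟨hy, c, hc, hyc⟩
      refine ⟨mul_mem (mul_mem hn hy) (inv_mem hn), c, hc, ?_⟩
      rw [Units.val_mul, Units.val_mul, Matrix.mul_assoc, hP ⟨n⁻¹, inv_mem hn⟩, ← Matrix.mul_assoc,
        Matrix.mul_assoc (n : Matrix P9 P9 F), hyc, Matrix.mul_smul, hP ⟨n, hn⟩, Matrix.smul_mul, Matrix.mul_assoc,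
        ← Units.val_mul, mul_inv_cancel, Units.val_one, Matrix.mul_one]
    obtain ⟨y, hy, hyN, φ, hφ, hφe⟩ := kill hX (KI ω X) (fun _ hx => hx.1) hKI (Subgroup.mem_subgroupOf.mp hx) hf hJ
      (fun hzx => hne ((hρ1 x).mpr hzx))
    exact hjK hy hyN hφ hφe
  have hjinv : (ρ j)⁻¹ = ρ j := inv_eq_of_mul_eq_one_right hj2
  have hinv : ∀ k ∈ K, ρ j * k * ρ j = k⁻¹ := by
    intro k hk
    have hθ : ∀ k ∈ K, ρ j * k * ρ j ∈ K := fun k hk => by
      have := hKn j k hk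
      rwa [hjinv] at this
    obtain ⟨θ, hθd⟩ : ∃ θ : K → K, ∀ k, (θ k : CI ω X ⧸ ZI (X := X) h) = (k : CI ω X ⧸ ZI (X := X) h)⁻¹ * (ρ j * k * ρ j) :=
      ⟨fun k => ⟨_, K.mul_mem (K.inv_mem k.2) (hθ k k.2)⟩, fun k => rfl⟩
    have hθinj : Function.Injective θ := fun a b e => by
      have e' := congrArg Subtype.val e
      rw [hθd, hθd] at e'
      have e1 := hfix _ (K.mul_mem b.2 (K.inv_mem a.2))
      refine Subtype.ext (mul_inv_eq_one.mp (e1 ?_)).symm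
      calc ρ j * ((b : CI ω X ⧸ ZI (X := X) h) * (a : CI ω X ⧸ ZI (X := X) h)⁻¹)
          = (ρ j * b * ρ j) * (ρ j)⁻¹ * (a : CI ω X ⧸ ZI (X := X) h)⁻¹ := by group
        _ = (b : CI ω X ⧸ ZI (X := X) h) * ((a : CI ω X ⧸ ZI (X := X) h)⁻¹ * (ρ j * a * ρ j)) * (ρ j)⁻¹ * (a : CI ω X ⧸ ZI (X := X) h)⁻¹ := by
          rw [e', mul_inv_cancel_left]
        _ = _ := by group
    obtain ⟨a, ha⟩ := (Finite.injective_iff_surjective.mp hθinj) ⟨k, hk⟩
    have ha' := (hθd a).symm.trans (congrArg Subtype.val ha)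
    rw [← show (a : CI ω X ⧸ ZI (X := X) h)⁻¹ * (ρ j * a * ρ j) = k from ha', _root_.mul_inv_rev, inv_inv, _root_.mul_inv_rev, _root_.mul_inv_rev, hjinv]
    calc ρ j * ((a : CI ω X ⧸ ZI (X := X) h)⁻¹ * (ρ j * a * ρ j)) * ρ j
        = ρ j * (a : CI ω X ⧸ ZI (X := X) h)⁻¹ * ρ j * a * (ρ j * ρ j) := by group
      _ = _ := by rw [hj2, mul_one]; group
  obtain ⟨LI, hLI⟩ : ∃ LI, LI = (Subgroup.centralizer (K : Set (CI ω X ⧸ ZI (X := X) h))).comap ρ := ⟨_, rfl⟩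
  have hKtriv : ∀ k ∈ K, k = 1 := by
    obtain ⟨n, hn, hnN, hnf⟩ := realise_I hX spMap_gD.1 spMap_gD.2
    obtain ⟨jn, hjn⟩ : ∃ jn : CI ω X, jn = ⟨n, hn⟩ * j * ⟨n, hn⟩⁻¹ := ⟨_, rfl⟩
    have hyL : j * jn ∈ LI := by
      rw [hLI, Subgroup.mem_comap, Subgroup.mem_centralizer_iff]
      intro k hk
      obtain ⟨ν, hν⟩ : ∃ ν, ν = ρ ⟨n, hn⟩ := ⟨_, rfl⟩
      have i1 := hinv _ (K.inv_mem (hKn ⟨n, hn⟩⁻¹ k hk))
      rw [map_inv, ← hν, inv_inv, inv_inv] at i1
      have i2 := hinv _ (K.inv_mem hk)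
      rw [inv_inv] at i2
      have ejn : ρ jn = ν * ρ j * ν⁻¹ := by rw [hjn, map_mul, map_mul, map_inv, hν]
      have i3 : ρ jn * k⁻¹ * ρ jn = k := by
        rw [ejn]
        calc ν * ρ j * ν⁻¹ * k⁻¹ * (ν * ρ j * ν⁻¹)
            = ν * (ρ j * (ν⁻¹ * k * ν)⁻¹ * ρ j) * ν⁻¹ := by group
          _ = k := by rw [i1]; group
      have hjn2 : ρ jn * ρ jn = 1 := by
        rw [ejn, show ν * ρ j * ν⁻¹ * (ν * ρ j * ν⁻¹) = ν * (ρ j * ρ j) * ν⁻¹ by group, hj2]; group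
      have i4 : ρ jn * k = k⁻¹ * ρ jn := by
        calc ρ jn * k = ρ jn * (ρ jn * k⁻¹ * ρ jn) := by rw [i3]
          _ = (ρ jn * ρ jn) * k⁻¹ * ρ jn := by group
          _ = k⁻¹ * ρ jn := by rw [hjn2, one_mul]
      rw [map_mul, mul_assoc, i4, ← mul_assoc, ← mul_assoc]
      congr 1
      calc k * ρ j = (ρ j * k⁻¹ * ρ j) * ρ j := by rw [i2]
        _ = ρ j * k⁻¹ * (ρ j * ρ j) := by group
        _ = ρ j * k⁻¹ := by rw [hj2, mul_one]
    obtain ⟨-, φ, hφ⟩ : ((j * jn : CI ω X) : GL P9 F) ∈ NN h X := by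
      rw [Subgroup.coe_mul, hjn, Subgroup.coe_mul, Subgroup.coe_mul, Subgroup.coe_inv, hjv]
      exact (NN h X).mul_mem hjN ((NN h X).mul_mem ((NN h X).mul_mem hnN hjN) ((NN h X).inv_mem hnN))
    have hφe : φ ∘ gD = Jf ∘ (gD ∘ Jf) := acts_exact h
      (show ((j * jn : CI ω X) : GL P9 F) * n = jU * (n * jU) by
        rw [Subgroup.coe_mul, hjn, Subgroup.coe_mul, Subgroup.coe_mul, Subgroup.coe_inv, hjv, Subgroup.coe_mk]; group)
      (by rw [Units.val_mul]; exact hφ.mul hnf) (by rw [Units.val_mul, Units.val_mul]; exact hja.mul (hnf.mul hja))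
    have hφS : ∀ a, φ a = -Sf a := fun a => by
      obtain ⟨w, rfl⟩ := spMap_gD.bijective.2 a
      exact (congrFun hφe w).trans ((show ∀ w : Ix, Jf (gD (Jf w)) = -Sf (gD w) by decide +kernel) w)
    have hLn : ∀ n ∈ CI ω X, n ∈ NN h X → ∀ x ∈ LI.map (CI ω X).subtype, n * x * n⁻¹ ∈ LI.map (CI ω X).subtype := by
      rintro n hn - _ ⟨x, hx, rfl⟩
      refine ⟨⟨n, hn⟩ * x * ⟨n, hn⟩⁻¹, ?_, rfl⟩
      rw [SetLike.mem_coe, hLI, Subgroup.mem_comap, Subgroup.mem_centralizer_iff] at hx ⊢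
      intro k hk
      have hk' := hKn ⟨n, hn⟩⁻¹ k hk
      rw [map_inv, inv_inv] at hk'
      have e := hx _ hk'
      obtain ⟨ν, hν⟩ : ∃ ν, ν = ρ ⟨n, hn⟩ := ⟨_, rfl⟩
      rw [← hν] at e
      rw [map_mul, map_mul, map_inv, ← hν]
      calc k * (ν * ρ x * ν⁻¹) = ν * (ν⁻¹ * k * ν * ρ x) * ν⁻¹ := by group
        _ = ν * (ρ x * (ν⁻¹ * k * ν)) * ν⁻¹ := by rw [e]
        _ = _ := by group
    obtain ⟨y, hyLI, hyN, ψ, hψ, hψe⟩ := kill hX (LI.map (CI ω X).subtype)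
      (by rintro _ ⟨x, -, rfl⟩; exact x.2) hLn (x := ((j * jn : CI ω X) : GL P9 F)) ⟨_, hyL, rfl⟩ hφ
      (Or.inr fun a => by rw [hφS, hφS]; exact (show ∀ a : Ix, -Sf (Jf a) = -Jf (-Sf a) by decide +kernel) a)
      (fun hz => by
        rcases isZ_iM h hz _ hφ with q | q
        · exact absurd ((hφS ((1, 0), 0)).symm.trans (congrFun q _)) (by decide)
        · exact absurd ((hφS ((1, 0), 0)).symm.trans (congrFun q _)) (by decide))
    obtain ⟨y', hy', rfl⟩ := hyLI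
    have hyj : ρ y' = ρ j := (hρ y' j).mpr (by rw [hjv]; exact isZ_of_maps hX y'.2 hjI hjN hyN hψ hja hψe)
    intro k hk
    rw [SetLike.mem_coe, hLI, Subgroup.mem_comap, hyj, Subgroup.mem_centralizer_iff] at hy'
    exact hfix k hk (hy' k hk).symm
  have hKI_Z : ∀ x : CI ω X, (x : GL P9 F) ∈ KI ω X → ρ x = 1 := fun x hx =>
    hKtriv _ (hKd ▸ Subgroup.mem_map_of_mem ρ (Subgroup.mem_subgroupOf.mpr hx))
  -- the centraliser of the other involution
  obtain ⟨SU, hSI, hSN, hSv, hSa⟩ := Su_mem hX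
  obtain ⟨S, hSe⟩ : ∃ S : CI ω X, S = ⟨SU, hSI⟩ := ⟨_, rfl⟩
  have hSS : (S : GL P9 F) = SU := by rw [hSe]
  have hconjN : ∀ {x : CI ω X}, ρ x * ρ j = ρ j * ρ x → (x : GL P9 F) ∈ NN h X ∧
      ∃ f, Acts ω ((x : GL P9 F) : Matrix P9 P9 F) f ∧ ((∀ a, f (Jf a) = Jf (f a)) ∨ ∀ a, f (Jf a) = -Jf (f a)) := by
    intro x e
    have := (hρ (x * j) (j * x)).mp (by rw [map_mul, map_mul, e])
    rw [Subgroup.coe_mul, Subgroup.coe_mul, _root_.mul_inv_rev, hjv, ← mul_assoc] at this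
    obtain ⟨f, hf, hN, hJ⟩ := commJ hX hS hmix hj x.2 this
    exact ⟨hN, f, hf, hJ⟩
  -- conjugacy inside the frame part
  have hmove : ∀ {x y : CI ω X} {f f' g : Ix → Ix}, (x : GL P9 F) ∈ NN h X → (y : GL P9 F) ∈ NN h X →
      Acts ω ((x : GL P9 F) : Matrix P9 P9 F) f → Acts ω ((y : GL P9 F) : Matrix P9 P9 F) f' → SpMap g →
      ((∀ a, g (f a) = f' (g a)) ∨ ∀ a, g (f a) = -f' (g a)) →
      ∃ m : CI ω X, (m : GL P9 F) ∈ NN h X ∧ ρ (m * x * m⁻¹) = ρ y := by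
    intro x y f f' g hxN hyN hf hf' hg hgf
    obtain ⟨m, hm, hmN, hmf⟩ := realise_I hX hg.1 hg.2
    refine ⟨⟨m, hm⟩, hmN, (hρ _ _).mpr ?_⟩
    have hmxN : m * (x : GL P9 F) * m⁻¹ ∈ NN h X := (NN h X).mul_mem ((NN h X).mul_mem hmN hxN) ((NN h X).inv_mem hmN)
    obtain ⟨φ, hφ⟩ := hmxN.2
    have e := acts_exact h (inv_mul_cancel_right (m * (x : GL P9 F)) m) (f := φ ∘ g) (f' := g ∘ f)
      (by rw [Units.val_mul]; exact hφ.mul hmf) (by rw [Units.val_mul]; exact hmf.mul hf)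
    rw [Subgroup.coe_mul, Subgroup.coe_mul, Subgroup.coe_inv, Subgroup.coe_mk]
    refine isZ_of_maps hX (mul_mem (mul_mem hm x.2) (inv_mem hm)) y.2 hyN hmxN hφ hf' ?_
    rcases hgf with q | q
    · refine Or.inl (funext fun v => ?_)
      obtain ⟨w, rfl⟩ := hg.bijective.2 v
      exact (congrFun e w).trans (q w)
    · refine Or.inr fun v => ?_
      obtain ⟨w, rfl⟩ := hg.bijective.2 v
      exact (congrFun e w).trans (q w)
  have hcentS : ∀ x : CI ω X, ρ x * ρ S = ρ S * ρ x → (x : GL P9 F) ∈ NN h X := by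
    intro x e
    have hz := (hρ (x * S) (S * x)).mp (by rw [map_mul, map_mul, e])
    rw [Subgroup.coe_mul, Subgroup.coe_mul, hSS] at hz
    obtain ⟨z, hze⟩ : ∃ z, z = (x : GL P9 F) * SU * (SU * (x : GL P9 F))⁻¹ := ⟨_, rfl⟩
    obtain ⟨c, hc, hcP⟩ := hzP (hze ▸ hz)
    have hxS : (x : GL P9 F) * SU = z * (SU * (x : GL P9 F)) := by rw [hze]; group
    -- the projections commute
    have hSP : Su ω * (1 + iM ω) = (1 + iM ω) * Su ω := by
      rw [Matrix.mul_add, Matrix.add_mul, iM_Su h, Matrix.mul_one, Matrix.one_mul]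
    have e1 : ((x : GL P9 F) : Matrix P9 P9 F) * (Su ω * (1 + iM ω)) =
        c • (Su ω * (1 + iM ω) * ((x : GL P9 F) : Matrix P9 P9 F)) := by
      rw [← Matrix.mul_assoc, ← hSv, ← Units.val_mul, hxS, Units.val_mul, Units.val_mul, hSv, Matrix.mul_assoc,
        Matrix.mul_assoc (Su ω), hP x, ← Matrix.mul_assoc (Su ω), hSP, Matrix.mul_assoc (1 + iM ω) (Su ω),
        ← Matrix.mul_assoc, hcP, Matrix.smul_mul]
    have htrS : (Su ω * (1 + iM ω)).trace = 2 := by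
      rw [Matrix.mul_add, Matrix.mul_one, Matrix.trace_add, trace_Su, trace_Su_iM h]; norm_num
    have hc1 : c = 1 := by
      have t := congrArg (fun M => (M * (((x : GL P9 F)⁻¹ : GL P9 F) : Matrix P9 P9 F)).trace) e1
      simp only [Matrix.smul_mul, Matrix.trace_smul, smul_eq_mul] at t
      rw [Matrix.trace_units_conj, Matrix.mul_assoc (Su ω * (1 + iM ω)), ← Units.val_mul, mul_inv_cancel, Units.val_one,
        Matrix.mul_one, htrS] at t
      exact mul_right_cancel₀ h2 (t.symm.trans (one_mul _).symm)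
    rw [hc1, one_smul] at e1
    obtain ⟨j1U, hj1I, hj1N, hj1v, hj1a⟩ := j1_mem hX
    obtain ⟨A, hA⟩ : ∃ A : CI ω X, A = x * ⟨j1U, hj1I⟩ * x⁻¹ := ⟨_, rfl⟩
    obtain ⟨M, hM⟩ : ∃ M, M = ((A : GL P9 F) : Matrix P9 P9 F) := ⟨_, rfl⟩
    have hMv : M = ((x : GL P9 F) : Matrix P9 P9 F) * j1 ω * (((x : GL P9 F)⁻¹ : GL P9 F) : Matrix P9 P9 F) := by
      rw [hM, hA, Subgroup.coe_mul, Subgroup.coe_mul, Subgroup.coe_inv, Units.val_mul, Units.val_mul, Subgroup.coe_mk,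
        hj1v]
    have hxi : (((x : GL P9 F)⁻¹ : GL P9 F) : Matrix P9 P9 F) * ((x : GL P9 F) : Matrix P9 P9 F) = 1 := by
      rw [← Units.val_mul, inv_mul_cancel, Units.val_one]
    obtain ⟨Em, hEm⟩ : ∃ Em, Em = (1 + iM ω) * (1 - Su ω) := ⟨_, rfl⟩
    obtain ⟨Ep, hEp⟩ : ∃ Ep, Ep = (1 + iM ω) * (1 + Su ω) := ⟨_, rfl⟩
    have hxEm : ((x : GL P9 F) : Matrix P9 P9 F) * Em = Em * ((x : GL P9 F) : Matrix P9 P9 F) := by
      rw [hEm, Matrix.mul_sub, Matrix.mul_one, ← hSP, Matrix.mul_sub, Matrix.sub_mul, hP x, e1]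
    have hAEm : M * Em = -Em := by
      have e0 : j1 ω * Em = -Em := by
        have := ident_minus h
        rw [Matrix.mul_assoc, ← hEm, Matrix.add_mul, Matrix.one_mul] at this
        exact eq_neg_of_add_eq_zero_right this
      have hxiEm : (((x : GL P9 F)⁻¹ : GL P9 F) : Matrix P9 P9 F) * Em = Em * (((x : GL P9 F)⁻¹ : GL P9 F) : Matrix P9 P9 F) := by
        refine (x : GL P9 F).isUnit.mul_left_cancel ?_
        rw [← Matrix.mul_assoc, ← Units.val_mul, mul_inv_cancel, Units.val_one, Matrix.one_mul, ← Matrix.mul_assoc,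
          hxEm, Matrix.mul_assoc, ← Units.val_mul, mul_inv_cancel, Units.val_one, Matrix.mul_one]
      rw [hMv, Matrix.mul_assoc, hxiEm, Matrix.mul_assoc, ← Matrix.mul_assoc (j1 ω), e0, Matrix.neg_mul, Matrix.mul_neg,
        ← Matrix.mul_assoc, hxEm, Matrix.mul_assoc, ← Units.val_mul, mul_inv_cancel, Units.val_one, Matrix.mul_one]
    have hjEp : jM ω * Ep = -Ep := by
      have := ident_plus h
      rw [Matrix.mul_assoc, ← hEp, Matrix.add_mul, Matrix.one_mul] at this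
      exact eq_neg_of_add_eq_zero_right this
    have hcomP : ∀ {B : Matrix P9 P9 F}, B * (1 + iM ω) = (1 + iM ω) * B →
        B * (Su ω * (1 + iM ω)) = Su ω * (1 + iM ω) * B → B * Em = Em * B ∧ B * Ep = Ep * B := by
      intro B hB1 hB2
      constructor
      · rw [hEm, Matrix.mul_sub (1 + iM ω), Matrix.mul_one, ← hSP, Matrix.mul_sub, Matrix.sub_mul, hB1, hB2]
      · rw [hEp, Matrix.mul_add (1 + iM ω), Matrix.mul_one, ← hSP, Matrix.mul_add B, Matrix.add_mul (1 + iM ω), hB1, hB2]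
    obtain ⟨hjEm', hjEp'⟩ := hcomP (B := jM ω) (by have := hP j; rwa [hjv, hj] at this) (by
      rw [Matrix.mul_add (Su ω), Matrix.mul_one, Matrix.mul_add, Matrix.add_mul, Su, jM, iM, kron_mul_sw,
        Matrix.mul_assoc (sw F), Matrix.mul_assoc (sw F), ← mul_kronecker_mul, ← mul_kronecker_mul, kron_mul_sw]
      simp only [Matrix.mul_assoc (sw F), ← mul_kronecker_mul, Matrix.one_mul, Matrix.mul_one, Tm_mul_self h]
      abel)
    have hMS : M * (Su ω * (1 + iM ω)) = Su ω * (1 + iM ω) * M := by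
      have hxiS : (((x : GL P9 F)⁻¹ : GL P9 F) : Matrix P9 P9 F) * (Su ω * (1 + iM ω)) =
          Su ω * (1 + iM ω) * (((x : GL P9 F)⁻¹ : GL P9 F) : Matrix P9 P9 F) := by
        refine (x : GL P9 F).isUnit.mul_left_cancel ?_
        rw [← Matrix.mul_assoc, ← Units.val_mul, mul_inv_cancel, Units.val_one, Matrix.one_mul, ← Matrix.mul_assoc,
          e1, Matrix.mul_assoc, ← Units.val_mul, mul_inv_cancel, Units.val_one, Matrix.mul_one]
      have hjS : j1 ω * (Su ω * (1 + iM ω)) = Su ω * (1 + iM ω) * j1 ω := by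
        rw [← Matrix.mul_assoc, j1_Su h, Matrix.mul_assoc, Matrix.mul_assoc]
        congr 1
        rw [Matrix.mul_add, Matrix.add_mul, iM_j1 h, Matrix.mul_one, Matrix.one_mul]
      rw [hMv, Matrix.mul_assoc, hxiS, ← Matrix.mul_assoc, Matrix.mul_assoc _ (j1 ω), hjS, ← Matrix.mul_assoc, e1]
      simp only [Matrix.mul_assoc]
    obtain ⟨hMEm, hMEp⟩ := hcomP (B := M) (hM ▸ hP A) hMS
    have hAj : M * jM ω * ((1 + iM ω) * (2 : F) • (1 : Matrix P9 P9 F)) = jM ω * M * ((1 + iM ω) * (2 : F) • (1 : Matrix P9 P9 F)) := by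
      have e2 : (1 + iM ω) * (2 : F) • (1 : Matrix P9 P9 F) = Em + Ep := by
        rw [hEm, hEp, ← Matrix.mul_add, show (1 - Su ω) + (1 + Su ω) = (2 : F) • (1 : Matrix P9 P9 F) by
          rw [two_smul]; abel]
      have a1 : M * jM ω * Em = jM ω * M * Em := by
        rw [Matrix.mul_assoc, hjEm', ← Matrix.mul_assoc, hAEm, Matrix.mul_assoc, hAEm, Matrix.mul_neg, hjEm',
          Matrix.neg_mul]
      have a2 : M * jM ω * Ep = jM ω * M * Ep := by
        rw [Matrix.mul_assoc, hjEp, Matrix.mul_assoc, hMEp, ← Matrix.mul_assoc (jM ω), hjEp, Matrix.mul_neg, hMEp,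
          Matrix.neg_mul]
      rw [e2, Matrix.mul_add, Matrix.mul_add, a1, a2]
    have hAj' : M * jM ω * (1 + iM ω) = jM ω * M * (1 + iM ω) := by
      simp only [Matrix.mul_smul, Matrix.mul_one] at hAj
      exact smul_right_injective _ h2 hAj
    have hAK : ρ A * ρ j = ρ j * ρ A := by
      rw [← mul_inv_eq_one, _root_.mul_inv_rev, ← map_inv, ← map_inv, ← map_mul, ← map_mul, ← map_mul]
      refine hKI_Z _ ⟨(A * j * (A⁻¹ * j⁻¹)).2, 1, one_ne_zero, ?_⟩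
      obtain ⟨u, hu⟩ : ∃ u, u = A⁻¹ * j⁻¹ := ⟨_, rfl⟩
      rw [← hu, one_smul, Subgroup.coe_mul, Units.val_mul, Matrix.mul_assoc, hP u, ← Matrix.mul_assoc, Subgroup.coe_mul,
        Units.val_mul, ← hM, hjv, hj, hAj', ← hj, hM, ← hjv, ← Units.val_mul, ← Subgroup.coe_mul,
        Matrix.mul_assoc, ← hP u, ← Matrix.mul_assoc, ← Units.val_mul, ← Subgroup.coe_mul, hu,
        show j * A * (A⁻¹ * j⁻¹) = 1 by group, OneMemClass.coe_one, Units.val_one, Matrix.one_mul]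
    obtain ⟨hAN, f, hf, hJ⟩ := hconjN hAK
    have hf2 : ∀ a, f (f a) = a := congrFun (Acts.unique h ((A : GL P9 F) * (A : GL P9 F)).isUnit
      (by rw [Units.val_mul]; exact hf.mul hf) (by
        rw [Units.val_mul, ← hM, hMv, show ((x : GL P9 F) : Matrix P9 P9 F) * j1 ω * (((x : GL P9 F)⁻¹ : GL P9 F) : Matrix P9 P9 F) *
          (((x : GL P9 F) : Matrix P9 P9 F) * j1 ω * (((x : GL P9 F)⁻¹ : GL P9 F) : Matrix P9 P9 F)) =
          ((x : GL P9 F) : Matrix P9 P9 F) * j1 ω * ((((x : GL P9 F)⁻¹ : GL P9 F) : Matrix P9 P9 F) * ((x : GL P9 F) : Matrix P9 P9 F)) * j1 ω * (((x : GL P9 F)⁻¹ : GL P9 F) : Matrix P9 P9 F) by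
          simp only [Matrix.mul_assoc], hxi, Matrix.mul_one, Matrix.mul_assoc _ (j1 ω) (j1 ω), j1_sq h, Matrix.mul_one,
          ← Units.val_mul, mul_inv_cancel, Units.val_one]
        exact Acts.one))
    have hj1Z : ρ ⟨j1U, hj1I⟩ ≠ 1 := fun q => by
      rcases isZ_iM h ((hρ1 _).mp q) _ hj1a with r | r
      · exact absurd (congrFun r ((1, 0), 0)) (by decide)
      · exact absurd (congrFun r ((1, 0), 0)) (by decide)
    rcases invol_type (spMap_of_acts h hf) hJ hf2 with hid | ⟨g, hg, hgf⟩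
    · exfalso
      refine hj1Z ?_
      have := (hρ1 A).mpr (isZ_of_acts hX A.2 hf hid)
      rwa [hA, map_mul, map_mul, map_inv, conj_eq_one_iff] at this
    · obtain ⟨m, hmN, hm⟩ := hmove hAN (hjv ▸ hjN) hf (hjv ▸ hja) hg hgf
      have hj1J : ∀ a : Ix, (fun a : Ix => ((-act 0 a.2, act 0 a.1) : Ix)) (Jf a) =
          -Jf ((fun a : Ix => ((-act 0 a.2, act 0 a.1) : Ix)) a) := by decide +kernel
      rcases invol_type (spMap_of_acts h hj1a) (Or.inr hj1J) (by decide +kernel) with r | ⟨g1, hg1, hgf1⟩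
      · rcases r with r | r <;> exact absurd (congrFun r ((1, 0), 0)) (by decide)
      obtain ⟨m1, hm1N, hm1⟩ := hmove (x := ⟨j1U, hj1I⟩) hj1N (hjv ▸ hjN) hj1a (hjv ▸ hja) hg1 hgf1
      have hfin : ρ (m * x * m1⁻¹) * ρ j = ρ j * ρ (m * x * m1⁻¹) := by
        obtain ⟨κ, hκ⟩ : ∃ κ, κ = ρ ⟨j1U, hj1I⟩ := ⟨_, rfl⟩
        simp only [hA, map_mul, map_inv, ← hκ] at hm hm1
        simp only [map_mul, map_inv]
        conv_lhs => rw [← hm1]
        conv_rhs => rw [← hm]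
        group
      have := (NN h X).mul_mem ((NN h X).mul_mem ((NN h X).inv_mem hmN) (hconjN hfin).1) hm1N
      rwa [Subgroup.coe_mul, Subgroup.coe_mul, Subgroup.coe_inv, mul_assoc (m : GL P9 F), inv_mul_cancel_left,
        inv_mul_cancel_right] at this
  -- the general element
  obtain ⟨x, hx⟩ : ∃ x : CI ω X, (x : GL P9 F) = g := ⟨⟨g, hgX, hgi⟩, rfl⟩
  rw [← hx]
  obtain ⟨a, ha⟩ : ∃ a, a = ρ j := ⟨_, rfl⟩
  obtain ⟨b, hb⟩ : ∃ b : CI ω X, b = x * S * x⁻¹ := ⟨_, rfl⟩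
  have hb2 : ρ b * ρ b = 1 := by
    have hS2 : ρ S * ρ S = 1 := by
      rw [← map_mul, hρ1]
      exact ⟨1, one_ne_zero, Or.inr (by rw [Subgroup.coe_mul, Units.val_mul, hSS, hSv, Su_sq h, one_smul])⟩
    rw [hb, map_mul, map_mul, map_inv, show ρ x * ρ S * (ρ x)⁻¹ * (ρ x * ρ S * (ρ x)⁻¹) = ρ x * (ρ S * ρ S) * (ρ x)⁻¹ by group,
      hS2, mul_one, mul_inv_cancel]
  have hb1 : ρ b ≠ 1 := by
    rw [hb, map_mul, map_mul, map_inv, Ne, conj_eq_one_iff, hρ1, hSS]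
    intro hz
    rcases isZ_iM h hz _ hSa with r | r
    · exact absurd (congrFun r ((1, 0), 0)) (by decide)
    · exact absurd (congrFun r ((1, 0), 0)) (by decide)
  have hbN : (b : GL P9 F) ∈ NN h X := by
    -- the product has even order
    obtain ⟨t, ht⟩ : ∃ t, t = ρ j * ρ b := ⟨_, rfl⟩
    have hrev : ρ j * t * ρ j = t⁻¹ ∧ ρ b * t * ρ b = t⁻¹ := by
      have hbi : (ρ b)⁻¹ = ρ b := inv_eq_of_mul_eq_one_right hb2
      constructor
      · rw [ht, _root_.mul_inv_rev, hjinv, hbi, ← mul_assoc, hj2, one_mul]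
      · rw [ht, _root_.mul_inv_rev, hjinv, hbi, mul_assoc, mul_assoc, hb2, mul_one]
    have hpow : ∀ m : ℕ, ρ j * t ^ m * ρ j = (t ^ m)⁻¹ ∧ ρ b * t ^ m * ρ b = (t ^ m)⁻¹ := fun m => by
      have hbi : (ρ b)⁻¹ = ρ b := inv_eq_of_mul_eq_one_right hb2
      constructor
      · conv_lhs => arg 2; rw [← hjinv]
        rw [← conj_pow, hjinv, hrev.1, inv_pow]
      · conv_lhs => arg 2; rw [← hbi]
        rw [← conj_pow, hbi, hrev.2, inv_pow]
    rcases Nat.even_or_odd' (orderOf t) with ⟨m, hm | hm⟩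
    · obtain ⟨y, hy⟩ := hρs (t ^ m)
      have hm0 : 0 < m := by have := orderOf_pos t; omega
      have hne : t ^ m ≠ 1 := pow_ne_one_of_lt_orderOf (by omega) (by omega)
      have hsq : t ^ m * t ^ m = 1 := by rw [← pow_add, ← two_mul, ← hm, pow_orderOf_eq_one]
      have hinvm : (t ^ m)⁻¹ = t ^ m := inv_eq_of_mul_eq_one_right hsq
      have hcj : ρ y * ρ j = ρ j * ρ y := by
        rw [hy]
        calc t ^ m * ρ j = (ρ j * t ^ m * ρ j) * ρ j := by rw [(hpow m).1, hinvm]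
          _ = ρ j * t ^ m * (ρ j * ρ j) := by group
          _ = ρ j * t ^ m := by rw [hj2, mul_one]
      have hcb : ρ y * ρ b = ρ b * ρ y := by
        rw [hy]
        calc t ^ m * ρ b = (ρ b * t ^ m * ρ b) * ρ b := by rw [(hpow m).2, hinvm]
          _ = ρ b * t ^ m * (ρ b * ρ b) := by group
          _ = ρ b * t ^ m := by rw [hb2, mul_one]
      obtain ⟨hyN, f, hf, hJ⟩ := hconjN hcj
      have hff := isZ_iM h ((hρ1 (y * y)).mp (by rw [map_mul, hy, hsq])) (f ∘ f)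
        (by rw [Subgroup.coe_mul, Units.val_mul]; exact hf.mul hf)
      have hyne : ¬ (f = id ∨ f = fun a => -a) := fun q => hne (hy ▸ (hρ1 y).mpr (isZ_of_acts hX y.2 hf q))
      rcases hff with q | q
      · rcases invol_type (spMap_of_acts h hf) hJ (fun a => congrFun q a) with r | ⟨k, hk, hkf⟩
        · exact absurd r hyne
        obtain ⟨n, hnN, hn⟩ := hmove hyN (hjv ▸ hjN) hf (hjv ▸ hja) hk hkf
        have := (hconjN (x := n * b * n⁻¹) (by
          rw [← hn, ← map_mul, ← map_mul, show n * b * n⁻¹ * (n * y * n⁻¹) = n * (b * y) * n⁻¹ by group,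
            show n * y * n⁻¹ * (n * b * n⁻¹) = n * (y * b) * n⁻¹ by group, map_mul _ _ n⁻¹, map_mul _ _ (b * y),
            map_mul _ _ n⁻¹, map_mul _ _ (y * b), map_mul _ b, map_mul _ y, hcb])).1
        have := (NN h X).mul_mem ((NN h X).mul_mem ((NN h X).inv_mem hnN) this) hnN
        rwa [Subgroup.coe_mul, Subgroup.coe_mul, Subgroup.coe_inv, mul_assoc (n : GL P9 F), inv_mul_cancel_left,
          inv_mul_cancel_right] at this
      · obtain ⟨k, hk, hkf⟩ := quarter_general hX (spMap_of_acts h hf) (fun a => congrFun q a)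
        obtain ⟨n, hnN, hn⟩ := hmove hyN (hSS ▸ hSN) hf (hSS ▸ hSa) hk (Or.inl hkf)
        have := hcentS (n * b * n⁻¹) (by
          rw [← hn, ← map_mul, ← map_mul, show n * b * n⁻¹ * (n * y * n⁻¹) = n * (b * y) * n⁻¹ by group,
            show n * y * n⁻¹ * (n * b * n⁻¹) = n * (y * b) * n⁻¹ by group, map_mul _ _ n⁻¹, map_mul _ _ (b * y),
            map_mul _ _ n⁻¹, map_mul _ _ (y * b), map_mul _ b, map_mul _ y, hcb])
        have := (NN h X).mul_mem ((NN h X).mul_mem ((NN h X).inv_mem hnN) this) hnN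
        rwa [Subgroup.coe_mul, Subgroup.coe_mul, Subgroup.coe_inv, mul_assoc (n : GL P9 F), inv_mul_cancel_left,
          inv_mul_cancel_right] at this
    · exfalso
      obtain ⟨y, hy⟩ := hρs (t ^ m)
      have e : ρ y * ρ j * (ρ y)⁻¹ = ρ b := by
        rw [hy, ← (hpow m).1]
        calc t ^ m * ρ j * (ρ j * t ^ m * ρ j) = t ^ m * (ρ j * ρ j) * t ^ m * ρ j := by group
          _ = t ^ (2 * m) * ρ j := by rw [hj2, mul_one, two_mul, pow_add]
          _ = ρ b := by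
            have e' : t ^ (2 * m) * t = 1 := by rw [← pow_succ, ← hm, pow_orderOf_eq_one]
            rw [eq_inv_of_mul_eq_one_left e', ht, _root_.mul_inv_rev, hjinv, mul_assoc, hj2, mul_one]
            exact inv_eq_of_mul_eq_one_right hb2
      rw [← map_inv, ← map_mul, ← map_mul, hρ] at e
      obtain ⟨z, hze⟩ : ∃ z, z = ((y * j * y⁻¹ : CI ω X) : GL P9 F) * (b : GL P9 F)⁻¹ := ⟨_, rfl⟩
      have hz : IsZ ω z := hze ▸ e
      have e2 : z * (b : GL P9 F) = ((y * j * y⁻¹ : CI ω X) : GL P9 F) := by rw [hze, inv_mul_cancel_right]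
      obtain ⟨c, hc, hzc⟩ := hz
      have hzb : Commute (z : Matrix P9 P9 F) ((b : GL P9 F) : Matrix P9 P9 F) := by
        rcases hzc with r | r <;> rw [r]
        · exact (Commute.one_left _).smul_left c
        · exact (show Commute (iM ω) ((b : GL P9 F) : Matrix P9 P9 F) from b.2.2.symm).smul_left c
      have hy2 : ((y * j * y⁻¹ : CI ω X) : GL P9 F) * ((y * j * y⁻¹ : CI ω X) : GL P9 F) = 1 := by
        rw [← Subgroup.coe_mul, show y * j * y⁻¹ * (y * j * y⁻¹) = y * (j * j) * y⁻¹ by group, show j * j = 1 from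
          Subtype.ext (Units.ext (by rw [Subgroup.coe_mul, Units.val_mul, hjv, hj, jM_sq h, OneMemClass.coe_one, Units.val_one])),
          mul_one, mul_inv_cancel, OneMemClass.coe_one]
      have hbsq : ((b : GL P9 F) : Matrix P9 P9 F) * ((b : GL P9 F) : Matrix P9 P9 F) = iM ω := by
        rw [hb, Subgroup.coe_mul, Subgroup.coe_mul, Subgroup.coe_inv, ← Units.val_mul,
          show (x : GL P9 F) * (S : GL P9 F) * (x : GL P9 F)⁻¹ * ((x : GL P9 F) * (S : GL P9 F) * (x : GL P9 F)⁻¹) =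
            (x : GL P9 F) * ((S : GL P9 F) * (S : GL P9 F)) * (x : GL P9 F)⁻¹ by group,
          Units.val_mul, Units.val_mul, Units.val_mul, hSS, hSv, Su_sq h, x.2.2, Matrix.mul_assoc, ← Units.val_mul,
          mul_inv_cancel, Units.val_one, Matrix.mul_one]
      have e3 : (1 : Matrix P9 P9 F) = (c * c) • iM ω := by
        calc (1 : Matrix P9 P9 F) = (z : Matrix P9 P9 F) * ((b : GL P9 F) : Matrix P9 P9 F) *
              ((z : Matrix P9 P9 F) * ((b : GL P9 F) : Matrix P9 P9 F)) := by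
              rw [← Units.val_mul, ← Units.val_mul, e2, hy2, Units.val_one]
          _ = (z : Matrix P9 P9 F) * (z : Matrix P9 P9 F) * iM ω := by
              rw [← hbsq]
              simp only [Matrix.mul_assoc]
              rw [← Matrix.mul_assoc ((b : GL P9 F) : Matrix P9 P9 F) (z : Matrix P9 P9 F), ← hzb.eq, Matrix.mul_assoc]
          _ = (c * c) • iM ω := by
              rcases hzc with r | r <;> rw [r] <;>
                simp only [Matrix.smul_mul, Matrix.mul_smul, smul_smul, Matrix.one_mul, iM_sq h]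
      have := Acts.unique h (1 : GL P9 F).isUnit (f := id) (f' := fun a => -a) (by rw [Units.val_one]; exact Acts.one)
        (by rw [Units.val_one, e3]; exact (acts_iM h).smul _)
      exact absurd (congrFun this ((1, 0), 0)) (by decide)
  obtain ⟨-, φ, hφ⟩ := hbN
  have hφ2 : ∀ a, φ (φ a) = -a := congrFun (Acts.unique h ((b : GL P9 F) * (b : GL P9 F)).isUnit
    (f := φ ∘ φ) (f' := fun a => -a) (by rw [Units.val_mul]; exact hφ.mul hφ) (by
      rw [show (b : GL P9 F) * (b : GL P9 F) = (x : GL P9 F) * (SU * SU) * (x : GL P9 F)⁻¹ by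
        rw [hb, Subgroup.coe_mul, Subgroup.coe_mul, Subgroup.coe_inv, hSS]; group, Units.val_mul, Units.val_mul,
        Units.val_mul, hSv, Su_sq h, x.2.2, Matrix.mul_assoc, ← Units.val_mul, mul_inv_cancel, Units.val_one,
        Matrix.mul_one]
      exact acts_iM h))
  obtain ⟨k, hk, hkf⟩ := quarter_general hX (spMap_of_acts h hφ) hφ2
  obtain ⟨n, hnN, hn⟩ := hmove (x := b) ⟨b.2.1, φ, hφ⟩ (hSS ▸ hSN) hφ (hSS ▸ hSa) hk (Or.inl hkf)
  have := hcentS (n * x) (by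
    conv_rhs => rw [← hn, hb]
    simp only [map_mul, map_inv]
    group)
  have := (NN h X).mul_mem ((NN h X).inv_mem hnN) this
  rwa [Subgroup.coe_mul, inv_mul_cancel_left] at this

end Cfsg.Agent.Classical.TriFrame
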