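/-
The four-dimensional space of the second involution in characteristic two.
-/
import Cfsg.Agent.Lib.Classical.TriFrame.InvKill

set_option autoImplicit false
set_option linter.unusedSectionVars false
set_option linter.style.haveILetI false

namespace Cfsg.Agent.Classical.TriFrame

open Matrix Kronecker
open Cfsg.Agent.Classical.LinThree.Hess

universe u

variable {F : Type u} [Field F] {ω : F} {X : Subgroup (GL P9 F)}

/-- Representatives of the pairs moved by the involution. -/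
def pp : Fin 4 → P9 := ![(0, 1), (1, 0), (1, 1), (1, 2)]

theorem pp_cases : ∀ x : P9, x = 0 ∨ ∃ k, x = pp k ∨ x = -pp k := by decide +kernel

theorem pp_ne : ∀ k l, pp k ≠ -pp l ∧ (pp k = pp l → k = l) ∧ pp k ≠ 0 := by decide +kernel

/-- The vector on the representatives. -/
def half (c : Fin 4 → F) (x : P9) : F := ∑ k, if x = pp k then c k else 0

/-- The symmetric vector. -/
def io (c : Fin 4 → F) (x : P9) : F := half c x + half c (-x)

/-- The sums over the pairs. -/
def pi4 (v : P9 → F) (k : Fin 4) : F := v (pp k) + v (-pp k)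

theorem half_pp (c : Fin 4 → F) (k : Fin 4) : half c (pp k) = c k := by
  rw [half, Finset.sum_eq_single k (fun l _ hl => if_neg fun e => hl ((pp_ne k l).2.1 e).symm)
    (fun hk => absurd (Finset.mem_univ k) hk), if_pos rfl]

theorem half_neg (c : Fin 4 → F) (k : Fin 4) : half c (-pp k) = 0 :=
  Finset.sum_eq_zero fun l _ => if_neg fun e => (pp_ne l k).1 e.symm

theorem half_zero_ix (c : Fin 4 → F) : half c 0 = 0 :=
  Finset.sum_eq_zero fun l _ => if_neg fun e => (pp_ne l l).2.2 e.symm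

theorem io_pp (c : Fin 4 → F) (k : Fin 4) : io c (pp k) = c k := by rw [io, half_pp, half_neg, add_zero]

theorem io_neg (c : Fin 4 → F) (x : P9) : io c (-x) = io c x := by rw [io, io, neg_neg, add_comm]

theorem io_zero_ix (c : Fin 4 → F) : io c 0 = 0 := by rw [io, neg_zero, half_zero_ix, add_zero]

theorem pi4_half (c : Fin 4 → F) : pi4 (half c) = c := by funext k; rw [pi4, half_pp, half_neg, add_zero]

theorem io_inj {c c' : Fin 4 → F} (e : io c = io c') : c = c' := by
  funext k; rw [← io_pp c k, ← io_pp c' k, e]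

theorem pi4_add (v w : P9 → F) : pi4 (v + w) = pi4 v + pi4 w := by
  funext k; simp only [pi4, Pi.add_apply]; abel

theorem pi4_smul (a : F) (v : P9 → F) : pi4 (a • v) = a • pi4 v := by
  funext k; simp only [pi4, Pi.smul_apply, smul_eq_mul, mul_add]

theorem io_smul (a : F) (c : Fin 4 → F) : io (a • c) = a • io c := by
  funext x; simp only [io, half, Pi.smul_apply, smul_eq_mul, mul_add, Finset.mul_sum, mul_ite, mul_zero]

theorem iM_mulVec (v : P9 → F) (x : P9) : (iM ω *ᵥ v) x = v (-x) := by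
  obtain ⟨a, b⟩ := x
  fin_cases a <;> fin_cases b <;>
    simp [iM, Tm, mono, Matrix.mulVec, dotProduct, Fintype.sum_prod_type, Fin.sum_univ_three, kroneckerMap_apply,
      pw_zero, fin_three_facts]

theorem diff_io [CharP F 2] (v : P9 → F) : v + iM ω *ᵥ v = io (pi4 v) := by
  funext x
  rw [Pi.add_apply, iM_mulVec]
  rcases pp_cases x with rfl | ⟨k, rfl | rfl⟩
  · rw [io_zero_ix, neg_zero, CharTwo.add_self_eq_zero]
  · rw [io_pp]; rfl
  · rw [io_neg, io_pp, neg_neg, add_comm]; rfl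

/-- The action on the four-dimensional space. -/
def phi4 (M : Matrix P9 P9 F) (c : Fin 4 → F) : Fin 4 → F := pi4 (M *ᵥ half c)

/-- The action on the middle line. -/
def mu0 (M : Matrix P9 P9 F) : F := (M *ᵥ Pi.single 0 1) 0

variable [CharP F 2] {x y : Matrix P9 P9 F} (hx : x * iM ω = iM ω * x)

include hx

theorem mulVec_io (c : Fin 4 → F) : x *ᵥ io c = io (phi4 x c) := by
  conv_lhs => rw [← pi4_half c, ← diff_io (ω := ω), Matrix.mulVec_add, Matrix.mulVec_mulVec, hx, ← Matrix.mulVec_mulVec,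
    diff_io]
  rfl

theorem pi4_mulVec (v : P9 → F) : pi4 (x *ᵥ v) = phi4 x (pi4 v) := by
  refine io_inj ?_
  rw [← diff_io (ω := ω), Matrix.mulVec_mulVec, ← hx, ← Matrix.mulVec_mulVec, ← Matrix.mulVec_add, diff_io,
    mulVec_io hx]

theorem phi4_mul (c : Fin 4 → F) : phi4 (x * y) c = phi4 x (phi4 y c) := by
  rw [phi4, ← Matrix.mulVec_mulVec, pi4_mulVec hx]; rfl

theorem pi4_single : pi4 (Pi.single 0 1 : P9 → F) = 0 := by
  funext k
  have h1 := (pp_ne k k).2.2
  simp [pi4, h1]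

theorem decomp_J {v : P9 → F} (hv : pi4 v = 0) : ∃ c, v = v 0 • (Pi.single 0 1 : P9 → F) + io c := by
  refine ⟨fun k => v (pp k), funext fun z => ?_⟩
  rw [Pi.add_apply, Pi.smul_apply, smul_eq_mul]
  rcases pp_cases z with rfl | ⟨k, rfl | rfl⟩
  · simp [io_zero_ix]
  · simp [io_pp, (pp_ne k k).2.2]
  · have e := congrFun hv k
    rw [pi4, Pi.zero_apply, CharTwo.add_eq_zero] at e
    simp [io_neg, io_pp, neg_eq_zero, (pp_ne k k).2.2, e]

theorem phi4_zero : phi4 x 0 = 0 := by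
  rw [phi4, show half (0 : Fin 4 → F) = 0 by funext z; simp [half], Matrix.mulVec_zero]
  funext k; simp [pi4]

theorem mu0_mul (hy : y * iM ω = iM ω * y) : mu0 (x * y) = mu0 x * mu0 y := by
  obtain ⟨c, hc⟩ := decomp_J hx (v := y *ᵥ Pi.single 0 1) (by rw [pi4_mulVec hy, pi4_single hx, phi4_zero hy])
  rw [mu0, ← Matrix.mulVec_mulVec, hc, Matrix.mulVec_add, Matrix.mulVec_smul, mulVec_io hx, Pi.add_apply, Pi.smul_apply,
    io_zero_ix, add_zero, smul_eq_mul, mul_comm]
  rfl

/-- Elements trivial on the space and the line are unipotent. -/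
theorem pow_four (h1 : ∀ c, phi4 x c = c) (h2 : mu0 x = 1) : x ^ 4 = 1 := by
  have hD1 : ∀ v, ∃ (a : F) (c : Fin 4 → F), x *ᵥ v + v = a • (Pi.single 0 1 : P9 → F) + io c := fun v =>
    ⟨_, decomp_J hx (v := x *ᵥ v + v) (by rw [pi4_add, pi4_mulVec hx, h1]; funext k; exact CharTwo.add_self_eq_zero _)⟩
  obtain ⟨c0, hc0⟩ : ∃ c0, x *ᵥ (Pi.single 0 1 : P9 → F) + Pi.single 0 1 = io c0 := by
    obtain ⟨a, c, e⟩ := hD1 (Pi.single 0 1)
    refine ⟨c, ?_⟩
    have e0 := congrFun e 0
    rw [Pi.add_apply, Pi.add_apply, Pi.smul_apply, io_zero_ix, add_zero, smul_eq_mul, Pi.single_eq_same, mul_one,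
      show (x *ᵥ Pi.single 0 1) 0 = 1 from h2, CharTwo.add_self_eq_zero] at e0
    rw [e, ← e0, zero_smul, zero_add]
  obtain ⟨D, hD⟩ : ∃ D, D = x + 1 := ⟨_, rfl⟩
  have hDv : ∀ v, D *ᵥ v = x *ᵥ v + v := fun v => by rw [hD, Matrix.add_mulVec, Matrix.one_mulVec]
  have hD3 : ∀ v, D *ᵥ (D *ᵥ (D *ᵥ v)) = 0 := fun v => by
    obtain ⟨a, c, e⟩ := hD1 v
    have hio : ∀ c, D *ᵥ io c = 0 := fun c => by
      rw [hDv, mulVec_io hx, h1]; funext z; exact CharTwo.add_self_eq_zero _
    rw [hDv v, e, Matrix.mulVec_add, Matrix.mulVec_smul, hio, add_zero, Matrix.mulVec_smul, hDv (Pi.single 0 1), hc0, hio, smul_zero]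
  have h3 : D * D * D = 0 := Matrix.ext_of_mulVec_single fun k => by
    rw [← Matrix.mulVec_mulVec, ← Matrix.mulVec_mulVec, hD3, Matrix.zero_mulVec]
  have h4 : (x + 1) * (x + 1) * ((x + 1) * (x + 1)) = 0 := by
    rw [← hD, ← Matrix.mul_assoc, h3, Matrix.zero_mul]
  have h22 : ∀ A : Matrix P9 P9 F, A + A = 0 := fun A => by ext i j; exact CharTwo.add_self_eq_zero _
  have hsq : ∀ A : Matrix P9 P9 F, (A + 1) * (A + 1) = A * A + 1 := fun A => by
    rw [Matrix.add_mul, Matrix.mul_add, Matrix.one_mul, Matrix.mul_one, show A * A + A + (A + 1) = A * A + 1 + (A + A) by abel,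
      h22, add_zero]
  rw [hsq, hsq, ← pow_two, ← pow_two, ← pow_mul] at h4
  calc x ^ 4 = x ^ 4 + 1 + 1 := by rw [add_assoc, h22, add_zero]
    _ = 1 := by rw [show x ^ (2 * 2) = x ^ 4 from rfl] at h4; rw [h4, zero_add]

end Cfsg.Agent.Classical.TriFrame
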