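/-
The centraliser of the second involution in characteristic two.
-/
import Cfsg.Agent.Lib.Classical.TriFrame.InvTwoSpace
import Cfsg.Agent.Lib.Classical.TriFrame.TransU

set_option autoImplicit false
set_option linter.unusedSectionVars false
set_option linter.style.haveILetI false

namespace Cfsg.Agent.Classical.TriFrame

open Matrix Kronecker Cfsg.Geo
open Cfsg.Agent.Classical
open Cfsg.Agent.Classical.LinThree.Hess

universe u

variable {F : Type u} [Field F] {ω : F} {X : Subgroup (GL P9 F)} {σ : F ≃+* F}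

/-- The centre of the transvection induced by the first involution. -/
def z0 : Fin 4 → F := ![0, 0, 1, 1]

/-- The Hermitian product on the four-dimensional space. -/
def f4 (σ : F ≃+* F) (c c' : Fin 4 → F) : F := ∑ k, c k * σ (c' k)

theorem f4_add_left (a b c : Fin 4 → F) : f4 σ (a + b) c = f4 σ a c + f4 σ b c := by
  simp only [f4, Pi.add_apply, add_mul, Finset.sum_add_distrib]

theorem f4_smul_left (t : F) (a c : Fin 4 → F) : f4 σ (t • a) c = t * f4 σ a c := by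
  simp only [f4, Pi.smul_apply, smul_eq_mul, Finset.mul_sum, mul_assoc]

/-- A monomial element. -/
theorem mono_acts {g : Matrix P9 P9 F} {w : P9 → F} {π : P9 → P9} (hg : ∀ v x, (g *ᵥ v) x = w x * v (π x))
    (hw : ∀ x, w (-x) = w x) (hπ : ∀ x, π (-x) = -π x) :
    g * iM ω = iM ω * g ∧ ∀ c k, phi4 g c k = w (pp k) * io c (π (pp k)) := by
  refine ⟨Matrix.ext_of_mulVec_single fun k => funext fun x => ?_, fun c k => ?_⟩
  · rw [← Matrix.mulVec_mulVec, ← Matrix.mulVec_mulVec, hg, iM_mulVec, iM_mulVec, hg, hw, hπ]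
  · rw [phi4, pi4, hg, hg, hw, hπ, io, mul_add]

theorem sw_vec (v : P9 → F) (x : P9) : (sw F *ᵥ v) x = (-1) * v (x.2, x.1) := by
  simp [sw, Matrix.mulVec, dotProduct, ite_mul, Finset.sum_ite_eq']

theorem dg_vec (h : Om ω) (v : P9 → F) (x : P9) : (dg ω 0 (1, 0) *ᵥ v) x = 1 * v (x.1 - x.2, x.2) := by
  obtain ⟨a, b⟩ := x
  fin_cases a <;> fin_cases b <;>
    simp [dg, rp, rm, mono, Matrix.mulVec, dotProduct, blockDiagonal_apply, Fintype.sum_prod_type, Fin.sum_univ_three,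
      pw_zero, fin_three_facts]

theorem sh_vec (v : P9 → F) (x : P9) :
    ((sh ω ⊗ₖ (1 : Matrix (Fin 3) (Fin 3) F)) *ᵥ v) x = pw ω (x.1 * x.1) * v x := by
  obtain ⟨a, b⟩ := x
  fin_cases a <;> fin_cases b <;>
    simp [sh, mono, Matrix.mulVec, dotProduct, kroneckerMap_apply, Fintype.sum_prod_type, Fin.sum_univ_three, pw_zero,
      fin_three_facts]

variable [Fintype F] (hX : Gens ω X)

include hX

/-- A centre orthogonal to a given isotropic vector. -/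
theorem exists_centre [CharP F 2] (hσ : IsUSigma 2 σ) {z : Fin 4 → F} (hz : f4 σ z z = 0) :
    ∃ n ∈ CI ω X, n ∈ NN hX.om X ∧ f4 σ z (phi4 (n : Matrix P9 P9 F) z0) = 0 := by
  have h := hX.om
  have hcube : ∀ x : F, x ≠ 0 → x * x * x = 1 := fun x hx => by
    have e := FiniteField.pow_card_sub_one_eq_one x hx
    rw [hσ.card] at e
    linear_combination e
  have hN : ∀ x : F, x ≠ 0 → x * σ x = 1 := fun x hx => by
    rw [hσ.apply_eq, pow_two, ← mul_assoc]; exact hcube x hx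
  -- the three generators
  obtain ⟨S, hS, hSe⟩ := hX.swap
  obtain ⟨D, hD, hDe⟩ := hX.lin 0 (1, 0)
  obtain ⟨T, hT, hTe⟩ := hX.shear
  obtain ⟨hSc, hSp⟩ := mono_acts (ω := ω) (g := sw F) (w := fun _ => -1) (π := fun x => (x.2, x.1)) sw_vec
    (fun _ => rfl) (fun _ => rfl)
  obtain ⟨hDc, hDp⟩ := mono_acts (ω := ω) (g := dg ω 0 (1, 0)) (w := fun _ => 1) (π := fun x => (x.1 - x.2, x.2)) (dg_vec h)
    (fun _ => rfl) (by decide +kernel)
  obtain ⟨hTc, hTp⟩ := mono_acts (ω := ω) (g := sh ω ⊗ₖ (1 : Matrix (Fin 3) (Fin 3) F)) (w := fun x => pw ω (x.1 * x.1))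
    (π := id) sh_vec (fun x => by
      congr 1
      exact (show ∀ a : Fin 3, -a * -a = a * a by decide) x.1) (fun _ => rfl)
  have hSI : S ∈ CI ω X := ⟨hS, by rw [hSe]; exact hSc⟩
  have hDI : D ∈ CI ω X := ⟨hD, by rw [hDe]; exact hDc⟩
  have hTI : T ∈ CI ω X := ⟨hT, by rw [hTe]; exact hTc⟩
  have hSN : S ∈ NN h X := ⟨hS, _, hSe ▸ Acts.sw h⟩
  have hDN : D ∈ NN h X := ⟨hD, _, hDe ▸ Acts.dg h 0 (1, 0)⟩
  have hTN : T ∈ NN h X := ⟨hT, _, hTe ▸ (Acts3.sh h).kron Acts3.one⟩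
  have q : ∀ k, pp k = ![((0 : Fin 3), (1 : Fin 3)), (1, 0), (1, 1), (1, 2)] k := fun _ => rfl
  have hS4 : ∀ c, phi4 (S : Matrix P9 P9 F) c = ![c 1, c 0, c 2, c 3] := fun c => by
    funext k
    rw [hSe, hSp]
    fin_cases k
    · show (-1 : F) * io c (pp 1) = c 1
      rw [io_pp, CharTwo.neg_eq, one_mul]
    · show (-1 : F) * io c (pp 0) = c 0
      rw [io_pp, CharTwo.neg_eq, one_mul]
    · show (-1 : F) * io c (pp 2) = c 2
      rw [io_pp, CharTwo.neg_eq, one_mul]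
    · show (-1 : F) * io c (-pp 3) = c 3
      rw [io_neg, io_pp, CharTwo.neg_eq, one_mul]
  have hD4 : ∀ c, phi4 (D : Matrix P9 P9 F) c = ![c 3, c 1, c 0, c 2] := fun c => by
    funext k
    rw [hDe, hDp]
    fin_cases k
    · show (1 : F) * io c (-pp 3) = c 3
      rw [io_neg, io_pp, one_mul]
    · show (1 : F) * io c (pp 1) = c 1
      rw [io_pp, one_mul]
    · show (1 : F) * io c (pp 0) = c 0
      rw [io_pp, one_mul]
    · show (1 : F) * io c (-pp 2) = c 2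
      rw [io_neg, io_pp, one_mul]
  have hT4 : ∀ c, phi4 (T : Matrix P9 P9 F) c = ![c 0, ω * c 1, ω * c 2, ω * c 3] := fun c => by
    funext k
    rw [hTe, hTp, id, io_pp, q]
    fin_cases k <;> simp [pw, fin_three_facts]
  have hTt : ∀ (t : ℕ) c, phi4 ((T ^ t : GL P9 F) : Matrix P9 P9 F) c = ![c 0, ω ^ t * c 1, ω ^ t * c 2, ω ^ t * c 3] := by
    intro t
    induction t with
    | zero =>
      intro c
      rw [pow_zero, Units.val_one, phi4, Matrix.one_mulVec, pi4_half]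
      funext k; fin_cases k <;> simp
    | succ t ih =>
      intro c
      rw [pow_succ', Units.val_mul, phi4_mul hTI.2, ih, hT4]
      funext k; fin_cases k <;> simp [pow_succ] <;> ring
  -- the three pairs
  have hfam : ∀ l : Fin 4, l ≠ 0 → ∃ n ∈ CI ω X, n ∈ NN h X ∧
      phi4 (n : Matrix P9 P9 F) z0 = fun k => if k = 0 ∨ k = l then 1 else 0 := by
    have e3 : phi4 (D : Matrix P9 P9 F) z0 = ![1, 0, 0, 1] := by rw [hD4]; simp [z0]
    have e2 : phi4 ((D * D : GL P9 F) : Matrix P9 P9 F) z0 = ![1, 0, 1, 0] := by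
      rw [Units.val_mul, phi4_mul hDI.2, e3, hD4]; simp
    have e1 : phi4 ((D * (S * D) : GL P9 F) : Matrix P9 P9 F) z0 = ![1, 1, 0, 0] := by
      rw [Units.val_mul, phi4_mul hDI.2, Units.val_mul, phi4_mul hSI.2, e3, hS4, hD4]; simp
    intro l hl
    fin_cases l
    · exact absurd rfl hl
    · refine ⟨_, mul_mem hDI (mul_mem hSI hDI), (NN h X).mul_mem hDN ((NN h X).mul_mem hSN hDN), ?_⟩
      rw [e1]; funext k; fin_cases k <;> simp
    · refine ⟨_, mul_mem hDI hDI, (NN h X).mul_mem hDN hDN, ?_⟩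
      rw [e2]; funext k; fin_cases k <;> simp
    · refine ⟨_, hDI, hDN, ?_⟩
      rw [e3]; funext k; fin_cases k <;> simp
  -- a pair where both coordinates vanish or neither does
  obtain ⟨l, hl, hlz⟩ : ∃ l : Fin 4, l ≠ 0 ∧ (z 0 = 0 ↔ z l = 0) := by
    by_contra hcon
    push Not at hcon
    have a1 := hcon 1 (by decide)
    have a2 := hcon 2 (by decide)
    have a3 := hcon 3 (by decide)
    rw [f4, Fin.sum_univ_four] at hz
    by_cases h0 : z 0 = 0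
    · have n1 : z 1 ≠ 0 := by tauto
      have n2 : z 2 ≠ 0 := by tauto
      have n3 : z 3 ≠ 0 := by tauto
      rw [h0, zero_mul, hN _ n1, hN _ n2, hN _ n3, zero_add, CharTwo.add_self_eq_zero, zero_add] at hz
      exact one_ne_zero hz
    · have n1 : z 1 = 0 := by tauto
      have n2 : z 2 = 0 := by tauto
      have n3 : z 3 = 0 := by tauto
      rw [hN _ h0, n1, n2, n3, zero_mul, add_zero, add_zero, add_zero] at hz
      exact one_ne_zero hz
  obtain ⟨n, hn, hnN, hne⟩ := hfam l hl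
  obtain ⟨t, ht⟩ : ∃ t : ℕ, z 0 + z l * σ (ω ^ t) = 0 := by
    by_cases h0 : z 0 = 0
    · exact ⟨0, by rw [h0, hlz.mp h0, zero_mul, add_zero]⟩
    · have hl0 : z l ≠ 0 := fun e => h0 (hlz.mpr e)
      obtain ⟨m, hm⟩ := pw_exists h (μ := z 0 / z l) (hcube _ (div_ne_zero h0 hl0))
      refine ⟨2 * m.val, ?_⟩
      have e : σ (ω ^ (2 * m.val)) = pw ω m := by
        rw [hσ.apply_eq, pw, ← pow_mul, show 2 * m.val * 2 = m.val + 3 * m.val by ring, pow_add, pow_mul ω 3,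
          show ω ^ 3 = 1 by linear_combination h.cube, one_pow, mul_one]
      rw [e, ← hm, mul_div_cancel₀ _ hl0, CharTwo.add_self_eq_zero]
  refine ⟨T ^ t * n, mul_mem (pow_mem hTI t) hn, (NN h X).mul_mem ((NN h X).pow_mem hTN t) hnN, ?_⟩
  rw [Units.val_mul, phi4_mul (pow_mem hTI t : T ^ t ∈ CI ω X).2, hne, hTt, f4, Fin.sum_univ_four]
  fin_cases l
  · exact absurd rfl hl
  all_goals
    simp at ht ⊢
    linear_combination ht

/-- **The centraliser of the second involution, characteristic two.** -/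
theorem cent_iM_two [CharP F 2] (hσ : IsUSigma 2 σ) (hI : Iso σ X) {p : ℕ} (hS : Setting p X) (hmix : ¬ Mixed X)
    (commJ : ∀ {x jU : GL P9 F}, (jU : Matrix P9 P9 F) = jM ω → x ∈ CI ω X → IsZ ω (x * jU * x⁻¹ * jU⁻¹) →
      ∃ f, Acts ω (x : Matrix P9 P9 F) f ∧ x ∈ NN hX.om X ∧
        ((∀ a, f (Jf a) = Jf (f a)) ∨ ∀ a, f (Jf a) = -Jf (f a))) {g : GL P9 F} (hgX : g ∈ X)
    (hgi : (g : Matrix P9 P9 F) * iM ω = iM ω * (g : Matrix P9 P9 F)) : g ∈ NN hX.om X := by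
  classical
  have h := hX.om
  have hinv2 := hσ.involutive
  obtain ⟨ρ, hρd⟩ : ∃ ρ : CI ω X →* CI ω X ⧸ ZI (X := X) h, ρ = QuotientGroup.mk' _ := ⟨_, rfl⟩
  have hρ1 : ∀ a : CI ω X, ρ a = 1 ↔ IsZ ω (a : GL P9 F) := fun a => by
    rw [hρd, QuotientGroup.mk'_apply, QuotientGroup.eq_one_iff, mem_ZI]
  have hρ : ∀ a b : CI ω X, ρ a = ρ b ↔ IsZ ω ((a : GL P9 F) * (b : GL P9 F)⁻¹) := fun a b => by
    rw [← mul_inv_eq_one, ← map_inv, ← map_mul, hρ1, Subgroup.coe_mul, Subgroup.coe_inv]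
  obtain ⟨jU, hjI, hj⟩ := jM_memI hX
  obtain ⟨j, hje⟩ : ∃ j : CI ω X, j = ⟨jU, hjI⟩ := ⟨_, rfl⟩
  have hjv : (j : GL P9 F) = jU := by rw [hje]
  have hja : Acts ω (jU : Matrix P9 P9 F) Jf := hj ▸ acts_jM h
  have hjN : jU ∈ NN h X := ⟨hjI.1, _, hja⟩
  obtain ⟨φ, hφd⟩ : ∃ φ : CI ω X → (Fin 4 → F) → Fin 4 → F, ∀ x c, φ x c = phi4 ((x : GL P9 F) : Matrix P9 P9 F) c :=
    ⟨_, fun _ _ => rfl⟩
  have hφm : ∀ x y c, φ (x * y) c = φ x (φ y c) := fun x y c => by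
    rw [hφd, hφd, hφd, Subgroup.coe_mul, Units.val_mul, phi4_mul x.2.2]
  have hφ1 : ∀ c, φ 1 c = c := fun c => by rw [hφd, OneMemClass.coe_one, Units.val_one, phi4, Matrix.one_mulVec, pi4_half]
  have hφi : ∀ x c, φ x (φ x⁻¹ c) = c := fun x c => by rw [← hφm, mul_inv_cancel, hφ1]
  have hφadd : ∀ x c c', φ x (c + c') = φ x c + φ x c' := fun x c c' => by
    rw [hφd, hφd, hφd, ← pi4_half c, ← pi4_half c', ← pi4_add, ← pi4_mulVec x.2.2, Matrix.mulVec_add, pi4_add,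
      pi4_mulVec x.2.2, pi4_mulVec x.2.2, pi4_half, pi4_half]
  have hφsmul : ∀ x (a : F) c, φ x (a • c) = a • φ x c := fun x a c => by
    rw [hφd, hφd, ← pi4_half c, ← pi4_smul, ← pi4_mulVec x.2.2, Matrix.mulVec_smul, pi4_smul, pi4_mulVec x.2.2,
      pi4_half]
  have hμ : ∀ x y : CI ω X, mu0 ((((x * y : CI ω X) : GL P9 F)) : Matrix P9 P9 F) =
      mu0 ((x : GL P9 F) : Matrix P9 P9 F) * mu0 ((y : GL P9 F) : Matrix P9 P9 F) := fun x y => by
    rw [Subgroup.coe_mul, Units.val_mul, mu0_mul x.2.2 y.2.2]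
  have hμ1 : mu0 (((1 : CI ω X) : GL P9 F) : Matrix P9 P9 F) = 1 := by
    rw [OneMemClass.coe_one, Units.val_one, mu0, Matrix.one_mulVec, Pi.single_eq_same]
  -- the kernel
  obtain ⟨U, hU⟩ : ∃ U : Subgroup (CI ω X), ∀ x, x ∈ U ↔ (∀ c, φ x c = c) ∧ mu0 ((x : GL P9 F) : Matrix P9 P9 F) = 1 :=
    ⟨{ carrier := {x | (∀ c, φ x c = c) ∧ mu0 ((x : GL P9 F) : Matrix P9 P9 F) = 1}
       one_mem' := ⟨hφ1, hμ1⟩
       mul_mem' := by
        rintro a b ⟨ha, ha'⟩ ⟨hb, hb'⟩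
        exact ⟨fun c => by rw [hφm, hb, ha], by rw [hμ, ha', hb', one_mul]⟩
       inv_mem' := by
        rintro a ⟨ha, ha'⟩
        refine ⟨fun c => ?_, ?_⟩
        · rw [← ha (φ a⁻¹ c), hφi]
        · have := hμ a a⁻¹
          rw [mul_inv_cancel, hμ1, ha', one_mul] at this
          exact this.symm }, fun x => Iff.rfl⟩
  have hUn : ∀ g x, x ∈ U → g * x * g⁻¹ ∈ U := fun g x hx => by
    obtain ⟨h1, h2⟩ := (hU x).mp hx
    refine (hU _).mpr ⟨fun c => by rw [hφm, hφm, h1, hφi], ?_⟩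
    rw [hμ, hμ, h2, mul_one, ← hμ, mul_inv_cancel, hμ1]
  -- the first involution induces a transvection
  obtain ⟨hjc, hjp⟩ := mono_acts (ω := ω) (g := jM ω) (w := fun _ => (-1 : F)) (π := fun x => (-x.1, x.2)) (fun v x => by
      obtain ⟨a, b⟩ := x
      fin_cases a <;> fin_cases b <;>
        simp [jM, Tm, mono, Matrix.mulVec, dotProduct, kroneckerMap_apply, Fintype.sum_prod_type, Fin.sum_univ_three,
          pw_zero, fin_three_facts]) (fun _ => rfl) (fun _ => rfl)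
  have hjt : ∀ c, φ j c = c + f4 σ c z0 • z0 := fun c => by
    funext k
    rw [hφd, hjv, hj, hjp, CharTwo.neg_eq, one_mul, Pi.add_apply, Pi.smul_apply, smul_eq_mul]
    have e : f4 σ c z0 = c 2 + c 3 := by simp [f4, z0, Fin.sum_univ_four]
    rw [e]
    fin_cases k
    · show io c (pp 0) = c 0 + _ * (0 : F)
      rw [io_pp, mul_zero, add_zero]
    · show io c (-pp 1) = c 1 + _ * (0 : F)
      rw [io_neg, io_pp, mul_zero, add_zero]
    · show io c (-pp 3) = c 2 + _ * (1 : F)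
      rw [io_neg, io_pp, mul_one, ← add_assoc, CharTwo.add_self_eq_zero, zero_add]
    · show io c (-pp 2) = c 3 + _ * (1 : F)
      rw [io_neg, io_pp, mul_one, add_comm (c 2), ← add_assoc, CharTwo.add_self_eq_zero, zero_add]
  have hzphi : ∀ {z : CI ω X}, IsZ ω (z : GL P9 F) → ∃ a : F, ∀ c, φ z c = a • c := by
    rintro z ⟨a, -, e | e⟩ <;> refine ⟨a, fun c => ?_⟩
    · rw [hφd, e, phi4, Matrix.smul_mulVec, Matrix.one_mulVec, pi4_smul, pi4_half]
    · rw [hφd, e, phi4, Matrix.smul_mulVec, pi4_smul]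
      congr 1
      funext k
      rw [pi4, iM_mulVec, iM_mulVec, neg_neg, add_comm, ← pi4]
      exact congrFun (pi4_half c) k
  have hUZ : ∀ x, x ∈ U → ρ x = 1 := by
    have hfix : ∀ x, x ∈ U → ρ j * ρ x = ρ x * ρ j → ρ x = 1 := by
      intro x hx hjx
      by_contra hne
      have hz := (hρ (x * j) (j * x)).mp (by rw [map_mul, map_mul, hjx])
      rw [Subgroup.coe_mul, Subgroup.coe_mul, _root_.mul_inv_rev, hjv, ← mul_assoc] at hz
      obtain ⟨f, hf, -, hJ⟩ := commJ hj x.2 hz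
      obtain ⟨y, ⟨y', hy', rfl⟩, hyN, ψ, hψ, hψe⟩ := kill hX (U.map (CI ω X).subtype) (by rintro _ ⟨y, -, rfl⟩; exact y.2)
        (by rintro n hn - _ ⟨y, hy, rfl⟩; exact ⟨⟨n, hn⟩ * y * ⟨n, hn⟩⁻¹, hUn _ _ hy, rfl⟩)
        (x := (x : GL P9 F)) ⟨x, hx, rfl⟩ hf hJ (fun hzx => hne ((hρ1 x).mpr hzx))
      obtain ⟨a, ha⟩ := hzphi (z := y' * j⁻¹) (by
        rw [Subgroup.coe_mul, Subgroup.coe_inv, hjv]
        exact isZ_of_maps hX y'.2 hjI hjN hyN hψ hja hψe)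
      have e : ∀ c, c = a • φ j c := fun c => by
        rw [← ha, ← hφm, inv_mul_cancel_right]; exact (((hU y').mp hy').1 c).symm
      have e1 := congrFun (e ![0, 0, 1, 0]) 2
      rw [hjt] at e1
      simp [f4, z0, Fin.sum_univ_four, CharTwo.add_self_eq_zero] at e1
    intro x hx
    by_contra hne
    have h4 : ∀ w, w ∈ U → (ρ w) ^ 4 = 1 := fun w hw => by
      rw [← map_pow, hρ1, SubgroupClass.coe_pow]
      refine ⟨1, one_ne_zero, Or.inl ?_⟩
      rw [one_smul, Units.val_pow_eq_pow_val]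
      exact pow_four w.2.2 (fun c => by rw [← hφd]; exact ((hU w).mp hw).1 c) ((hU w).mp hw).2
    -- a fixed involution
    have hj2 : ρ j * ρ j = 1 := by
      rw [← map_mul, hρ1]
      exact ⟨1, one_ne_zero, Or.inl (by rw [Subgroup.coe_mul, Units.val_mul, hjv, hj, jM_sq h, one_smul])⟩
    have hjinv : (ρ j)⁻¹ = ρ j := inv_eq_of_mul_eq_one_right hj2
    obtain ⟨u, hu⟩ : ∃ u, u = x * (j * x * j⁻¹) := ⟨_, rfl⟩
    have hxj : j * x * j⁻¹ ∈ U := hUn j x hx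
    obtain ⟨w, hw, hw1, hw2⟩ : ∃ w ∈ U, ρ w ≠ 1 ∧ ρ w * ρ w = 1 := by
      by_cases e : ρ x * ρ x = 1
      · exact ⟨x, hx, hne, e⟩
      · refine ⟨x * x, U.mul_mem hx hx, by rwa [map_mul], ?_⟩
        rw [map_mul, ← h4 x hx, pow_succ, pow_succ, pow_two, mul_assoc (ρ x * ρ x)]
    obtain ⟨v, hv⟩ : ∃ v, v = w * (j * w * j⁻¹) := ⟨_, rfl⟩
    have hvU : v ∈ U := hv ▸ U.mul_mem hw (hUn j w hw)
    obtain ⟨a, ha⟩ : ∃ a, a = ρ w := ⟨_, rfl⟩
    obtain ⟨s, hs⟩ : ∃ s, s = ρ j * a * ρ j := ⟨_, rfl⟩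
    have hsv : ρ v = a * s := by rw [hv, map_mul, map_mul, map_mul, map_inv, hjinv, ← ha, hs]
    have hai : a⁻¹ = a := inv_eq_of_mul_eq_one_right (ha ▸ hw2)
    have hsi : s⁻¹ = s := by rw [hs, _root_.mul_inv_rev, _root_.mul_inv_rev, hai, hjinv, mul_assoc]
    by_cases hv1 : ρ v = 1
    · refine hw1 (hfix w hw ?_)
      rw [hsv, mul_eq_one_iff_eq_inv, hsi, hs] at hv1
      rw [← ha]
      conv_rhs => rw [hv1, mul_assoc, hj2, mul_one]
    · obtain ⟨k, hk, hk2, hkj⟩ : ∃ k ∈ U, ρ k ≠ 1 ∧ ρ j * ρ k = ρ k * ρ j := by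
        have hconj : ρ j * ρ v * ρ j = (ρ v)⁻¹ := by
          rw [hsv, _root_.mul_inv_rev, hai, hsi, hs]
          calc ρ j * (a * (ρ j * a * ρ j)) * ρ j = ρ j * a * ρ j * a * (ρ j * ρ j) := by group
            _ = _ := by rw [hj2, mul_one]
        by_cases e : ρ v * ρ v = 1
        · refine ⟨v, hvU, hv1, ?_⟩
          rw [inv_eq_of_mul_eq_one_right e] at hconj
          conv_rhs => rw [← hconj, mul_assoc, hj2, mul_one]
        · refine ⟨v * v, U.mul_mem hvU hvU, by rwa [map_mul], ?_⟩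
          have h22 : ρ v * ρ v * (ρ v * ρ v) = 1 := by
            rw [← h4 v hvU, pow_succ, pow_succ, pow_two, mul_assoc (ρ v * ρ v)]
          have e2 : ρ j * (ρ v * ρ v) * ρ j = ρ v * ρ v := by
            calc ρ j * (ρ v * ρ v) * ρ j = ρ j * ρ v * (ρ j * ρ j) * ρ v * ρ j := by rw [hj2]; group
              _ = (ρ j * ρ v * ρ j) * (ρ j * ρ v * ρ j) := by group
              _ = (ρ v * ρ v)⁻¹ := by rw [hconj]; group
              _ = _ := inv_eq_of_mul_eq_one_right h22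
          rw [map_mul]
          conv_rhs => rw [← e2, mul_assoc (ρ j * (ρ v * ρ v)), hj2, mul_one]
      exact hk2 (hfix k hk hkj)
  -- the general element
  obtain ⟨x, hx⟩ : ∃ x : CI ω X, (x : GL P9 F) = g := ⟨⟨g, hgX, hgi⟩, rfl⟩
  rw [← hx]
  obtain ⟨A, hA⟩ : ∃ A : CI ω X, A = x * j * x⁻¹ := ⟨_, rfl⟩
  have hherm : ∀ (y : CI ω X) c c', f4 σ (φ y c) (φ y c') = f4 σ c c' := by
    have e : ∀ (c : Fin 4 → F) (v : P9 → F), hm σ (io c) v = f4 σ c (pi4 v) := fun c v => by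
      have i0 : io c ((0 : Fin 3), (0 : Fin 3)) = 0 := io_zero_ix c
      have i1 : io c ((0 : Fin 3), (1 : Fin 3)) = c 0 := io_pp c 0
      have i1' : io c ((0 : Fin 3), (2 : Fin 3)) = c 0 := (io_neg c (pp 0)).trans (io_pp c 0)
      have i2 : io c ((1 : Fin 3), (0 : Fin 3)) = c 1 := io_pp c 1
      have i2' : io c ((2 : Fin 3), (0 : Fin 3)) = c 1 := (io_neg c (pp 1)).trans (io_pp c 1)
      have i3 : io c ((1 : Fin 3), (1 : Fin 3)) = c 2 := io_pp c 2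
      have i3' : io c ((2 : Fin 3), (2 : Fin 3)) = c 2 := (io_neg c (pp 2)).trans (io_pp c 2)
      have i4 : io c ((1 : Fin 3), (2 : Fin 3)) = c 3 := io_pp c 3
      have i4' : io c ((2 : Fin 3), (1 : Fin 3)) = c 3 := (io_neg c (pp 3)).trans (io_pp c 3)
      simp only [hm, cj, dotProduct, Fintype.sum_prod_type, Fin.sum_univ_three, i0, i1, i1', i2, i2', i3, i3', i4, i4',
        f4, Fin.sum_univ_four, pi4, map_add]
      simp [pp, fin_three_facts]
      ring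
    intro y c c'
    rw [hφd y c', phi4, ← e, hφd, ← mulVec_io y.2.2, hI _ y.2.1, e, pi4_half]
  obtain ⟨z, hz⟩ : ∃ z, z = φ x z0 := ⟨_, rfl⟩
  have hiso : f4 σ z z = 0 := by
    rw [hz, hherm]; simp [f4, z0, Fin.sum_univ_four, CharTwo.add_self_eq_zero]
  obtain ⟨n, hn, hnN, hzn⟩ := exists_centre hX hσ hiso
  have htrans : ∀ (y : CI ω X) c, φ (y * j * y⁻¹) c = c + f4 σ c (φ y z0) • φ y z0 := fun y c => by
    rw [hφm, hφm, hjt, hφadd, hφsmul, hφi, ← hherm y (φ y⁻¹ c) z0, hφi]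
  obtain ⟨m, hm⟩ : ∃ m : CI ω X, m = ⟨n, hn⟩ := ⟨_, rfl⟩
  have hmz : φ m z0 = phi4 (n : Matrix P9 P9 F) z0 := by rw [hφd, hm]
  rw [← hmz] at hzn
  have hzn' : f4 σ (φ m z0) z = 0 := by
    have : σ (f4 σ z (φ m z0)) = f4 σ (φ m z0) z := by simp only [f4, map_sum, map_mul, hinv2, mul_comm]
    rw [← this, hzn, map_zero]
  obtain ⟨B, hB⟩ : ∃ B : CI ω X, B = m * j * m⁻¹ := ⟨_, rfl⟩
  have hAB : ∀ c, φ (A * B) c = φ (B * A) c := fun c => by
    rw [hφm, hφm, hA, hB, htrans, htrans, htrans, htrans, ← hz, f4_add_left, f4_add_left, f4_smul_left, f4_smul_left,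
      hzn, hzn', mul_zero, mul_zero, add_zero, add_zero]
    abel
  have hcomm : ρ A * ρ B = ρ B * ρ A := by
    rw [← mul_inv_eq_one, _root_.mul_inv_rev, ← map_inv, ← map_inv, ← map_mul, ← map_mul, ← map_mul]
    refine hUZ _ ((hU _).mpr ⟨fun c => ?_, ?_⟩)
    · rw [hφm, hAB, ← hφm, show B * A * (A⁻¹ * B⁻¹) = 1 by group, hφ1]
    · rw [hμ, hμ, hμ, mul_mul_mul_comm, ← hμ, mul_inv_cancel, hμ1, one_mul, ← hμ, mul_inv_cancel, hμ1]
  obtain ⟨C, hC⟩ : ∃ C : CI ω X, C = m⁻¹ * A * m := ⟨_, rfl⟩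
  have hCj : ρ C * ρ j = ρ j * ρ C := by
    have e := congrArg (fun a => (ρ m)⁻¹ * a * ρ m) hcomm
    simp only [hB, map_mul, map_inv] at e
    rw [hC, map_mul, map_mul, map_inv]
    calc (ρ m)⁻¹ * ρ A * ρ m * ρ j = (ρ m)⁻¹ * (ρ A * (ρ m * ρ j * (ρ m)⁻¹)) * ρ m := by group
      _ = (ρ m)⁻¹ * (ρ m * ρ j * (ρ m)⁻¹ * ρ A) * ρ m := e
      _ = _ := by group
  have hcj : ∀ {y : CI ω X}, ρ y * ρ j = ρ j * ρ y → (y : GL P9 F) ∈ NN h X ∧
      ∃ f, Acts ω ((y : GL P9 F) : Matrix P9 P9 F) f ∧ ((∀ a, f (Jf a) = Jf (f a)) ∨ ∀ a, f (Jf a) = -Jf (f a)) := by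
    intro y e
    have := (hρ (y * j) (j * y)).mp (by rw [map_mul, map_mul, e])
    rw [Subgroup.coe_mul, Subgroup.coe_mul, _root_.mul_inv_rev, hjv, ← mul_assoc] at this
    obtain ⟨f, hf, hN, hJ⟩ := commJ hj y.2 this
    exact ⟨hN, f, hf, hJ⟩
  obtain ⟨hCN, f, hf, hJ⟩ := hcj hCj
  have hC2 : C * C = 1 := by
    have hjj : j * j = 1 :=
      Subtype.ext (Units.ext (by rw [Subgroup.coe_mul, Units.val_mul, hjv, hj, jM_sq h, OneMemClass.coe_one, Units.val_one]))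
    rw [hC, hA, show m⁻¹ * (x * j * x⁻¹) * m * (m⁻¹ * (x * j * x⁻¹) * m) = m⁻¹ * (x * (j * j) * x⁻¹) * m by group,
      hjj, mul_one, mul_inv_cancel, mul_one, inv_mul_cancel]
  have hf2 : ∀ a, f (f a) = a := congrFun (Acts.unique h ((C : GL P9 F) * (C : GL P9 F)).isUnit
    (by rw [Units.val_mul]; exact hf.mul hf)
    (by rw [← Subgroup.coe_mul, hC2, OneMemClass.coe_one, Units.val_one]; exact Acts.one))
  rcases invol_type (spMap_of_acts h hf) hJ hf2 with hid | ⟨k, hk, hkf⟩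
  · exfalso
    have e := (hρ1 C).mpr (isZ_of_acts hX C.2 hf hid)
    rw [hC, hA, map_mul, map_mul, map_inv, map_mul, map_mul, map_inv] at e
    have hj1 : ρ j = 1 := by
      have e' := congrArg (fun a => (ρ x)⁻¹ * (ρ m * a * (ρ m)⁻¹) * ρ x) e
      simp only [mul_one, mul_inv_cancel, inv_mul_cancel] at e'
      rw [← e']; group
    rcases isZ_iM h ((hρ1 j).mp hj1) _ (hjv ▸ hja) with r | r
    · exact absurd (congrFun r ((1, 0), 0)) (by decide)
    · exact absurd (congrFun r (0, (1, 0))) (by decide)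
  obtain ⟨q, hq, hqN, hqf⟩ := realise_I hX hk.1 hk.2
  obtain ⟨r, hr⟩ : ∃ r : CI ω X, r = ⟨q, hq⟩ := ⟨_, rfl⟩
  have hrC : ρ (r * C * r⁻¹) = ρ j := by
    refine (hρ _ _).mpr ?_
    rw [hjv, Subgroup.coe_mul, Subgroup.coe_mul, Subgroup.coe_inv, hr, Subgroup.coe_mk]
    have hN' := (NN h X).mul_mem ((NN h X).mul_mem hqN hCN) ((NN h X).inv_mem hqN)
    obtain ⟨ψ, hψ⟩ := hN'.2
    have e := acts_exact h (inv_mul_cancel_right (q * (C : GL P9 F)) q) (f := ψ ∘ k) (f' := k ∘ f)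
      (by rw [Units.val_mul]; exact hψ.mul hqf) (by rw [Units.val_mul]; exact hqf.mul hf)
    refine isZ_of_maps hX (mul_mem (mul_mem hq C.2) (inv_mem hq)) hjI hjN hN' hψ hja ?_
    rcases hkf with w | w
    · refine Or.inl (funext fun v => ?_)
      obtain ⟨u, rfl⟩ := hk.bijective.2 v
      exact (congrFun e u).trans (w u)
    · refine Or.inr fun v => ?_
      obtain ⟨u, rfl⟩ := hk.bijective.2 v
      exact (congrFun e u).trans (w u)
  have hfin := (hcj (y := r * m⁻¹ * x) (by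
    conv_rhs => rw [← hrC, hC, hA]
    simp only [map_mul, map_inv]
    group)).1
  rw [Subgroup.coe_mul, Subgroup.coe_mul, Subgroup.coe_inv, hr, hm, Subgroup.coe_mk, Subgroup.coe_mk] at hfin
  have := (NN h X).mul_mem hnN ((NN h X).mul_mem ((NN h X).inv_mem hqN) hfin)
  rwa [mul_assoc q, inv_mul_cancel_left, mul_inv_cancel_left] at this

end Cfsg.Agent.Classical.TriFrame
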