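/-
A group without mixed elements holding the standard generators normalises the frame.
-/
import Cfsg.Agent.Lib.Classical.TriFrame.InvOdd
import Cfsg.Agent.Lib.Classical.TriFrame.InvTwo

set_option autoImplicit false
set_option linter.unusedSectionVars false
set_option linter.style.haveILetI false

namespace Cfsg.Agent.Classical.TriFrame

open Matrix Kronecker
open Cfsg.Agent.Classical.LinThree.Hess

universe u

variable {F : Type u} [Field F] {ω : F} {X : Subgroup (GL P9 F)} [Fintype F] (hX : Gens ω X)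
  {p : ℕ} (hS : Setting p X) (hmix : ¬ Mixed X)

include hX

/-- An involutory symplectic map is `±1` or conjugate to the decomposition. -/
theorem invol_general {f : Ix → Ix} (hf : SpMap f) (h2 : ∀ a, f (f a) = a) :
    (f = id ∨ f = fun a => -a) ∨ ∃ g, SpMap g ∧ ∀ a, g (f a) = Jf (g a) := by
  have hz : ∀ x : Ix, (∀ z, sg z x = 0) → x = 0 := by decide +kernel
  have hd : ∀ x : Fin 3, x + x = 0 → x = 0 := by decide
  have hneg : ∀ x y : Ix, sg x (-y) = -sg x y := by decide +kernel
  by_cases hid : ∀ v, f v = v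
  · exact Or.inl (Or.inl (funext hid))
  push Not at hid
  obtain ⟨v, hv⟩ := hid
  obtain ⟨a, ha⟩ : ∃ a, a = v + -f v := ⟨_, rfl⟩
  have hfa : f a = -a := by rw [ha, hf.1, hf.neg_map, h2, neg_add, neg_neg, add_comm]
  have ha0 : a ≠ 0 := fun e => hv (by rw [ha, ← sub_eq_add_neg, sub_eq_zero] at e; exact e.symm)
  obtain ⟨z, hza⟩ : ∃ z, sg z a ≠ 0 := by
    by_contra hcon
    push Not at hcon
    exact ha0 (hz a hcon)
  obtain ⟨q, hq⟩ : ∃ q, q = z + -f z := ⟨_, rfl⟩
  have hfq : f q = -q := by rw [hq, hf.1, hf.neg_map, h2, neg_add, neg_neg, add_comm]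
  have hqa : sg q a ≠ 0 := by
    rw [hq, sg_add_left]
    have e : sg (-f z) a = sg z a := by
      rw [show -f z = f (-z) from (hf.neg_map z).symm, show a = f (-a) by rw [hf.neg_map, hfa, neg_neg], hf.2]
      exact (show ∀ x y : Ix, sg (-x) (-y) = sg x y by decide +kernel) z a |>.trans (by
        rw [hf.neg_map, hfa, neg_neg])
    rw [e]
    exact fun e' => hza (hd _ e')
  obtain ⟨p', q', hpq, hfp, hfq'⟩ : ∃ p' q' : Ix, sg p' q' = sg ((1, 0), 0) ((0, 1), 0) ∧ f p' = -p' ∧ f q' = -q' := by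
    have hcase : ∀ x : Fin 3, x ≠ 0 → x = sg ((1, 0), 0) ((0, 1), 0) ∨ -x = sg ((1, 0), 0) ((0, 1), 0) := by
      decide +kernel
    rcases hcase _ hqa with e | e
    · exact ⟨q, a, e, hfq, hfa⟩
    · exact ⟨a, q, by rw [sg_swap q a, e], hfa, hfq⟩
  obtain ⟨g, hg, hge, hgf⟩ := exists_hyp_pair hX hpq
  obtain ⟨g', hg'⟩ := hg.bijective'.2.hasRightInverse
  replace hg' : ∀ a, g (g' a) = a := hg'
  have hg'g : ∀ a, g' (g a) = a := fun a => hg.bijective'.1 (hg' (g a))
  have hg's : SpMap g' := ⟨fun a b => hg.bijective'.1 (by rw [hg', hg.1, hg', hg']), fun a b => by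
    rw [← hg.2, hg', hg']⟩
  obtain ⟨f1, hf1⟩ : ∃ f1, f1 = g' ∘ f ∘ g := ⟨_, rfl⟩
  have hf1s : SpMap f1 := hf1 ▸ hg's.comp (hf.comp hg)
  have h12 : ∀ a, f1 (f1 a) = a := fun a => by simp only [hf1, Function.comp_apply, hg', h2, hg'g]
  have he1 : f1 ((1, 0), 0) = -((1, 0), 0) := by
    simp only [hf1, Function.comp_apply]
    rw [hge, hfp, hg's.neg_map, ← hge, hg'g]
  have he2 : f1 ((0, 1), 0) = -((0, 1), 0) := by
    simp only [hf1, Function.comp_apply]
    rw [hgf, hfq', hg's.neg_map, ← hgf, hg'g]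
  have h1 : ∀ a, f1 (a, 0) = -(a, 0) := fun a => by
    have c1 := add_ext3 (v := fun x => (f1 (x, 0)).1.1) (v' := fun x => -x.1)
      (fun x y => by rw [← Prod.fst_add, ← Prod.fst_add, ← hf1s.1]; simp) (fun x y => by simp only [Prod.fst_add]; abel)
      (by simp [he1]) (by simp [he2]) a
    have c2 := add_ext3 (v := fun x => (f1 (x, 0)).1.2) (v' := fun x => -x.2)
      (fun x y => by rw [← Prod.snd_add, ← Prod.fst_add, ← hf1s.1]; simp) (fun x y => by simp only [Prod.snd_add]; abel)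
      (by simp [he1]) (by simp [he2]) a
    have c3 := add_ext3 (v := fun x => (f1 (x, 0)).2.1) (v' := fun _ => 0)
      (fun x y => by rw [← Prod.fst_add, ← Prod.snd_add, ← hf1s.1]; simp) (fun x y => by simp) (by simp [he1]) (by simp [he2]) a
    have c4 := add_ext3 (v := fun x => (f1 (x, 0)).2.2) (v' := fun _ => 0)
      (fun x y => by rw [← Prod.snd_add, ← Prod.snd_add, ← hf1s.1]; simp) (fun x y => by simp) (by simp [he1]) (by simp [he2]) a
    exact Prod.ext (Prod.ext c1 c2) (Prod.ext (c3.trans (by simp)) (c4.trans (by simp)))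
  have h2' : ∀ b, (f1 (0, b)).1 = 0 := fun b => by
    have hz3 : ∀ x : Fin 3 × Fin 3, (∀ z, sg3 z x = 0) → x = 0 := by decide +kernel
    refine hz3 _ fun z => ?_
    have e := hf1s.2 (z, 0) (0, b)
    rw [h1] at e
    have r1 : sg (-((z, 0) : Ix)) (f1 (0, b)) = -sg3 z (f1 (0, b)).1 := by
      simp only [sg, sg3, Prod.fst_neg, Prod.snd_neg, neg_zero, Prod.fst_zero, Prod.snd_zero, zero_mul, mul_zero,
        sub_zero, add_zero, mul_neg, neg_mul, neg_sub]
      abel
    have r2 : sg ((z, 0) : Ix) ((0, b) : Ix) = 0 := by simp [sg, sg3]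
    rw [r1, r2] at e
    exact neg_eq_zero.mp e
  have hJ : ∀ a, f1 (Jf a) = Jf (f1 a) := fun a => by
    have e1 : f1 (Jf a) = f1 (-(a.1, 0)) + f1 (0, a.2) := by rw [← hf1s.1]; simp [Jf, Prod.map]
    have e2 : f1 a = f1 (a.1, 0) + f1 (0, a.2) := by rw [← hf1s.1]; simp
    rw [e1, e2, hf1s.neg_map]
    exact Prod.ext (by simp [Jf, h2', h1]) (by simp [Jf, h1])
  rcases invol_type hf1s (Or.inl hJ) h12 with (r | r) | ⟨k, hk, hkf⟩
  · refine absurd ?_ hv
    have := congrFun r (g' v)
    simp only [hf1, Function.comp_apply, hg', id] at this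
    exact hg's.bijective'.1 this
  · refine Or.inl (Or.inr (funext fun w => ?_))
    have := congrFun r (g' w)
    simp only [hf1, Function.comp_apply, hg'] at this
    exact hg's.bijective'.1 (by rw [hg's.neg_map]; exact this)
  · rcases hkf with hkf | hkf
    · refine Or.inr ⟨k ∘ g', hk.comp hg's, fun w => ?_⟩
      have := hkf (g' w)
      simp only [hf1, Function.comp_apply, hg'] at this
      exact this
    · refine Or.inr ⟨Prod.swap ∘ (k ∘ g'), spMap_swap.comp (hk.comp hg's), fun w => ?_⟩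
      have := hkf (g' w)
      simp only [hf1, Function.comp_apply, hg'] at this
      simp only [Function.comp_apply, this]
      exact (show ∀ a : Ix, Prod.swap (-Jf a) = Jf (Prod.swap a) by decide +kernel) _

/-- An involution permuting the frame is conjugate to one of the two standard ones. -/
theorem conj_std {k : GL P9 F} (hk : k ∈ NN hX.om X) (hk2 : k * k = 1) (hk1 : k ≠ 1) :
    ∃ (n : GL P9 F) (c : F) (M : Matrix P9 P9 F), n ∈ NN hX.om X ∧ c ≠ 0 ∧ (M = jM ω ∨ M = iM ω) ∧
      ((n * k * n⁻¹ : GL P9 F) : Matrix P9 P9 F) = c • M := by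
  have h := hX.om
  obtain ⟨hkX, f, hf⟩ := hk
  have hf2 : ∀ a, f (f a) = a := congrFun (Acts.unique h (k * k).isUnit (by rw [Units.val_mul]; exact hf.mul hf)
    (by rw [hk2, Units.val_one]; exact Acts.one))
  -- equal maps give conjugate elements
  have key : ∀ (u : GL P9 F) (M : Matrix P9 P9 F) (φ : Ix → Ix), u ∈ X → u * u = 1 →
      Acts ω (u : Matrix P9 P9 F) φ → Acts ω M φ → M * M = 1 →
      ∃ (w : GL P9 F) (c : F), w ∈ NN h X ∧ c ≠ 0 ∧ ((w * u * w⁻¹ : GL P9 F) : Matrix P9 P9 F) = c • M := by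
    intro u M φ hu hu2 hφ hM hM2
    obtain ⟨c, b, hc, hb⟩ := W_of_twisted h (X := (u : Matrix P9 P9 F) * M)
      (fun e => u.ne_zero (by rw [← Matrix.mul_one (u : Matrix P9 P9 F), ← hM2, ← Matrix.mul_assoc, e, Matrix.zero_mul]))
      (fun a => by
        have e := congrFun (Acts.unique h (u * u).isUnit (by rw [Units.val_mul]; exact hφ.mul hφ)
          (by rw [hu2, Units.val_one]; exact Acts.one)) a
        obtain ⟨d, -, hd⟩ := (hφ.mul hM) a
        exact ⟨d, by rw [e] at hd; exact hd⟩)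
    have hu' : (u : Matrix P9 P9 F) = c • (W ω b * M) := by
      rw [← Matrix.smul_mul, ← hb, Matrix.mul_assoc, hM2, Matrix.mul_one]
    have hMu : IsUnit M := IsUnit.of_mul_eq_one M hM2
    obtain ⟨d, hd0, hd⟩ := hM b
    have hfb : φ b = -b := by
      have e : (u : Matrix P9 P9 F) * (u : Matrix P9 P9 F) = 1 := by rw [← Units.val_mul, hu2, Units.val_one]
      rw [hu', Matrix.smul_mul, Matrix.mul_smul, smul_smul, Matrix.mul_assoc, ← Matrix.mul_assoc M, hd,
        Matrix.smul_mul, Matrix.mul_smul, smul_smul, Matrix.mul_assoc, hM2, Matrix.mul_one, W_mul h, smul_smul] at e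
      have e0 : b + φ b = 0 := by
        have hne : c * c * d * pw ω (b.1.2 * (φ b).1.1 + b.2.2 * (φ b).2.1) ≠ 0 :=
          mul_ne_zero (mul_ne_zero (mul_ne_zero hc hc) hd0) (pw_ne_zero h _)
        refine W_inj h (c := (c * c * d * pw ω (b.1.2 * (φ b).1.1 + b.2.2 * (φ b).2.1))⁻¹) ?_
        rw [W_zero, ← e, smul_smul, inv_mul_cancel₀ hne, one_smul]
      exact eq_neg_of_add_eq_zero_right e0
    rw [hfb, show -b = b + b from (show ∀ b : Ix, -b = b + b by decide +kernel) b] at hd
    obtain ⟨w, hw, hwe⟩ := hX.frame b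
    refine ⟨w, c * pw ω (b.1.2 * b.1.1 + b.2.2 * b.2.1) * d⁻¹, ⟨hw, _, hwe ▸ Acts.frame h _⟩,
      mul_ne_zero (mul_ne_zero hc (pw_ne_zero h _)) (inv_ne_zero hd0), w.isUnit.mul_right_cancel ?_⟩
    rw [← Units.val_mul, inv_mul_cancel_right, Units.val_mul, hu', hwe, Matrix.mul_smul, ← Matrix.mul_assoc, W_mul h,
      Matrix.smul_mul, Matrix.smul_mul, hd, smul_smul, smul_smul, mul_assoc, inv_mul_cancel₀ hd0, mul_one]
  rcases invol_general hX (spMap_of_acts h hf) hf2 with (hid | hneg) | ⟨g, hg, hgf⟩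
  · exfalso
    obtain ⟨w, c, -, hc, e⟩ := key k 1 f hkX hk2 hf (hid ▸ Acts.one) (by rw [Matrix.one_mul])
    have hkc : (k : Matrix P9 P9 F) = c • (1 : Matrix P9 P9 F) := by
      calc (k : Matrix P9 P9 F) = ((w⁻¹ * (w * k * w⁻¹) * w : GL P9 F) : Matrix P9 P9 F) := by
            congr 1; group
        _ = c • (1 : Matrix P9 P9 F) := by
            rw [Units.val_mul, Units.val_mul, e, Matrix.mul_smul, Matrix.mul_one, Matrix.smul_mul, ← Units.val_mul,
              inv_mul_cancel, Units.val_one]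
    have hd := hX.det k hkX
    rw [hkc, Matrix.det_smul, Matrix.det_one, mul_one, show Fintype.card P9 = 9 by simp] at hd
    have h2c : c * c = 1 := by
      have e1 := congrArg (fun u : GL P9 F => (u : Matrix P9 P9 F) (0, 0) (0, 0)) hk2
      simp [hkc] at e1
      exact e1
    exact hk1 (Units.ext (by
      rw [hkc, show c = 1 by linear_combination hd - c * (c * c * c * c * c * c + c * c * c * c + c * c + 1) * h2c,
        one_smul, Units.val_one]))
  · obtain ⟨w, c, hw, hc, e⟩ := key k (iM ω) f hkX hk2 hf (hneg ▸ acts_iM h) (iM_sq h)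
    exact ⟨w, c, _, hw, hc, Or.inr rfl, e⟩
  · obtain ⟨n, hn, hnN, hnf⟩ := realise_I hX hg.1 hg.2
    obtain ⟨u, hu⟩ : ∃ u, u = n * k * n⁻¹ := ⟨_, rfl⟩
    have huN : u ∈ NN h X := hu ▸ (NN h X).mul_mem ((NN h X).mul_mem hnN ⟨hkX, f, hf⟩) ((NN h X).inv_mem hnN)
    obtain ⟨-, φ, hφ⟩ := huN
    have e := acts_exact h (show u * n = n * k by rw [hu]; group) (f := φ ∘ g) (f' := g ∘ f)
      (by rw [Units.val_mul]; exact hφ.mul hnf) (by rw [Units.val_mul]; exact hnf.mul hf)
    have hφJ : φ = Jf := funext fun v => by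
      obtain ⟨z, rfl⟩ := hg.bijective'.2 v
      exact (congrFun e z).trans (hgf z)
    obtain ⟨w, c, hw, hc, e'⟩ := key u (jM ω) φ (hu ▸ X.mul_mem (X.mul_mem hn.1 hkX) (X.inv_mem hn.1))
      (by rw [hu, show n * k * n⁻¹ * (n * k * n⁻¹) = n * (k * k) * n⁻¹ by group, hk2, mul_one, mul_inv_cancel])
      hφ (hφJ ▸ acts_jM h) (jM_sq h)
    exact ⟨w * n, c, _, (NN h X).mul_mem hw hnN, hc, Or.inl rfl, by
      rw [show w * n * k * (w * n)⁻¹ = w * u * w⁻¹ by rw [hu]; group]; exact e'⟩

include hS hmix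

/-- The centraliser of the second involution. -/
theorem cent_iM {g : GL P9 F} (hg : g ∈ X) (hgi : (g : Matrix P9 P9 F) * iM ω = iM ω * (g : Matrix P9 P9 F)) :
    g ∈ NN hX.om X := by
  obtain ⟨hp, hchar, hcase⟩ := id hS
  haveI := hchar
  by_cases h2 : (2 : F) = 0
  · have hp2 : p = 2 := by
      have := (CharP.cast_eq_zero_iff F p 2).mp (by exact_mod_cast h2)
      exact (Nat.prime_dvd_prime_iff_eq hp Nat.prime_two).mp this
    subst hp2
    rcases hcase with ⟨-, h7⟩ | ⟨σ, hσ, hI, -⟩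
    · omega
    · exact cent_iM_two hX hσ hI hS hmix (fun hj hx hz => commJ hX hS hmix hj hx hz) hg hgi
  · exact cent_iM_odd hX hS hmix h2 hg hgi

/-- **The group normalises the frame.** -/
theorem normalises : X ≤ NN hX.om X := by
  classical
  intro g hg
  have h := hX.om
  obtain ⟨hp, hchar, -⟩ := id hS
  haveI := hchar
  obtain ⟨jU, hjX, hj⟩ := jM_mem hX
  obtain ⟨iU, hiI, hi⟩ := iM_mem hX
  obtain ⟨t, ht⟩ : ∃ t, t = g * iU * g⁻¹ := ⟨_, rfl⟩
  have htX : t ∈ X := ht ▸ X.mul_mem (X.mul_mem hg hiI.1) (X.inv_mem hg)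
  have hjj : jU * jU = 1 := Units.ext (by rw [Units.val_mul, hj, jM_sq h, Units.val_one])
  have htt : t * t = 1 := by
    rw [ht, show g * iU * g⁻¹ * (g * iU * g⁻¹) = g * (iU * iU) * g⁻¹ by group, show iU * iU = 1 from
      Units.ext (by rw [Units.val_mul, hi, iM_sq h, Units.val_one]), mul_one, mul_inv_cancel]
  -- the two involutions are not conjugate up to scalars
  have hnot : ∀ (w : GL P9 F) (c : F), c ≠ 0 → ((w * iU * w⁻¹ : GL P9 F) : Matrix P9 P9 F) ≠ c • jM ω := by
    intro w c hc e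
    have t1 := congrArg Matrix.trace e
    rw [Units.val_mul, Units.val_mul, Matrix.trace_units_conj, hi, trace_iM, Matrix.trace_smul, jM, trace_kronecker,
      trace_Tm_zero, Matrix.trace_one, Fintype.card_fin, smul_eq_mul] at t1
    have e2 : (w : Matrix P9 P9 F) * iM ω = c • (jM ω * (w : Matrix P9 P9 F)) := by
      rw [← Matrix.smul_mul, ← e, ← hi, ← Units.val_mul, ← Units.val_mul, inv_mul_cancel_right]
    have hc2 : c * c = 1 := by
      have e3 := congrArg (fun M => M * iM ω) e2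
      simp only [Matrix.mul_assoc, iM_sq h, Matrix.mul_one, Matrix.smul_mul] at e3
      rw [e2, Matrix.mul_smul, smul_smul, ← Matrix.mul_assoc, jM_sq h, Matrix.one_mul] at e3
      have e4 := congrArg (fun M => (M * ((w⁻¹ : GL P9 F) : Matrix P9 P9 F)) (0, 0) (0, 0)) e3
      simp [← Units.val_mul, Matrix.smul_mul] at e4
      exact e4.symm
    push_cast at t1
    have h8 : (2 : F) * 2 * 2 = 0 := by linear_combination -9 * hc2 + (3 * c - 1) * t1
    have h2 : (2 : F) = 0 := by
      by_contra q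
      exact mul_ne_zero (mul_ne_zero q q) q h8
    have hp2 : p = 2 := by
      have := (CharP.cast_eq_zero_iff F p 2).mp (by exact_mod_cast h2)
      exact (Nat.prime_dvd_prime_iff_eq hp Nat.prime_two).mp this
    haveI : CharP F 2 := hp2 ▸ hchar
    rw [show c = 1 by linear_combination t1 - (1 + c) * h2, one_smul] at e2
    -- the images of the two differences have different sizes
    obtain ⟨L, hL⟩ : ∃ L : (P9 → F) → Fin 3 → F, ∀ v, L v = fun k => v (1, k) - v (2, k) := ⟨_, fun _ => rfl⟩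
    have hjv : ∀ v : P9 → F, v + jM ω *ᵥ v = uv (L v) := fun v => by
      funext ⟨i, k⟩
      fin_cases i <;>
        simp [jM, Tm, mono, Matrix.mulVec, dotProduct, Fintype.sum_prod_type, Fin.sum_univ_three, uv, aU, pw_zero,
          fin_three_facts, kroneckerMap_apply, Matrix.one_apply, hL, CharTwo.add_self_eq_zero] <;> ring
    have hinj : Function.Injective fun c : Fin 4 → F => L ((w : Matrix P9 P9 F) *ᵥ half c) := fun c c' q => by
      have q' := congrArg uv q
      simp only [← hjv, Matrix.mulVec_mulVec, ← e2] at q'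
      rw [← Matrix.mulVec_mulVec, ← Matrix.mulVec_mulVec, ← Matrix.mulVec_add, ← Matrix.mulVec_add, diff_io, diff_io,
        pi4_half, pi4_half] at q'
      exact io_inj ((Matrix.mulVec_injective_iff_isUnit.mpr w.isUnit) q')
    have := Fintype.card_le_of_injective _ hinj
    simp only [Fintype.card_fun, Fintype.card_fin] at this
    have h1 : 1 < Fintype.card F := Fintype.one_lt_card
    exact absurd this (Nat.not_le.mpr (Nat.pow_lt_pow_right h1 (by norm_num)))
  obtain ⟨s, hs⟩ : ∃ s, s = jU * t := ⟨_, rfl⟩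
  have hjinv : jU⁻¹ = jU := inv_eq_of_mul_eq_one_right hjj
  have htinv : t⁻¹ = t := inv_eq_of_mul_eq_one_right htt
  have hpow : ∀ m : ℕ, jU * s ^ m * jU = (s ^ m)⁻¹ ∧ t * s ^ m * t = (s ^ m)⁻¹ := fun m => by
    constructor
    · conv_lhs => arg 2; rw [← hjinv]
      rw [← conj_pow, hjinv, ← inv_pow, hs, _root_.mul_inv_rev, hjinv, htinv, ← mul_assoc, hjj, one_mul]
    · conv_lhs => arg 2; rw [← htinv]
      rw [← conj_pow, htinv, ← inv_pow, hs, _root_.mul_inv_rev, hjinv, htinv, mul_assoc, mul_assoc, htt, mul_one]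
  rcases Nat.even_or_odd' (orderOf s) with ⟨m, hm | hm⟩
  · obtain ⟨k, hk⟩ : ∃ k, k = s ^ m := ⟨_, rfl⟩
    have hm0 : 0 < m := by have := orderOf_pos s; omega
    have hk1 : k ≠ 1 := hk ▸ pow_ne_one_of_lt_orderOf (by omega) (by omega)
    have hk2 : k * k = 1 := by rw [hk, ← pow_add, ← two_mul, ← hm, pow_orderOf_eq_one]
    have hkinv : (s ^ m)⁻¹ = s ^ m := inv_eq_of_mul_eq_one_right (hk ▸ hk2)
    have hkX : k ∈ X := hk ▸ X.pow_mem (hs ▸ X.mul_mem hjX htX) m
    have hkj : k * jU = jU * k := by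
      rw [hk]
      calc s ^ m * jU = (jU * s ^ m * jU) * jU := by rw [(hpow m).1, hkinv]
        _ = jU * s ^ m * (jU * jU) := by group
        _ = jU * s ^ m := by rw [hjj, mul_one]
    have hkt : k * t = t * k := by
      rw [hk]
      calc s ^ m * t = (t * s ^ m * t) * t := by rw [(hpow m).2, hkinv]
        _ = t * s ^ m * (t * t) := by group
        _ = t * s ^ m := by rw [htt, mul_one]
    have hkN : k ∈ NN h X := cent_jM hX hS hmix hkX (by rw [← hj, ← Units.val_mul, ← Units.val_mul, hkj])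
    obtain ⟨n, c, M, hn, hc, hM, hne⟩ := conj_std hX hkN hk2 hk1
    have htN : t ∈ NN h X := by
      obtain ⟨t', ht'⟩ : ∃ t', t' = n * t * n⁻¹ := ⟨_, rfl⟩
      have hcm : (t' : Matrix P9 P9 F) * M = M * (t' : Matrix P9 P9 F) := by
        have e1 : t' * (n * k * n⁻¹) = n * k * n⁻¹ * t' := by
          rw [ht', show n * t * n⁻¹ * (n * k * n⁻¹) = n * (t * k) * n⁻¹ by group, ← hkt]; group
        have e := congrArg Units.val e1
        simp only [Units.val_mul] at e hne
        rw [hne, Matrix.mul_smul, Matrix.smul_mul] at e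
        exact smul_right_injective _ hc e
      have ht'X : t' ∈ X := ht' ▸ X.mul_mem (X.mul_mem hn.1 htX) (X.inv_mem hn.1)
      have ht'N : t' ∈ NN h X := by
        rcases hM with rfl | rfl
        · exact cent_jM hX hS hmix ht'X hcm
        · exact cent_iM hX hS hmix ht'X hcm
      have := (NN h X).mul_mem ((NN h X).mul_mem ((NN h X).inv_mem hn) ht'N) hn
      rwa [ht', mul_assoc n, inv_mul_cancel_left, inv_mul_cancel_right] at this
    obtain ⟨n', c', M', hn', hc', hM', hne'⟩ := conj_std hX htN htt (fun q => by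
      rw [ht, conj_eq_one_iff] at q
      rw [q, Units.val_one] at hi
      have := Acts.unique h (1 : GL P9 F).isUnit (f := id) (f' := fun a => -a) (by rw [Units.val_one]; exact Acts.one)
        (by rw [Units.val_one, hi]; exact acts_iM h)
      exact absurd (congrFun this ((1, 0), 0)) (by decide))
    rw [ht, show n' * (g * iU * g⁻¹) * n'⁻¹ = n' * g * iU * (n' * g)⁻¹ by group] at hne'
    rcases hM' with rfl | rfl
    · exact absurd hne' (hnot _ _ hc')
    · have t1 := congrArg Matrix.trace hne'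
      rw [Units.val_mul, Units.val_mul (n' * g), Matrix.trace_units_conj, hi, trace_iM, Matrix.trace_smul, trace_iM,
        smul_eq_mul, mul_one] at t1
      rw [← t1, one_smul, ← hi] at hne'
      have hcomm := congrArg (fun u : GL P9 F => u * (n' * g)) (Units.ext hne' : n' * g * iU * (n' * g)⁻¹ = iU)
      simp only [inv_mul_cancel_right] at hcomm
      have hfin : n' * g ∈ NN h X := cent_iM hX hS hmix (X.mul_mem hn'.1 hg) (by
        rw [← hi, ← Units.val_mul, ← Units.val_mul, hcomm])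
      have := (NN h X).mul_mem ((NN h X).inv_mem hn') hfin
      rwa [inv_mul_cancel_left] at this
  · exfalso
    have e : s ^ m * jU * (s ^ m)⁻¹ = t := by
      rw [← (hpow m).1]
      calc s ^ m * jU * (jU * s ^ m * jU) = s ^ m * (jU * jU) * s ^ m * jU := by group
        _ = s ^ (2 * m) * jU := by rw [hjj, mul_one, two_mul, pow_add]
        _ = t := by
          have e' : s ^ (2 * m) * s = 1 := by rw [← pow_succ, ← hm, pow_orderOf_eq_one]
          rw [eq_inv_of_mul_eq_one_left e', hs, _root_.mul_inv_rev, hjinv, htinv, mul_assoc, hjj, mul_one]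
    refine hnot ((s ^ m)⁻¹ * g) 1 one_ne_zero ?_
    rw [one_smul, ← hj]
    congr 1
    rw [show (s ^ m)⁻¹ * g * iU * ((s ^ m)⁻¹ * g)⁻¹ = (s ^ m)⁻¹ * (g * iU * g⁻¹) * s ^ m by group, ← ht, ← e]
    group

end Cfsg.Agent.Classical.TriFrame
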