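/-
The unitary case: all monomial elements.
-/
import Cfsg.Agent.Lib.Classical.TriFrame.TransU

set_option autoImplicit false
set_option linter.unusedSectionVars false

namespace Cfsg.Agent.Classical.TriFrame

open Matrix Kronecker Cfsg.Geo
open Cfsg.Agent.Classical
open Cfsg.Agent.Classical.LinThree.Hess

variable {F : Type*} [Field F] [Fintype F] {ω : F} {X : Subgroup (GL P9 F)} {σ : F ≃+* F}
variable {p : ℕ} [hp : Fact p.Prime] [CharP F p]

theorem two_ne (h2 : p ≠ 2) : (2 : F) ≠ 0 := fun e => h2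
  (((Nat.prime_dvd_prime_iff_eq hp.out Nat.prime_two).mp ((CharP.cast_eq_zero_iff F p 2).mp (by exact_mod_cast e))))

theorem pd_monP (ω : F) (x y : P9) :
    pd ω x y = monP id fun z => if z = x then ω else if z = y then ω * ω else 1 := by
  ext u w
  simp only [monP, pd, Matrix.of_apply, Matrix.diagonal_apply, id, eq_comm]

/-- A free phase. -/
theorem hasC_phase (hσ : IsUSigma p σ) (hX : Gens ω X) (hmix : Mixed X) (hI : Iso σ X) {z : P9 → F}
    (hz : HasC σ X z) (hzz : hm σ z z = 0) {o j : P9} (ho : z o = 0) {ψ : F} (hψ : ψ * σ ψ = 1) :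
    HasC σ X (z + Pi.single j ((ψ - 1) * z j)) ∧
      hm σ (z + Pi.single j ((ψ - 1) * z j)) (z + Pi.single j ((ψ - 1) * z j)) = 0 := by
  have hinv := hσ.involutive
  have hiso : ∀ {ψ : F}, ψ * σ ψ = 1 →
      hm σ (z + Pi.single j ((ψ - 1) * z j)) (z + Pi.single j ((ψ - 1) * z j)) = 0 := fun {ψ} hψ => by
    rw [hm_add_left, hm_add_right, hm_add_right, hm_single_left, hm_single_left, hm_single_right, hzz,
      Pi.single_eq_same, map_mul, map_sub, map_one]
    linear_combination (z j * σ (z j)) * hψ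
  refine ⟨?_, hiso hψ⟩
  by_cases hj : z j = 0
  · rw [hj, mul_zero, Pi.single_zero, add_zero]; exact hz
  have hjo : j ≠ o := fun e => hj (e ▸ ho)
  have hm' : Mem X (monP id fun w => if w = j then ω else if w = o then ω * ω else 1) :=
    pd_monP ω j o ▸ pd_mem hX hmix hjo
  have hω : ω * σ ω = 1 := by
    have := monP_norm hI Function.injective_id hm' j
    simpa using this
  have hu := hasC_mon hI Function.injective_id hm' hz
  rw [show (fun x => (if x = j then ω else if x = o then ω * ω else 1) * z (id x)) =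
      z + Pi.single j ((ω - 1) * z j) by
    funext x
    by_cases h1 : x = j
    · subst h1; simp; ring
    · by_cases h2 : x = o
      · subst h2; simp [h1, ho]
      · simp [h1, h2]] at hu
  have hω1 : ω - 1 ≠ 0 := sub_ne_zero.mpr hX.om.ne_one
  have hne : hm σ z (z + Pi.single j ((ω - 1) * z j)) ≠ 0 := by
    rw [hm_add_right, hzz, hm_single_right, zero_add]
    exact mul_ne_zero hj ((map_ne_zero σ).mpr (mul_ne_zero hω1 hj))
  have e : z + Pi.single j ((ψ - 1) * z j) =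
      (1 - (ψ - 1) / (ω - 1)) • z + ((ψ - 1) / (ω - 1)) • (z + Pi.single j ((ω - 1) * z j)) := by
    rw [smul_add, ← add_assoc, ← add_smul, sub_add_cancel, one_smul, ← Pi.single_smul, smul_eq_mul, ← mul_assoc,
      div_mul_cancel₀ _ hω1]
  rw [e]
  exact hasC_span hinv hz hu hzz (hiso hω) hne (e ▸ hiso hψ)

/-- Two coordinates carry a centre. -/
theorem exists_pair (hσ : IsUSigma p σ) (h2 : p ≠ 2) (hX : Gens ω X) (hmix : Mixed X) (hI : Iso σ X) {z : P9 → F}
    (hz0 : z ≠ 0) (hzz : hm σ z z = 0) {o : P9} (ho : z o = 0) (hz : HasC σ X z) :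
    ∃ i j : P9, i ≠ j ∧ ∃ d : P9 → F, d i ≠ 0 ∧ d j ≠ 0 ∧ (∀ w, w ≠ i → w ≠ j → d w = 0) ∧ hm σ d d = 0 ∧
      HasC σ X d := by
  classical
  have hinv := hσ.involutive
  obtain ⟨i₀, hi₀⟩ : ∃ i, z i ≠ 0 := Function.ne_iff.mp hz0
  obtain ⟨j₀, hji, hj₀⟩ : ∃ j, j ≠ i₀ ∧ z j ≠ 0 := by
    by_contra hcon
    push Not at hcon
    have e : z = Pi.single i₀ (z i₀) := by
      funext w
      by_cases hw : w = i₀
      · subst hw; simp
      · simp [hw, hcon w hw]
    rw [e, hm_single_left, Pi.single_eq_same] at hzz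
    exact mul_ne_zero hi₀ ((map_ne_zero σ).mpr hi₀) hzz
  by_cases hk : ∀ w, w ≠ i₀ → w ≠ j₀ → z w = 0
  · exact ⟨i₀, j₀, Ne.symm hji, z, hi₀, hj₀, hk, hzz, hz⟩
  push Not at hk
  obtain ⟨k₀, hki, hkj, hk₀⟩ := hk
  obtain ⟨i, j, hij, hi, hj, hsum⟩ : ∃ i j, i ≠ j ∧ z i ≠ 0 ∧ z j ≠ 0 ∧ z i * σ (z i) + z j * σ (z j) ≠ 0 := by
    by_contra hcon
    push Not at hcon
    have e1 := hcon i₀ j₀ (Ne.symm hji) hi₀ hj₀
    have e2 := hcon i₀ k₀ (Ne.symm hki) hi₀ hk₀
    have e3 := hcon j₀ k₀ (Ne.symm hkj) hj₀ hk₀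
    have : (2 : F) * (z i₀ * σ (z i₀)) = 0 := by linear_combination e1 + e2 - e3
    exact mul_ne_zero (two_ne h2) (mul_ne_zero hi₀ ((map_ne_zero σ).mpr hi₀)) this
  obtain ⟨ni, hni⟩ : ∃ n, n = z i * σ (z i) := ⟨_, rfl⟩
  obtain ⟨nj, hnj⟩ : ∃ n, n = z j * σ (z j) := ⟨_, rfl⟩
  have hni0 : ni ≠ 0 := hni ▸ mul_ne_zero hi ((map_ne_zero σ).mpr hi)
  have hnj0 : nj ≠ 0 := hnj ▸ mul_ne_zero hj ((map_ne_zero σ).mpr hj)
  have hnif : σ ni = ni := by rw [hni, map_mul, hinv, mul_comm]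
  have hnjf : σ nj = nj := by rw [hnj, map_mul, hinv, mul_comm]
  obtain ⟨B, hB⟩ : ∃ B, B = (nd σ).image fun t => -nj / ni * t := ⟨_, rfl⟩
  have hBcard : p ≤ 2 * B.card + 1 := by
    rw [hB, Finset.card_image_of_injective _ (mul_right_injective₀ (div_ne_zero (neg_ne_zero.mpr hnj0) hni0))]
    have := card_nd (σ := σ) hσ
    omega
  obtain ⟨a, ha, ha1, haB⟩ := norm_meets hσ h2 B (fun t ht => by
    obtain ⟨u, hu, rfl⟩ := Finset.mem_image.mp (hB ▸ ht)
    obtain ⟨h1, h1'⟩ := nd_fixed hσ hu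
    exact ⟨by rw [map_mul, map_div₀, map_neg, hnif, hnjf, h1],
      mul_ne_zero (div_ne_zero (neg_ne_zero.mpr hnj0) hni0) h1'⟩) hBcard
  obtain ⟨t, ht, hat⟩ := Finset.mem_image.mp (hB ▸ haB)
  obtain ⟨b, hb, hb1, rfl⟩ := mem_nd.mp ht
  obtain ⟨hg0, hz00⟩ := hasC_phase hσ hX hmix hI hz hzz (j := i) ho ha
  obtain ⟨hg1, hz11⟩ := hasC_phase hσ hX hmix hI hz hzz (j := j) ho hb
  have hrel : ni * ((1 - a) * (1 - σ a)) + nj * ((1 - b) * (1 - σ b)) = 0 := by
    rw [← hat]; field_simp; ring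
  obtain ⟨d, hd⟩ : ∃ d, d = (1 : F) • (z + Pi.single i ((a - 1) * z i)) +
    (-1 : F) • (z + Pi.single j ((b - 1) * z j)) := ⟨_, rfl⟩
  have hde : d = Pi.single i ((a - 1) * z i) + Pi.single j (-((b - 1) * z j)) := by
    rw [hd, one_smul, neg_one_smul, Pi.single_neg]; abel
  have hdi : d i = (a - 1) * z i := by simp [hde, hij]
  have hdj : d j = -((b - 1) * z j) := by simp [hde, Ne.symm hij]
  have hdd : hm σ d d = 0 := by
    conv_lhs => arg 2; rw [hde]
    rw [hm_add_left, hm_single_left, hm_single_left, hdi, hdj]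
    simp only [map_mul, map_sub, map_one, map_neg]
    rw [hni, hnj] at hrel
    linear_combination hrel
  have hne : hm σ (z + Pi.single i ((a - 1) * z i)) (z + Pi.single j ((b - 1) * z j)) ≠ 0 := by
    rw [hm_add_left, hm_add_right, hm_add_right, hzz, hm_single_right, hm_single_left, hm_single_left,
      Pi.single_eq_of_ne hij, map_zero, mul_zero]
    intro e
    simp only [map_mul, map_sub, map_one] at e
    have e1 : (σ b - 1) * nj = -((a - 1) * ni) := by rw [hni, hnj]; linear_combination e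
    have e2 : (b - 1) * nj = -((σ a - 1) * ni) := by
      have := congrArg σ e1
      simpa only [map_mul, map_sub, map_one, map_neg, hinv, hnif, hnjf] using this
    have e3 : ni * ((ni + nj) * ((1 - a) * (1 - σ a))) = 0 := by
      linear_combination (nj * nj) * hb - ((b - 1) * nj + nj) * e1 - (nj - (a - 1) * ni) * e2 + (nj * ni) * ha
    refine mul_ne_zero hni0 (mul_ne_zero (hni ▸ hnj ▸ hsum) (mul_ne_zero (sub_ne_zero.mpr (Ne.symm ha1))
      (sub_ne_zero.mpr fun h => ha1 ?_))) e3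
    rw [← hinv a, ← h, map_one]
  refine ⟨i, j, hij, d, ?_, ?_, fun w hwi hwj => by simp [hde, hwi, hwj], hdd, ?_⟩
  · rw [hdi]; exact mul_ne_zero (sub_ne_zero.mpr ha1) hi
  · rw [hdj]; exact neg_ne_zero.mpr (mul_ne_zero (sub_ne_zero.mpr hb1) hj)
  · rw [hd] at hdd ⊢
    exact hasC_span hinv hg0 hg1 hz00 hz11 hne hdd

theorem exists_other : ∀ x y : P9, ∃ o, o ≠ x ∧ o ≠ y := by decide

/-- Every isotropic vector on two coordinates is a centre. -/
theorem hasC_two (hσ : IsUSigma p σ) (h2 : p ≠ 2) (hX : Gens ω X) (hmix : Mixed X) (hI : Iso σ X) (ht : TransW X)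
    {x y : P9} (hxy : x ≠ y) {u : P9 → F} (hu : ∀ w, w ≠ x → w ≠ y → u w = 0) (huu : hm σ u u = 0) : HasC σ X u := by
  classical
  obtain ⟨z, hz0, hzz, ho, hz⟩ := hasC_of_trans hσ hI ht
  obtain ⟨i, j, hij, hQ⟩ := exists_pair hσ h2 hX hmix hI hz0 hzz ho hz
  have hall := pairs_all hX (fun x y => ∃ d : P9 → F, d x ≠ 0 ∧ d y ≠ 0 ∧ (∀ w, w ≠ x → w ≠ y → d w = 0) ∧
      hm σ d d = 0 ∧ HasC σ X d) (fun π v hπ hv hm' x y ⟨d, hdx, hdy, hd, hdd, hdC⟩ => by
    refine ⟨fun w => v w * d (π w), mul_ne_zero (hv x) hdx, mul_ne_zero (hv y) hdy,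
      fun w hwx hwy => by simp only [hd _ (hπ.ne hwx) (hπ.ne hwy), mul_zero], ?_, hasC_mon hI hπ hm' hdC⟩
    obtain ⟨g, hg, e⟩ := id hm'
    have := hI g hg d d
    rwa [e, monP_mulVec, hdd] at this) hij hQ x y hxy
  obtain ⟨d, hdx, hdy, hd, hdd, hdC⟩ := hall
  have hexp : ∀ u : P9 → F, (∀ w, w ≠ x → w ≠ y → u w = 0) → u = Pi.single x (u x) + Pi.single y (u y) := by
    intro u hu
    funext w
    by_cases hwx : w = x
    · subst hwx; simp [hxy]
    · by_cases hwy : w = y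
      · subst hwy; simp [hwx]
      · simp [hwx, hwy, hu w hwx hwy]
  have hnorm : ∀ u : P9 → F, (∀ w, w ≠ x → w ≠ y → u w = 0) → hm σ u u = 0 →
      u x * σ (u x) + u y * σ (u y) = 0 := fun u hu huu => by
    conv_lhs at huu => arg 2; rw [hexp u hu]
    rwa [hm_add_left, hm_single_left, hm_single_left] at huu
  have hnu := hnorm u hu huu
  by_cases hux : u x = 0
  · have huy : u y = 0 := by
      rw [hux, zero_mul, zero_add, mul_eq_zero] at hnu
      exact hnu.elim id ((map_eq_zero σ).mp)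
    intro c _
    rw [hexp u hu, hux, huy, Pi.single_zero, Pi.single_zero, add_zero, tv]
    simp only [Matrix.zero_vecMulVec, add_zero]
    exact Mem.one
  have hnd := hnorm d hd hdd
  obtain ⟨t, ht'⟩ : ∃ t, t = u x / d x := ⟨_, rfl⟩
  have ht0 : t ≠ 0 := ht' ▸ div_ne_zero hux hdx
  obtain ⟨ψ, hψ'⟩ : ∃ ψ, ψ = u y / (t * d y) := ⟨_, rfl⟩
  have htd : u x = t * d x := by rw [ht', div_mul_cancel₀ _ hdx]
  have hψd : u y = ψ * (t * d y) := by rw [hψ', div_mul_cancel₀ _ (mul_ne_zero ht0 hdy)]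
  have hψ : ψ * σ ψ = 1 := by
    rw [htd, hψd] at hnu
    simp only [map_mul] at hnu
    have : (t * σ t * (d y * σ (d y))) * (ψ * σ ψ - 1) = 0 := by linear_combination hnu - (t * σ t) * hnd
    exact sub_eq_zero.mp ((mul_eq_zero.mp this).resolve_left (mul_ne_zero (mul_ne_zero ht0 ((map_ne_zero σ).mpr ht0))
      (mul_ne_zero hdy ((map_ne_zero σ).mpr hdy))))
  obtain ⟨o, hox, hoy⟩ := exists_other x y
  obtain ⟨hC, -⟩ := hasC_phase hσ hX hmix hI hdC hdd (j := y) (hd o hox hoy) hψ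
  convert hasC_smul hσ.involutive hC t using 1
  funext w
  by_cases hwy : w = y
  · subst hwy; simp [hψd]; ring
  · by_cases hwx : w = x
    · subst hwx; simp [htd, hwy]
    · simp [hu w hwx hwy, hd w hwx hwy, hwy]

/-- Monomial transposition. -/
theorem swap_mem (hσ : IsUSigma p σ) (h2 : p ≠ 2) (hX : Gens ω X) (hmix : Mixed X) (hI : Iso σ X) (ht : TransW X)
    {x y : P9} (hxy : x ≠ y) {τ : F} (hτ : τ * σ τ = 1) :
    Mem X (monP (Equiv.swap x y) fun w => if w = x then -σ τ else if w = y then τ else 1) := by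
  classical
  have hinv := hσ.involutive
  obtain ⟨c₀, hc00, hc0s⟩ := hσ.exists_skew
  have hcn : ∀ n : ℕ, σ (c₀ * (n : F)) = -(c₀ * n) := fun n => by
    rw [map_mul, map_natCast, show σ c₀ = -c₀ by linear_combination hc0s, neg_mul]
  obtain ⟨f, hf⟩ : ∃ f : ℕ → F, ∀ n, f n = ((c₀ * (n : F)) * (c₀ * n))⁻¹ := ⟨_, fun _ => rfl⟩
  obtain ⟨S, hS⟩ : ∃ S, S = (Finset.range p).erase 0 := ⟨_, rfl⟩
  have hSn : ∀ n ∈ S, c₀ * (n : F) ≠ 0 := fun n hn => by
    rw [hS, Finset.mem_erase, Finset.mem_range] at hn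
    exact mul_ne_zero hc00 fun e => hn.1 (CharP.natCast_injOn_Iio F p hn.2 hp.out.pos (by simpa using e))
  have hfib : ∀ t ∈ S.image f, (S.filter fun n => f n = t).card ≤ 2 := by
    intro t ht
    obtain ⟨m, hm', rfl⟩ := Finset.mem_image.mp ht
    refine (Finset.card_le_card (t := {m, p - m}) fun n hn => ?_).trans Finset.card_le_two
    obtain ⟨hnS, hn⟩ := Finset.mem_filter.mp hn
    rw [hf, hf, _root_.inv_inj] at hn
    have hmS := hm'
    rw [hS, Finset.mem_erase, Finset.mem_range] at hnS hmS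
    have : ((n : F) - m) * ((n : F) + m) = 0 := by
      refine (mul_eq_zero.mp (show (c₀ * c₀) * (((n : F) - m) * ((n : F) + m)) = 0 by linear_combination hn)).resolve_left
        (mul_ne_zero hc00 hc00)
    rw [Finset.mem_insert, Finset.mem_singleton]
    rcases mul_eq_zero.mp this with h | h
    · exact Or.inl (CharP.natCast_injOn_Iio F p hnS.2 hmS.2 (sub_eq_zero.mp h))
    · refine Or.inr (CharP.natCast_injOn_Iio F p hnS.2 (show p - m < p by omega) ?_)
      rw [Nat.cast_sub hmS.2.le, CharP.cast_eq_zero F p, zero_sub]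
      exact eq_neg_of_add_eq_zero_left h
  have hcardB : p ≤ 2 * (S.image f).card + 1 := by
    have h1 := Finset.card_le_mul_card_image S 2 hfib
    rw [hS, Finset.card_erase_of_mem (Finset.mem_range.mpr hp.out.pos), Finset.card_range] at h1
    rw [hS]
    omega
  obtain ⟨ε, hε, hε1, hεB⟩ := norm_meets hσ h2 (S.image f) (fun b hb => by
    obtain ⟨n, hn, rfl⟩ := Finset.mem_image.mp hb
    refine ⟨?_, ?_⟩
    · rw [hf, map_inv₀, map_mul σ (c₀ * (n : F)), hcn, neg_mul_neg]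
    · rw [hf]; exact inv_ne_zero (mul_ne_zero (hSn n hn) (hSn n hn))) hcardB
  obtain ⟨n, hn, hnf⟩ := Finset.mem_image.mp hεB
  obtain ⟨c, hc⟩ : ∃ c, c = c₀ * (n : F) := ⟨_, rfl⟩
  have hc0 : c ≠ 0 := hc ▸ hSn n hn
  have hcs : c + σ c = 0 := by rw [hc, hcn, add_neg_cancel]
  have hcn' : (-c) + σ (-c) = 0 := by rw [map_neg]; linear_combination -hcs
  have hc2 : c * c * ((1 - ε) * (1 - σ ε)) = 1 := by
    rw [← hnf, hf, ← hc, mul_inv_cancel₀ (mul_ne_zero hc0 hc0)]
  have hk0 : 1 - ε ≠ 0 := sub_ne_zero.mpr (Ne.symm hε1)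
  obtain ⟨s, hs⟩ : ∃ s, s = τ / (c * (1 - ε)) := ⟨_, rfl⟩
  have hτs : τ = c * (1 - ε) * s := by rw [hs, mul_div_cancel₀ _ (mul_ne_zero hc0 hk0)]
  have hsc : σ c = -c := by linear_combination hcs
  have hss : 1 + s * σ s = 0 := by
    rw [hτs, map_mul, map_mul, map_sub, map_one, hsc] at hτ
    linear_combination (-1 : F) * hτ - (s * σ s) * hc2
  obtain ⟨u, hu⟩ : ∃ u : P9 → F, u = Pi.single x 1 + Pi.single y s := ⟨_, rfl⟩
  obtain ⟨v, hv⟩ : ∃ v : P9 → F, v = Pi.single x 1 + Pi.single y (s * ε) := ⟨_, rfl⟩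
  have hform : ∀ (z : P9 → F) r, hm σ z (Pi.single x 1 + Pi.single y r) = z x + z y * σ r := fun z r => by
    rw [hm_add_right, hm_single_right, hm_single_right, map_one, mul_one]
  have huu : hm σ u u = 0 := by rw [hu, hform]; simp [hxy, Ne.symm hxy]; linear_combination hss
  have hvv : hm σ v v = 0 := by
    rw [hv, hform]; simp [hxy, Ne.symm hxy]; linear_combination hss + (s * σ s) * hε
  have huC : HasC σ X u := hasC_two hσ h2 hX hmix hI ht hxy (fun w h1 h2 => by simp [hu, h1, h2]) huu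
  have hvC : HasC σ X v := hasC_two hσ h2 hX hmix hI ht hxy (fun w h1 h2 => by simp [hv, h1, h2]) hvv
  have hM := ((huC c hcs).mul (hvC (-c) hcn')).mul (huC c hcs)
  convert hM using 1
  refine Matrix.ext_of_mulVec_single fun k => ?_
  generalize (Pi.single k (1 : F) : P9 → F) = z
  rw [← Matrix.mulVec_mulVec, ← Matrix.mulVec_mulVec, tv_centre, tv_centre, tv_centre, monP_mulVec]
  funext w
  rw [hu, hv]
  simp only [hform, Pi.add_apply, Pi.smul_apply, smul_eq_mul, map_mul]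
  rw [hτs]
  simp only [map_mul, map_sub, map_one, hsc]
  by_cases hwx : w = x
  · subst hwx
    simp [hxy, Ne.symm hxy]
    linear_combination (c * (z w + z y * σ s) + z w) * hc2 - (c * c * (z w + z y * σ s)) * hε -
      (c * c * (z w + z y * σ s) - c * c * (z w + z y * σ s * σ ε + c * (z w + z y * σ s) * (1 + s * σ s * σ ε)) * ε -
        c * c * (z w + z y * σ s) * σ ε * (1 + c * (1 - ε))) * hss
  · by_cases hwy : w = y
    · subst hwy
      simp [hxy, Ne.symm hxy]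
      linear_combination (c * s * (z x + z w * σ s) - z w * σ s * s) * hc2 +
        (c * s * z w * σ s - c * c * s * (z x + z w * σ s)) * hε -
        (z w + c * c * (z x + z w * σ s) * s -
          c * c * (z x + z w * σ s * σ ε + c * (z x + z w * σ s) * (1 + s * σ s * σ ε)) * s * ε -
          c * c * (z x + z w * σ s) * s * σ ε * (c * (1 - ε) + ε)) * hss
    · simp [hwx, hwy, Equiv.swap_apply_of_ne_of_ne hwx hwy]

end Cfsg.Agent.Classical.TriFrame
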