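/-
The unitary case: a transvection gives the whole special unitary group.
-/
import Cfsg.Agent.Lib.Classical.TriFrame.TransUPair
import Cfsg.Agent.Lib.Classical.UFrameMaximal

set_option autoImplicit false
set_option linter.unusedSectionVars false

namespace Cfsg.Agent.Classical.TriFrame

open Matrix Kronecker Cfsg.Geo
open Cfsg.Agent.Classical
open Cfsg.Agent.Classical.LinThree.Hess

variable {F : Type*} [Field F] [Fintype F] {ω : F} {X : Subgroup (GL P9 F)} {σ : F ≃+* F}
variable {p : ℕ} [hp : Fact p.Prime] [CharP F p]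

theorem monP_mul (π π' : P9 → P9) (a b : P9 → F) :
    monP π a * monP π' b = monP (π' ∘ π) fun x => a x * b (π x) := by
  refine Matrix.ext_of_mulVec_single fun k => ?_
  generalize (Pi.single k (1 : F) : P9 → F) = z
  rw [← Matrix.mulVec_mulVec, monP_mulVec, monP_mulVec, monP_mulVec]
  funext x
  simp [mul_assoc]

theorem monP_one : monP id (fun _ => (1 : F)) = 1 := by
  ext x y; simp [monP, Matrix.one_apply, eq_comm]

theorem monP_det (hX : Gens ω X) {π : P9 → P9} {v : P9 → F} (hm' : Mem X (monP π v)) : (monP π v).det = 1 := by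
  obtain ⟨g, hg, e⟩ := hm'
  exact e ▸ hX.det g hg

/-- All transpositions of two coordinates with their phases. -/
def Swaps (σ : F ≃+* F) (X : Subgroup (GL P9 F)) : Prop :=
  ∀ {x y : P9}, x ≠ y → ∀ {τ : F}, τ * σ τ = 1 →
    Mem X (monP (Equiv.swap x y) fun w => if w = x then -σ τ else if w = y then τ else 1)

/-- Every monomial isometry of determinant one. -/
theorem mon_mem (hX : Gens ω X) (hI : Iso σ X) (hsw : Swaps σ X)
    (π : Equiv.Perm P9) : ∀ v : P9 → F, (∀ x, v x * σ (v x) = 1) → (monP π v).det = 1 → Mem X (monP π v) := by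
  classical
  induction π using Equiv.Perm.swap_induction_on with
  | one =>
    intro v hv hd
    have hid : (⇑(1 : Equiv.Perm P9)) = id := rfl
    rw [hid] at hd ⊢
    have hdiag : monP id v = Matrix.diagonal v := by
      ext x y; simp [monP, Matrix.diagonal_apply, eq_comm]
    rw [hdiag, Matrix.det_diagonal] at hd
    have hpair : ∀ x y : P9, x ≠ y → ∀ ψ : F, ψ * σ ψ = 1 →
        Mem X (monP id fun w => if w = x then ψ else if w = y then σ ψ else 1) := by
      intro x y hxy ψ hψ
      have := (hsw hxy (τ := 1) (by rw [map_one, one_mul])).mul (hsw hxy (τ := -ψ) (by rw [map_neg, neg_mul_neg, hψ]))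
      rw [monP_mul, show (⇑(Equiv.swap x y) ∘ ⇑(Equiv.swap x y)) = id from
        funext fun w => Equiv.swap_apply_self x y w] at this
      convert this using 2
      funext w
      by_cases hwx : w = x
      · subst hwx; simp [Ne.symm hxy]
      · by_cases hwy : w = y
        · subst hwy; simp [hxy, Ne.symm hxy]
        · simp [hwx, hwy, Equiv.swap_apply_of_ne_of_ne hwx hwy]
    obtain ⟨o, ho⟩ : ∃ o : P9, o = (0, 0) := ⟨_, rfl⟩
    have key : ∀ S : Finset P9, o ∉ S →
        Mem X (monP id fun w => if w ∈ S then v w else if w = o then (∏ s ∈ S, v s)⁻¹ else 1) := by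
      intro S
      induction S using Finset.induction_on with
      | empty =>
        intro _
        convert (monP_one (F := F)) ▸ (Mem.one (X := X)) using 2
        funext w; simp
      | insert a S ha ih =>
        intro hoS
        have hao : a ≠ o := fun e => hoS (e ▸ Finset.mem_insert_self a S)
        have hoS' : o ∉ S := fun e => hoS (Finset.mem_insert_of_mem e)
        have := (hpair a o hao (v a) (hv a)).mul (ih hoS')
        rw [monP_mul, Function.id_comp] at this
        convert this using 2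
        funext w
        rw [Finset.prod_insert ha]
        by_cases hwa : w = a
        · subst hwa; simp [ha, hao]
        · by_cases hwo : w = o
          · subst hwo
            simp [hoS', hwa, mul_comm, inv_eq_of_mul_eq_one_right (hv a)]
          · simp [hwa, hwo]
    have := key (Finset.univ.erase o) (Finset.notMem_erase o _)
    convert this using 2
    funext w
    by_cases hwo : w = o
    · subst hwo
      rw [if_neg (Finset.notMem_erase w _), if_pos rfl]
      refine eq_inv_of_mul_eq_one_left ?_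
      rw [← hd, ← Finset.mul_prod_erase _ _ (Finset.mem_univ w)]
    · rw [if_pos (Finset.mem_erase.mpr ⟨hwo, Finset.mem_univ w⟩)]
  | swap_mul f x y hxy ih =>
    intro v hv hd
    obtain ⟨t, ht'⟩ : ∃ t : P9 → F, t = fun w => if w = x then -σ 1 else if w = y then 1 else 1 := ⟨_, rfl⟩
    have hs : Mem X (monP (Equiv.swap x y) t) := ht' ▸ hsw hxy (τ := 1) (by rw [map_one, one_mul])
    have htn : ∀ w, t w * σ (t w) = 1 := monP_norm hI (Equiv.swap x y).injective hs
    obtain ⟨u, hu⟩ : ∃ u : P9 → F, u = fun w => v w / t (f w) := ⟨_, rfl⟩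
    have e : monP (⇑(Equiv.swap x y * f)) v = monP f u * monP (Equiv.swap x y) t := by
      rw [monP_mul, Equiv.Perm.coe_mul]
      congr 1
      funext w
      rw [hu, div_mul_cancel₀ _ (left_ne_zero_of_mul_eq_one (htn (f w)))]
    rw [e]
    refine (ih u (fun w => ?_) ?_).mul hs
    · rw [hu, map_div₀, div_mul_div_comm, hv, htn, div_one]
    · rw [e, Matrix.det_mul, monP_det hX hs, mul_one] at hd
      exact hd

/-- A non-monomial element and all transpositions give the unitary group. -/
theorem su_of_swaps (hσ : IsUSigma p σ) (hX : Gens ω X) (hI : Iso σ X) (hsw : Swaps σ X) {M : Matrix P9 P9 F}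
    (hM : Mem X M) {i j : P9} (hji : j ≠ i) (hiv : M i i ≠ 0) (hjv : M j i ≠ 0) {g : GL P9 F}
    (hgd : (g : Matrix P9 P9 F).det = 1)
    (hg : ∀ u v, hm σ ((g : Matrix P9 P9 F) *ᵥ u) ((g : Matrix P9 P9 F) *ᵥ v) = hm σ u v) : g ∈ X := by
  classical
  obtain ⟨e, -⟩ : ∃ e : P9 ≃ Fin 9, e = finProdFinEquiv := ⟨_, rfl⟩
  let φ : GL P9 F ≃* GL (Fin 9) F := Units.mapEquiv (Matrix.reindexAlgEquiv F F e).toMulEquiv
  have hval : ∀ k : GL P9 F, (φ k : Matrix (Fin 9) (Fin 9) F) = Matrix.reindex e e (k : Matrix P9 P9 F) := fun _ => rfl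
  have hmul : ∀ (k : GL P9 F) (v : Fin 9 → F),
      (φ k : Matrix (Fin 9) (Fin 9) F) *ᵥ v = ((k : Matrix P9 P9 F) *ᵥ (v ∘ e)) ∘ e.symm := fun k v => by
    rw [hval, Matrix.reindex_apply, Matrix.submatrix_mulVec_equiv, Equiv.symm_symm]
  have hform : ∀ u v : Fin 9 → F, hermForm 9 F p u v = hm σ (u ∘ e) (v ∘ e) := fun u v => by
    rw [hσ.hermForm_eq]
    exact (Equiv.sum_comp e fun i => u i * σ (v i)).symm
  have hin : ∀ k : GL P9 F, (k : Matrix P9 P9 F).det = 1 →
      (∀ u v, hm σ ((k : Matrix P9 P9 F) *ᵥ u) ((k : Matrix P9 P9 F) *ᵥ v) = hm σ u v) → φ k ∈ suGL 9 F p := by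
    intro k hd hk
    refine ⟨mem_GU_iff.mpr fun u v => ?_, mem_specialLinear_iff.mpr (by rw [hval, Matrix.det_reindex_self, hd])⟩
    rw [hmul, hmul, hform, hform]
    simp only [Function.comp_assoc, Equiv.symm_comp_self, Function.comp_id]
    exact hk _ _
  obtain ⟨K, hK⟩ : ∃ K : Subgroup (GL (Fin 9) F), K = X.map φ.toMonoidHom := ⟨_, rfl⟩
  have D : UFrame.Data p σ K := by
    refine ⟨hσ, by norm_num, ?_, fun k hk hkm => ?_⟩
    · rw [hK]; rintro _ ⟨k, hkX, rfl⟩
      exact hin k (hX.det k hkX) (hI k hkX)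
    · obtain ⟨k, rfl⟩ := φ.surjective k
      obtain ⟨τ, hτ⟩ := LMon.mon_perm hkm
      obtain ⟨π, hπ⟩ : ∃ π : Equiv.Perm P9, π = ((e.trans τ).trans e.symm)⁻¹ := ⟨_, rfl⟩
      obtain ⟨v, hv⟩ : ∃ v : P9 → F, v = fun x => (k : Matrix P9 P9 F) x (π x) := ⟨_, rfl⟩
      have hkP : (k : Matrix P9 P9 F) = monP π v := by
        ext x y
        rw [monP, Matrix.of_apply]
        split_ifs with hy
        · rw [hv, hy]
        · have hne : e x ≠ τ (e y) := fun h => hy (by
            rw [hπ, Equiv.Perm.inv_def, Equiv.eq_symm_apply]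
            simp [← h])
          have := ((hτ (e y)).2 (e x) hne).1
          rwa [hval, Matrix.reindex_apply, Matrix.submatrix_apply, e.symm_apply_apply, e.symm_apply_apply] at this
      have hdet : (k : Matrix P9 P9 F).det = 1 := by
        have := mem_specialLinear_iff.mp hk.2
        rwa [hval, Matrix.det_reindex_self] at this
      have hn : ∀ x, v x * σ (v x) = 1 := fun x => by
        have h := mem_GU_iff.mp hk.1 (Pi.single (π x) 1 ∘ e.symm) (Pi.single (π x) 1 ∘ e.symm)
        rw [hmul, hform, hform] at h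
        simp only [Function.comp_assoc, Equiv.symm_comp_self, Function.comp_id] at h
        rw [hkP, monP_mulVec, show (fun y => v y * (Pi.single (π x) (1 : F) : P9 → F) (π y)) = Pi.single x (v x) by
          funext y; by_cases hy : y = x
          · subst hy; simp
          · simp [hy], hm_single_left, hm_single_left, Pi.single_eq_same, Pi.single_eq_same, map_one,
          mul_one] at h
        exact h
      obtain ⟨k', hk', e'⟩ := mon_mem hX hI hsw π v hn (hkP ▸ hdet)
      exact hK ▸ ⟨k', hk', by rw [show k' = k from Units.ext (e'.trans hkP.symm)]; rfl⟩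
  obtain ⟨m, hm', hme⟩ := hM
  have hnm : ¬ LMon.IsMon (φ m : Matrix (Fin 9) (Fin 9) F) := fun hmon => by
    obtain ⟨r, hr⟩ := hmon (e i)
    have hen : ∀ w, (φ m : Matrix (Fin 9) (Fin 9) F) (e w) (e i) = M w i := fun w => by
      rw [hval, Matrix.reindex_apply, Matrix.submatrix_apply, e.symm_apply_apply, e.symm_apply_apply, hme]
    have h1 : e j = r := Classical.byContradiction fun h => hjv ((hen j).symm.trans (hr _ h))
    have h2 : e i = r := Classical.byContradiction fun h => hiv ((hen i).symm.trans (hr _ h))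
    exact hji (e.injective (h1.trans h2.symm))
  have hfull : suGL 9 F p ≤ K := UFrame.full D (by norm_num) (by norm_num) (hK ▸ ⟨m, hm', rfl⟩) hnm
  obtain ⟨k, hk, hke⟩ := hK ▸ hfull (hin g hgd hg)
  exact φ.injective hke ▸ hk

/-- **The unitary group, odd characteristic.** -/
theorem su_of_trans9 (hσ : IsUSigma p σ) (h2 : p ≠ 2) (hX : Gens ω X) (hmix : Mixed X) (hI : Iso σ X) (ht : TransW X)
    {g : GL P9 F} (hgd : (g : Matrix P9 P9 F).det = 1)
    (hg : ∀ u v, hm σ ((g : Matrix P9 P9 F) *ᵥ u) ((g : Matrix P9 P9 F) *ᵥ v) = hm σ u v) : g ∈ X := by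
  classical
  obtain ⟨z, hz0, hzz, -, hz⟩ := hasC_of_trans hσ hI ht
  obtain ⟨c, hc0, hc⟩ := hσ.exists_skew
  obtain ⟨i, hi⟩ : ∃ i, z i ≠ 0 := Function.ne_iff.mp hz0
  obtain ⟨j, hji, hj⟩ : ∃ j, j ≠ i ∧ z j ≠ 0 := by
    by_contra hcon
    push Not at hcon
    have e0 : z = Pi.single i (z i) := by
      funext w
      by_cases hw : w = i
      · subst hw; simp
      · simp [hw, hcon w hw]
    rw [e0, hm_single_left, Pi.single_eq_same] at hzz
    exact mul_ne_zero hi ((map_ne_zero σ).mpr hi) hzz
  refine su_of_swaps hσ hX hI (fun hxy _ hτ => swap_mem hσ h2 hX hmix hI ht hxy hτ) (hz c hc) hji ?_ ?_ hgd hg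
  · rw [tv]
    simp only [Matrix.add_apply, Matrix.one_apply_eq, vecMulVec_apply, Pi.smul_apply, cj, smul_eq_mul]
    intro h0
    have h1 := congrArg σ h0
    rw [map_add, map_mul, map_mul, hσ.involutive, map_one, map_zero] at h1
    exact two_ne h2 (by linear_combination h0 + h1 - (z i * σ (z i)) * hc)
  · rw [tv]
    simp [hji, cj, hc0, hj, hi, vecMulVec_apply]

end Cfsg.Agent.Classical.TriFrame
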