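/-
The unitary case in characteristic two.
-/
import Cfsg.Agent.Lib.Classical.TriFrame.TransUFull

set_option autoImplicit false
set_option linter.unusedSectionVars false

namespace Cfsg.Agent.Classical.TriFrame

open Matrix Kronecker Cfsg.Geo
open Cfsg.Agent.Classical
open Cfsg.Agent.Classical.LinThree.Hess

variable {F : Type*} [Field F] [Fintype F] {ω : F} {X : Subgroup (GL P9 F)} {σ : F ≃+* F} [CharP F 2]

theorem neg_eq_self2 (a : F) : -a = a := CharTwo.neg_eq a

/-- The first transposition. -/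
theorem swap_zero (hX : Gens ω X) (hmix : Mixed X) :
    Mem X (monP (Equiv.swap ((1, 0) : P9) (2, 0)) fun _ => (1 : F)) := by
  have h := (sup_qm_mem hX hmix 0 0).mul (sup_qm_mem hX hmix 0 0)
  rw [sup_mul, qm_sq hX.om] at h
  convert h using 1
  ext ⟨i, k⟩ ⟨j, l⟩
  rw [sup_apply, monP, Matrix.of_apply]
  fin_cases i <;> fin_cases k <;> fin_cases j <;> fin_cases l <;>
    simp [Tm, mono, neg_eq_self2, pw_zero, Equiv.swap_apply_def, Prod.ext_iff, Fin.ext_iff] <;> decide

/-- All transpositions. -/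
theorem swaps_two (hσ : IsUSigma 2 σ) (hX : Gens ω X) (hmix : Mixed X) (hI : Iso σ X) : Swaps σ X := by
  classical
  intro x y hxy τ hτ
  obtain ⟨d, hd, hm'⟩ := pairs_all hX
    (fun x y => ∃ d : P9 → F, (∀ w, w ≠ x → w ≠ y → d w = 1) ∧ Mem X (monP (Equiv.swap x y) d))
    (fun π v hπ hv hm' x y ⟨d, hd, hdm⟩ => by
      obtain ⟨e, he⟩ : ∃ e : P9 → F, e = fun w => v w * d (π w) / v (Equiv.swap x y w) := ⟨_, rfl⟩
      refine ⟨e, fun w h1 h2 => ?_, hm'.conj hdm ?_⟩
      · simp only [he]
        rw [Equiv.swap_apply_of_ne_of_ne h1 h2, hd _ (hπ.ne h1) (hπ.ne h2), mul_one, div_self (hv w)]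
      · rw [monP_mul, monP_mul]
        congr 1
        · funext w
          exact (hπ.map_swap x y w).symm
        · funext w
          rw [he, div_mul_cancel₀ _ (hv _)])
    (show ((1, 0) : P9) ≠ (2, 0) by decide) ⟨fun _ => 1, fun _ _ _ => rfl, swap_zero hX hmix⟩ x y hxy
  have hdet : d x * d y = 1 := by
    have h := monP_det hX hm'
    rw [show monP (⇑(Equiv.swap x y)) d = Matrix.diagonal d * (Equiv.swap x y).permMatrix F by
      ext u w
      rw [Matrix.diagonal_mul, monP, Matrix.of_apply]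
      simp [Equiv.Perm.permMatrix, PEquiv.toMatrix_apply, eq_comm], Matrix.det_mul, Matrix.det_diagonal,
      Matrix.det_permutation, Equiv.Perm.sign_swap hxy,
      ← Finset.prod_subset (Finset.subset_univ {x, y}) (fun w _ hw => hd w (fun e => hw (by simp [e]))
        (fun e => hw (by simp [e]))), Finset.prod_pair hxy] at h
    simpa [neg_eq_self2] using h
  have hdn := monP_norm hI (Equiv.swap x y).injective hm'
  have hdx : d x ≠ 0 := left_ne_zero_of_mul_eq_one (hdn x)
  obtain ⟨ψ, hψ'⟩ : ∃ ψ, ψ = σ τ / d x := ⟨_, rfl⟩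
  have hψ : ψ * σ ψ = 1 := by
    rw [hψ', map_div₀, hσ.involutive, div_mul_div_comm, mul_comm (σ τ) τ, hτ, hdn, div_one]
  have hcube : ψ * ψ * ψ = 1 := by
    have := hψ
    rw [hσ.apply_eq] at this
    linear_combination this
  obtain ⟨c, hc⟩ := pw_exists hX.om hcube
  have hσψ : σ ψ = ψ * ψ := by rw [hσ.apply_eq, pow_two]
  have hdiag : Mem X (monP id fun w => if w = x then ψ else if w = y then σ ψ else 1) := by
    rw [hσψ, hc]
    have h3 := hX.om.cube
    fin_cases c
    · convert (monP_one (F := F)) ▸ (Mem.one (X := X)) using 2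
      funext w; simp [pw]
    · have := pd_monP ω x y ▸ pd_mem hX hmix hxy
      convert this using 2
      funext w
      by_cases h1 : w = x <;> by_cases h2 : w = y <;> simp [h1, h2, pw]
    · have := pd_monP ω y x ▸ pd_mem hX hmix (Ne.symm hxy)
      convert this using 2
      funext w
      by_cases h1 : w = x
      · subst h1; simp [hxy, pw, pow_two]
      · by_cases h2 : w = y
        · subst h2; simp [h1, pw, pow_two]; linear_combination ω * h3
        · simp [h1, h2]
  have hfin := hdiag.mul hm'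
  rw [monP_mul, Function.comp_id] at hfin
  convert hfin using 2
  funext w
  have hψx : ψ * d x = σ τ := by rw [hψ', div_mul_cancel₀ _ hdx]
  by_cases h1 : w = x
  · subst h1; simp [neg_eq_self2, hψx]
  · by_cases h2 : w = y
    · subst h2
      simp only [id, h1, if_false, if_true]
      have h4 : σ ψ * σ (d x) = τ := by rw [← map_mul, hψx, hσ.involutive]
      linear_combination -h4 + (σ ψ) * (d w * hdn x) - (σ ψ * σ (d x)) * hdet
    · simp [h1, h2, hd w h1 h2]

/-- **The unitary group, characteristic two.** -/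
theorem su_two (hσ : IsUSigma 2 σ) (hX : Gens ω X) (hmix : Mixed X) (hI : Iso σ X) {g : GL P9 F}
    (hgd : (g : Matrix P9 P9 F).det = 1)
    (hg : ∀ u v, hm σ ((g : Matrix P9 P9 F) *ᵥ u) ((g : Matrix P9 P9 F) *ᵥ v) = hm σ u v) : g ∈ X := by
  haveI : Fact (Nat.Prime 2) := ⟨Nat.prime_two⟩
  have hω : ω - ω * ω ≠ 0 := fun e => hX.om.three (by linear_combination -(ω - ω * ω) * e + hX.om.gauss_sq)
  refine su_of_swaps hσ hX hI (fun hxy _ hτ => swaps_two hσ hX hmix hI hxy hτ) (hX.quarter 0)
    (i := ((0, 0) : P9)) (j := (1, 0)) (by decide) ?_ ?_ hgd hg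
  · simp [kroneckerMap_apply, qm, Fm, hω, pw]
  · simp [kroneckerMap_apply, qm, Fm, hω, pw]

end Cfsg.Agent.Classical.TriFrame
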