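/-
Explicit conjugated pairs: an element acting by scalars on two blocks only gives a transvection in characteristic
at least five.
-/
import Cfsg.Agent.Lib.Classical.TriFrame.Transv

set_option autoImplicit false
set_option linter.unusedSectionVars false

namespace Cfsg.Agent.Classical.TriFrame

open Matrix Kronecker
open Cfsg.Agent.Classical.LinThree.Hess

variable {F : Type*} [Field F] [Fintype F] {ω : F} {X : Subgroup (GL P9 F)}

/-- A matrix supported on a row. -/
def rsup (i : Fin 3) (M : Matrix (Fin 3) (Fin 3) F) : Matrix P9 P9 F :=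
  Matrix.of fun x y => sup i M (x.2, x.1) (y.2, y.1)

theorem rsup_apply (i : Fin 3) (A : Matrix (Fin 3) (Fin 3) F) (x y : P9) :
    rsup i A x y = if x.1 = i ∧ y.1 = i then A x.2 y.2 else if x = y then 1 else 0 := by
  obtain ⟨a, k⟩ := x
  obtain ⟨b, l⟩ := y
  simp only [rsup, Matrix.of_apply, sup_apply, Prod.mk.injEq, and_comm]

theorem rsup_mem (hX : Gens ω X) {i : Fin 3} {M : Matrix (Fin 3) (Fin 3) F} (hM : Mem X (sup i M)) :
    Mem X (rsup i M) := by
  refine hX.swap.conj hM ?_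
  rw [sw_mul, mul_sw]
  rfl

theorem rsup_mul (i : Fin 3) (A B : Matrix (Fin 3) (Fin 3) F) : rsup i A * rsup i B = rsup i (A * B) := by
  ext x y
  rw [Matrix.mul_apply, rsup, rsup, rsup, Matrix.of_apply, ← sup_mul, Matrix.mul_apply]
  exact Fintype.sum_equiv (Equiv.prodComm _ _) _ _ fun _ => rfl

theorem rsup_one (i : Fin 3) : rsup i (1 : Matrix (Fin 3) (Fin 3) F) = 1 := by
  ext ⟨a, k⟩ ⟨b, l⟩
  simp only [rsup, Matrix.of_apply, sup_one, Matrix.one_apply, Prod.mk.injEq, and_comm]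

/-- The inverse quarter turn. -/
def qi (ω : F) : Matrix (Fin 3) (Fin 3) F := Matrix.of fun i j => -((ω - ω * ω)⁻¹ * pw ω (-(i * j)))

theorem qm_qi (h : Om ω) : qm ω 0 * qi ω = 1 := by
  have e : Fm ω 0 * (Matrix.of fun i j : Fin 3 => pw ω (-(i * j))) = (3 : F) • 1 := by
    have := h.root
    ext i j
    fin_cases i <;> fin_cases j <;>
      simp [Fm, Matrix.mul_apply, Fin.sum_univ_three, pw_zero, pw_one_val, pw_two_val, fin_three_facts] <;> grind
  have hqi : qi ω = (-(ω - ω * ω)⁻¹) • Matrix.of fun i j : Fin 3 => pw ω (-(i * j)) := by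
    ext i j
    simp [qi]
  rw [hqi, qm, Matrix.smul_mul, Matrix.mul_smul, e, smul_smul, smul_smul]
  have hg := h.gauss_sq
  have hne := h.gauss_ne
  have : -(ω - ω * ω)⁻¹ * (3 : F) = ω - ω * ω := by
    rw [show (3 : F) = -((ω - ω * ω) * (ω - ω * ω)) by rw [hg, neg_neg], neg_mul_neg, ← mul_assoc, inv_mul_cancel₀ hne,
      one_mul]
  rw [mul_assoc, this, inv_mul_cancel₀ hne, one_smul]

theorem gauss_pow (h : Om ω) : ((ω - ω * ω)⁻¹) ^ 2 = -(3 : F)⁻¹ := by
  rw [inv_pow, pow_two, h.gauss_sq, ← inv_neg]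

/-- **The transvection.** -/
theorem mixed_trans {p : ℕ} [hp : Fact p.Prime] [CharP F p] (h5 : 5 ≤ p) (hX : Gens ω X) (hmix : Mixed X) :
    TransW X := by
  classical
  have h := hX.om
  have h3 := h.three
  obtain ⟨g, hg⟩ : ∃ g, g = (ω - ω * ω)⁻¹ := ⟨_, rfl⟩
  have hg2 : g ^ 2 = -(3 : F)⁻¹ := hg ▸ gauss_pow h
  have hQ := sup_qm_mem hX hmix
  have hne : ∀ n : ℕ, ¬ p ∣ n → (n : F) ≠ 0 := fun n hn e => hn ((CharP.cast_eq_zero_iff F p n).mp e)
  have hndvd : ∀ n : ℕ, n.Prime → n ≠ p → ¬ p ∣ n := fun n hn hnp hd =>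
    hnp ((Nat.prime_dvd_prime_iff_eq hp.out hn).mp hd).symm
  by_cases hp5 : p = 5
  · -- three quarter turns
    refine pair_trans (p := p) (by omega) hX hmix
      (G := rsup 1 (qm ω 0) * sup 0 (qm ω 0) * rsup 0 (qm ω 0))
      (Gi := rsup 0 (qi ω) * sup 0 (qi ω) * rsup 1 (qi ω))
      (((rsup_mem hX (hQ 1 0)).mul (hQ 0 0)).mul (rsup_mem hX (hQ 0 0))) ?_ (j := (1, 0)) (by decide) ?_ ?_
      (x := (27 : F)⁻¹) ?_ ?_ ?_ ?_
    · rw [show rsup 1 (qm ω 0) * sup 0 (qm ω 0) * rsup 0 (qm ω 0) * (rsup 0 (qi ω) * sup 0 (qi ω) * rsup 1 (qi ω)) =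
        rsup 1 (qm ω 0) * (sup 0 (qm ω 0) * (rsup 0 (qm ω 0) * rsup 0 (qi ω)) * sup 0 (qi ω)) * rsup 1 (qi ω) by
          simp only [Matrix.mul_assoc]]
      rw [rsup_mul, qm_qi h, rsup_one, Matrix.mul_one, sup_mul, qm_qi h, sup_one, Matrix.mul_one, rsup_mul, qm_qi h,
        rsup_one]
    · intro z
      obtain ⟨a, b⟩ := z
      fin_cases a <;> fin_cases b <;>
        simp [Matrix.mul_apply, Fintype.sum_prod_type, Fin.sum_univ_three, rsup_apply, sup_apply]
    · intro z
      obtain ⟨a, b⟩ := z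
      fin_cases a <;> fin_cases b <;>
        simp [Matrix.mul_apply, Fintype.sum_prod_type, Fin.sum_univ_three, rsup_apply, sup_apply]
    · simp [Matrix.mul_apply, Fintype.sum_prod_type, Fin.sum_univ_three, rsup_apply, sup_apply, qm, qi, Fm, pw_zero,
        ← hg]
      have : (27 : F)⁻¹ = (3 : F)⁻¹ * (3 : F)⁻¹ * (3 : F)⁻¹ := by rw [← mul_inv, ← mul_inv]; norm_num
      rw [this]
      grind
    · exact inv_ne_zero (by have := hne 27 (by rw [hp5]; decide); exact_mod_cast this)
    · intro e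
      rw [inv_eq_one] at e
      have : ((26 : ℕ) : F) = 0 := by push_cast; linear_combination e
      exact hne 26 (by rw [hp5]; decide) this
    · left
      have h27 : (27 : F) ≠ 0 := by have := hne 27 (by rw [hp5]; decide); exact_mod_cast this
      have h50 : (5 : F) = 0 := by
        have := CharP.cast_eq_zero F p
        rw [hp5] at this
        exact_mod_cast this
      field_simp
      linear_combination 21 * h50
  · -- two quarter turns
    refine pair_trans (p := p) (by omega) hX hmix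
      (G := sup 0 (qm ω 0) * rsup 0 (qm ω 0)) (Gi := rsup 0 (qi ω) * sup 0 (qi ω))
      ((hQ 0 0).mul (rsup_mem hX (hQ 0 0))) ?_ (j := (0, 0)) (by decide) ?_ ?_ (x := (9 : F)⁻¹) ?_ ?_ ?_ ?_
    · rw [show sup 0 (qm ω 0) * rsup 0 (qm ω 0) * (rsup 0 (qi ω) * sup 0 (qi ω)) =
        sup 0 (qm ω 0) * (rsup 0 (qm ω 0) * rsup 0 (qi ω)) * sup 0 (qi ω) by simp only [Matrix.mul_assoc],
        rsup_mul, qm_qi h, rsup_one, Matrix.mul_one, sup_mul, qm_qi h, sup_one]
    · intro z
      obtain ⟨a, b⟩ := z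
      fin_cases a <;> fin_cases b <;>
        simp [Matrix.mul_apply, Fintype.sum_prod_type, Fin.sum_univ_three, rsup_apply, sup_apply]
    · intro z
      obtain ⟨a, b⟩ := z
      fin_cases a <;> fin_cases b <;>
        simp [Matrix.mul_apply, Fintype.sum_prod_type, Fin.sum_univ_three, rsup_apply, sup_apply]
    · simp [Matrix.mul_apply, Fintype.sum_prod_type, Fin.sum_univ_three, rsup_apply, sup_apply, qm, qi, Fm, pw_zero,
        ← hg]
      have : (9 : F)⁻¹ = (3 : F)⁻¹ * (3 : F)⁻¹ := by rw [← mul_inv]; norm_num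
      rw [this]
      grind
    · exact inv_ne_zero (by
        have h9 := mul_ne_zero h3 h3
        norm_num at h9
        exact h9)
    · intro e
      rw [inv_eq_one] at e
      have h2 : ((2 : ℕ) : F) ≠ 0 := hne 2 (hndvd 2 Nat.prime_two (by omega))
      have h8 : ((2 : ℕ) : F) * ((2 : ℕ) : F) * ((2 : ℕ) : F) = 0 := by push_cast; linear_combination e
      exact mul_ne_zero (mul_ne_zero h2 h2) h2 h8
    · right
      rintro ⟨ht, hu⟩
      have h9 : (9 : F) ≠ 0 := by
        have h9 := mul_ne_zero h3 h3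
        norm_num at h9
        exact h9
      obtain ⟨t, ht'⟩ : ∃ t : F, t = 2 - 3 * (9 : F)⁻¹ := ⟨_, rfl⟩
      obtain ⟨u, hu'⟩ : ∃ u : F, u = -1 + 3 * (9 : F)⁻¹ := ⟨_, rfl⟩
      rw [← ht'] at ht
      rw [← hu'] at hu
      have et : 3 * t = 5 := by rw [ht']; field_simp; ring
      have eu : 3 * u = -2 := by rw [hu']; field_simp; ring
      have n2 : ((2 : ℕ) : F) ≠ 0 := hne 2 (hndvd 2 Nat.prime_two (by omega))
      have n5 : ((5 : ℕ) : F) ≠ 0 := hne 5 (hndvd 5 Nat.prime_five (Ne.symm hp5))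
      rcases ht with ht | ht | ht
      · exact n5 (by push_cast; linear_combination -et + 3 * ht)
      · refine mul_ne_zero (mul_ne_zero (mul_ne_zero n2 n2) n2) n2 ?_
        push_cast
        linear_combination 9 * ht - (3 * t + 5) * et
      · have h31 : ((31 : ℕ) : F) = 0 := by
          push_cast
          linear_combination 81 * ht - ((3 * t) ^ 3 + 5 * (3 * t) ^ 2 + 25 * (3 * t) + 125) * et +
            27 * (3 * t + 5) * et
        have hp31 : p = 31 := (Nat.prime_dvd_prime_iff_eq hp.out (by decide)).mp ((CharP.cast_eq_zero_iff F p 31).mp h31)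
        rcases hu with hu | hu | hu
        · exact n2 (by push_cast; linear_combination eu - 3 * hu)
        · exact n5 (by push_cast; linear_combination -9 * hu + (3 * u - 2) * eu)
        · refine hne 11 (by rw [hp31]; decide) ?_
          push_cast
          linear_combination -81 * hu + ((3 * u) ^ 3 - 2 * (3 * u) ^ 2 + 4 * (3 * u) - 8) * eu -
            27 * (3 * u - 2) * eu

end Cfsg.Agent.Classical.TriFrame
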