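/-
The two possibilities for a group holding the standard generators.
-/
import Cfsg.Agent.Lib.Classical.TriFrame.Main
import Cfsg.Agent.Lib.Classical.TriFrame.Words
import Cfsg.Agent.Lib.Classical.TriFrame.TransTwo
import Cfsg.Agent.Lib.Classical.TriFrame.TransUFull

set_option autoImplicit false
set_option linter.unusedSectionVars false

namespace Cfsg.Agent.Classical.TriFrame

open Matrix Kronecker Cfsg.Geo
open Cfsg.Agent.Classical
open Cfsg.Agent.Classical.LinThree.Hess

universe u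

variable {F : Type u} [Field F] [Fintype F] {ω : F} {X : Subgroup (GL P9 F)} {p : ℕ} [hp : Fact p.Prime] [CharP F p]

/-- The linear dichotomy. -/
theorem dichotomy_sl (hcard : Fintype.card F = p) (h7 : 7 ≤ p) (hX : Gens ω X) :
    X ≤ NN hX.om X ∨ specialLinear P9 F ≤ X := by
  by_cases hmix : Mixed X
  · exact Or.inr (sl_of_trans hcard hX hmix (mixed_trans (by omega) hX hmix))
  · exact Or.inl (normalises hX ⟨hp.out, ‹CharP F p›, Or.inl ⟨hcard, h7⟩⟩ hmix)

/-- The unitary dichotomy. -/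
theorem dichotomy_su {σ : F ≃+* F} (hσ : IsUSigma p σ) (hp3 : p ≠ 3) (hX : Gens ω X) (hI : Iso σ X) :
    X ≤ NN hX.om X ∨ ∀ g : GL P9 F, (g : Matrix P9 P9 F).det = 1 →
      (∀ u v, hm σ ((g : Matrix P9 P9 F) *ᵥ u) ((g : Matrix P9 P9 F) *ᵥ v) = hm σ u v) → g ∈ X := by
  have h2 := hp.out.two_le
  have h4 : p ≠ 4 := fun e => absurd (e ▸ hp.out) (by norm_num)
  have h6 : p ≠ 6 := fun e => absurd (e ▸ hp.out) (by norm_num)
  by_cases hmix : Mixed X
  · refine Or.inr fun g hgd hg => ?_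
    by_cases hp2 : p = 2
    · subst hp2; exact su_two hσ hX hmix hI hgd hg
    · exact su_of_trans9 hσ hp2 hX hmix hI (mixed_trans (by omega) hX hmix) hgd hg
  · exact Or.inl (normalises hX ⟨hp.out, ‹CharP F p›, Or.inr ⟨σ, hσ, hI, by omega⟩⟩ hmix)

end Cfsg.Agent.Classical.TriFrame
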