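/-
The normaliser of an extraspecial group of order 243 is maximal in the special linear and unitary groups of degree nine.
-/
import Cfsg.Agent.Lib.Classical.TriFrame.Std
import Cfsg.Agent.Lib.Classical.TriFrame.Top
import Cfsg.Agent.Lib.Classical.LinThree.HessMax
import Cfsg.Agent.Lib.Classical.UThree.HessMax

set_option autoImplicit false
set_option linter.unusedSectionVars false
set_option linter.style.haveILetI false

namespace Cfsg.Agent.Classical.TriFrame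

open Matrix Kronecker Cfsg Cfsg.Geo
open Cfsg.Agent.Classical
open Cfsg.Agent.Classical.LinThree.Hess

universe u

variable {F : Type u} [Field F] [Fintype F] {ω : F}

/-- The standard generators. -/
def Std (ω : F) (M : Matrix P9 P9 F) : Prop :=
  (∃ a, M = W ω a) ∨ (∃ k, M = qm ω k ⊗ₖ (1 : Matrix (Fin 3) (Fin 3) F)) ∨
    M = sh ω ⊗ₖ (1 : Matrix (Fin 3) (Fin 3) F) ∨ M = sw F ∨ ∃ i e, M = dg ω i e

theorem Std.acts (h : Om ω) {M : Matrix P9 P9 F} (hM : Std ω M) : ∃ f, Acts ω M f := by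
  rcases hM with ⟨a, rfl⟩ | ⟨k, rfl⟩ | rfl | rfl | ⟨i, e, rfl⟩
  · exact ⟨id, Acts.frame h a⟩
  · exact ⟨_, (Acts3.qm h k).kron Acts3.one⟩
  · exact ⟨_, (Acts3.sh h).kron Acts3.one⟩
  · exact ⟨_, Acts.sw h⟩
  · exact ⟨_, Acts.dg h i e⟩

theorem Std.det (h : Om ω) {M : Matrix P9 P9 F} (hM : Std ω M) : M.det = 1 := by
  rcases hM with ⟨a, rfl⟩ | ⟨k, rfl⟩ | rfl | rfl | ⟨i, e, rfl⟩
  · exact det_W h a
  · simp [det_kronecker, det_qm h]
  · rw [det_kronecker, det_sh h, Matrix.det_one, one_pow, mul_one, Fintype.card_fin]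
    linear_combination (ω * ω * ω + 1) * h.cube
  · exact det_sw
  · exact det_dg h i e

theorem Std.un {σ : F ≃+* F} {q : ℕ} (hσ : IsUSigma q σ) (h : Om ω) (hσω : σ ω = ω * ω) {M : Matrix P9 P9 F}
    (hM : Std ω M) : Un σ M := by
  rcases hM with ⟨a, rfl⟩ | ⟨k, rfl⟩ | rfl | rfl | ⟨i, e, rfl⟩
  · exact (un_rm h hσω a.1).kron (un_rm h hσω a.2)
  · exact (un_qm hσ h hσω k).kron Un.one
  · exact (un_sh h hσω).kron Un.one
  · exact un_sw
  · exact un_dg h hσω i e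

variable {R : Subgroup (GL (Fin 9) F)} {Pm : Matrix (Fin 9) P9 F} {Qm : Matrix P9 (Fin 9) F}

/-- **Maximality from a dichotomy.** -/
theorem isMaximal_of (hQP : Qm * Pm = 1) (hPQ : Pm * Qm = 1)
    (hmem : ∀ g : GL (Fin 9) F, g ∈ R ↔ ∃ c a, Qm * (g : Matrix (Fin 9) (Fin 9) F) * Pm = pw ω c • W ω a) (h : Om ω)
    (S : Subgroup (GL (Fin 9) F)) (hdet : ∀ g ∈ S, (g : Matrix (Fin 9) (Fin 9) F).det = 1)
    (hstd : ∀ M : Matrix P9 P9 F, Std ω M → ∃ g ∈ S, (cvt Pm Qm hQP hPQ g : Matrix P9 P9 F) = M)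
    (hdich : ∀ X : Subgroup (GL P9 F), Gens ω X → (∀ g ∈ X, (cvt Pm Qm hQP hPQ).symm g ∈ S) →
      X ≤ NN h X ∨ ∀ g ∈ S, cvt Pm Qm hQP hPQ g ∈ X)
    (hbad : ∃ g ∈ S, ∀ f, ¬ Acts ω (cvt Pm Qm hQP hPQ g : Matrix P9 P9 F) f) :
    IsMaximalIn S (subgroupNormalizer R ⊓ S) := by
  refine ⟨lt_of_le_not_ge inf_le_right fun hall => ?_, fun M hle hM => ?_⟩
  · obtain ⟨g, hg, hf⟩ := hbad
    obtain ⟨f, hf'⟩ := acts_of_normalises hQP hPQ hmem h (hall hg).1
    exact hf f hf'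
  obtain ⟨X, hXd⟩ : ∃ X : Subgroup (GL P9 F), X = M.map (cvt Pm Qm hQP hPQ).toMonoidHom := ⟨_, rfl⟩
  have hstd' : ∀ N, Std ω N → Mem X N := fun N hN => by
    obtain ⟨g, hg, he⟩ := hstd N hN
    obtain ⟨f, hf⟩ := hN.acts h
    refine ⟨cvt Pm Qm hQP hPQ g, ?_, he⟩
    rw [hXd]
    exact Subgroup.mem_map_of_mem _ (hle ⟨normalises_of_acts hQP hPQ hmem h (he.symm ▸ hf), hg⟩)
  have hX : Gens ω X :=
    { om := h
      det := fun g hg => by
        rw [hXd] at hg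
        obtain ⟨x, hx, rfl⟩ := hg
        exact (det_cvt Pm Qm hQP hPQ x).trans (hdet x (hM hx))
      frame := fun a => hstd' _ (Or.inl ⟨a, rfl⟩)
      quarter := fun k => hstd' _ (Or.inr (Or.inl ⟨k, rfl⟩))
      shear := hstd' _ (Or.inr (Or.inr (Or.inl rfl)))
      swap := hstd' _ (Or.inr (Or.inr (Or.inr (Or.inl rfl))))
      lin := fun i e => hstd' _ (Or.inr (Or.inr (Or.inr (Or.inr ⟨i, e, rfl⟩)))) }
  rcases hdich X hX (fun g hg => by
    rw [hXd] at hg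
    obtain ⟨x, hx, rfl⟩ := hg
    simpa using hM hx) with hN | hT
  · left
    refine le_antisymm (fun g hg => ⟨?_, hM hg⟩) hle
    obtain ⟨-, f, hf⟩ := hN (show cvt Pm Qm hQP hPQ g ∈ X by rw [hXd]; exact Subgroup.mem_map_of_mem _ hg)
    exact normalises_of_acts hQP hPQ hmem h hf
  · right
    refine le_antisymm hM fun g hg => ?_
    have := hT g hg
    rw [hXd] at this
    obtain ⟨x, hx, hxe⟩ := this
    exact (cvt Pm Qm hQP hPQ).injective hxe ▸ hx

/-- The coordinates of a group of the relevant kind. -/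
theorem coords_of (hsymp : IsSymplecticTypeGroup 3 R) (habs : ActsAbsolutelyIrreducibly (matrixSet R))
    (h3 : (3 : F) ≠ 0) (hcard : Nat.card R = 243) (hZ : Nat.card (Subgroup.center R) = 3) :
    ∃ (ω : F) (Pm : Matrix (Fin 9) P9 F) (Qm : Matrix P9 (Fin 9) F), Om ω ∧ Qm * Pm = 1 ∧ Pm * Qm = 1 ∧
      ∀ g : GL (Fin 9) F, g ∈ R ↔ ∃ c a, Qm * (g : Matrix (Fin 9) (Fin 9) F) * Pm = pw ω c • W ω a :=
  exists_coords9 (fun g hg => by
    have h := (Monoid.exponent_dvd_iff_forall_pow_eq_one.mp (dvd_of_eq hsymp.exponent_eq)) (⟨g, hg⟩ : R)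
    simpa using congrArg Subtype.val h) (symplecticTypeGroup_comm hsymp habs) habs h3 hcard hZ

/-- **The linear group.** -/
theorem isMaximal_sl {p : ℕ} (hp : p.Prime) (hF : Fintype.card F = p) (h1 : p % 3 = 1)
    (hR : IsLinearSymplecticTypeData 3 R) :
    IsMaximalIn (specialLinear (Fin 9) F) (subgroupNormalizer R ⊓ specialLinear (Fin 9) F) := by
  haveI := Fact.mk hp
  haveI : CharP F p := Cfsg.Agent.Classical.Frame.charP_of_card_pow hp one_ne_zero (by rw [pow_one, hF])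
  have h7 : 7 ≤ p := by
    have := hp.two_le
    rcases Nat.lt_or_ge p 7 with h | h
    · interval_cases p <;> simp_all (config := { decide := true })
    · exact h
  have h3 : (3 : F) ≠ 0 := by
    rw [show (3 : F) = ((3 : ℕ) : F) by norm_num, Ne, CharP.cast_eq_zero_iff F p]
    exact fun h => by have := Nat.le_of_dvd (by norm_num) h; omega
  have hZ : Nat.card (Subgroup.center R) = 3 := by
    obtain ⟨q, e, -, -, h | h | h⟩ := hR.field
    · exact h.2.2.1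
    · exact absurd h.1 (by decide)
    · exact absurd h.1 (by decide)
  have hcard : Nat.card R = 243 := by
    haveI : Nonempty (Fin 9) := ⟨0⟩
    rw [← card_sq_of_scalar_commutators hR.absIrred (symplecticTypeGroup_comm hR.symplecticType hR.absIrred), hZ,
      Fintype.card_fin]
    norm_num
  obtain ⟨ω, Pm, Qm, h, hQP, hPQ, hmem⟩ := coords_of hR.symplecticType hR.absIrred h3 hcard hZ
  have hmk : ∀ M : Matrix P9 P9 F, M.det = 1 →
      ∃ g ∈ specialLinear (Fin 9) F, (cvt Pm Qm hQP hPQ g : Matrix P9 P9 F) = M := fun M hM => by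
    obtain ⟨u, hu⟩ : ∃ u : GL P9 F, (u : Matrix P9 P9 F) = M :=
      ⟨GeneralLinearGroup.mkOfDetNeZero M (by rw [hM]; exact one_ne_zero), rfl⟩
    refine ⟨(cvt Pm Qm hQP hPQ).symm u, mem_specialLinear_iff.mpr ?_, by rw [MulEquiv.apply_symm_apply, hu]⟩
    rw [← det_cvt Pm Qm hQP hPQ, MulEquiv.apply_symm_apply, hu, hM]
  refine isMaximal_of hQP hPQ hmem h _ (fun g hg => mem_specialLinear_iff.mp hg)
    (fun M hM => hmk M (hM.det h)) (fun X hX _ => ?_) ?_
  · rcases dichotomy_sl hF h7 hX with hN | hT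
    · exact Or.inl hN
    · exact Or.inr fun g hg => hT (mem_specialLinear_iff.mpr ((det_cvt Pm Qm hQP hPQ g).trans
        (mem_specialLinear_iff.mp hg)))
  · obtain ⟨u, hu, -, hf⟩ := exists_bad (σ := RingEquiv.refl F) h
    obtain ⟨g, hg, he⟩ := hmk _ hu
    exact ⟨g, hg, fun f => he ▸ hf f⟩

section Unitary

variable {q : ℕ} {σ : F ≃+* F}

theorem herm_eq_dot (hσ : IsUSigma q σ) (u v : Fin 9 → F) : hermForm 9 F q u v = u ⬝ᵥ fun i => σ (v i) := by
  simp [hermForm, dotProduct, hσ.apply_eq]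

theorem gu_matrix (hσ : IsUSigma q σ) {g : GL (Fin 9) F} (hg : g ∈ GU 9 F q) :
    (g : Matrix (Fin 9) (Fin 9) F)ᵀ * (g : Matrix (Fin 9) (Fin 9) F).map σ = 1 := by
  ext i j
  have e := mem_GU_iff.mp hg (Pi.single i 1) (Pi.single j 1)
  rw [herm_eq_dot hσ, herm_eq_dot hσ, Matrix.mulVec_single_one, Matrix.mulVec_single_one, single_dotProduct,
    one_mul] at e
  simp only [dotProduct, Matrix.col_apply, Matrix.transpose_apply] at e
  rw [Matrix.mul_apply, Matrix.one_apply]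
  simp only [Matrix.transpose_apply, Matrix.map_apply]
  rw [e]
  by_cases hij : i = j
  · subst hij; simp
  · simp [hij]

/-- The Gram matrix of the new coordinates is scalar. -/
theorem exists_gram (hσ : IsUSigma q σ) (h : Om ω) (hσω : σ ω = ω * ω) (hQP : Qm * Pm = 1) (hPQ : Pm * Qm = 1)
    (hmem : ∀ g : GL (Fin 9) F, g ∈ R ↔ ∃ c a, Qm * (g : Matrix (Fin 9) (Fin 9) F) * Pm = pw ω c • W ω a)
    (hRG : ∀ g ∈ R, g ∈ GU 9 F q) :
    ∃ a : F, a ≠ 0 ∧ ∀ x y, hermForm 9 F q (Pm *ᵥ x) (Pm *ᵥ y) = a * hm σ x y := by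
  obtain ⟨G, hG⟩ : ∃ G : Matrix P9 P9 F, G = Pmᵀ * Pm.map σ := ⟨_, rfl⟩
  have hinv : ∀ a, (W ω a)ᵀ * G * (W ω a).map σ = G := fun a => by
    obtain ⟨x, hx⟩ : ∃ x : GL (Fin 9) F, x = (cvt Pm Qm hQP hPQ).symm (isUnit_W h a).unit := ⟨_, rfl⟩
    have hxv : Qm * (x : Matrix (Fin 9) (Fin 9) F) * Pm = W ω a := by
      rw [← cvt_val Pm Qm hQP hPQ, hx, MulEquiv.apply_symm_apply]; rfl
    have hP : Pm * W ω a = (x : Matrix (Fin 9) (Fin 9) F) * Pm := by
      rw [← hxv, ← Matrix.mul_assoc, ← Matrix.mul_assoc, hPQ, Matrix.one_mul]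
    have hxR : x ∈ R := (hmem x).mpr ⟨0, a, by rw [hxv, pw_zero, one_smul]⟩
    calc (W ω a)ᵀ * G * (W ω a).map σ = (Pm * W ω a)ᵀ * (Pm * W ω a).map σ := by
          rw [hG, Matrix.transpose_mul, Matrix.map_mul]; simp only [Matrix.mul_assoc]
      _ = Pmᵀ * ((x : Matrix (Fin 9) (Fin 9) F)ᵀ * (x : Matrix (Fin 9) (Fin 9) F).map σ) * Pm.map σ := by
          rw [hP, Matrix.transpose_mul, Matrix.map_mul]; simp only [Matrix.mul_assoc]
      _ = G := by rw [gu_matrix hσ (hRG x hxR), Matrix.mul_one, hG]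
  have hcomm : ∀ a, G * (W ω a).map σ = (W ω a).map σ * G := fun a => by
    have hu : (W ω a)ᵀ * (W ω a).map σ = 1 := (un_rm h hσω a.1).kron (un_rm h hσω a.2)
    have hu' : (W ω a).map σ * (W ω a)ᵀ = 1 := mul_eq_one_comm.mp hu
    conv_rhs => rw [← hinv a, ← Matrix.mul_assoc, ← Matrix.mul_assoc, hu', Matrix.one_mul]
  obtain ⟨c, hc⟩ := scalar_of_commute9 h (X := G.map σ.symm) fun a => by
    have e := congrArg (fun M : Matrix P9 P9 F => M.map σ.symm) (hcomm a)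
    simp only [Matrix.map_mul, Matrix.map_map] at e
    simpa [Function.comp_def] using e
  have hGc : G = σ c • (1 : Matrix P9 P9 F) := by
    ext i j
    have e := congrArg σ (congrFun (congrFun hc i) j)
    by_cases hij : i = j
    · subst hij; simpa using e
    · simpa [hij] using e
  refine ⟨σ c, fun h0 => ?_, fun x y => ?_⟩
  · have e : (1 : Matrix (Fin 9) (Fin 9) F) = Qmᵀ * G * Qm.map σ := by
      rw [hG, ← Matrix.mul_assoc, ← Matrix.transpose_mul, hPQ, Matrix.transpose_one, Matrix.one_mul,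
        ← Matrix.map_mul, hPQ, Matrix.map_one σ (map_zero σ) (map_one σ)]
    rw [hGc, h0, zero_smul, Matrix.mul_zero, Matrix.zero_mul] at e
    exact one_ne_zero (congrFun (congrFun e 0) 0)
  · rw [herm_eq_dot hσ, show (fun i => σ ((Pm *ᵥ y) i)) = Pm.map σ *ᵥ fun j => σ (y j) by
      funext i; simp [Matrix.mulVec, dotProduct, map_sum], Matrix.dotProduct_mulVec, ← Matrix.vecMul_transpose,
      Matrix.vecMul_vecMul, ← hG, hGc, Matrix.vecMul_smul, Matrix.vecMul_one, smul_dotProduct, smul_eq_mul, hm_eq]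

/-- **The unitary group.** -/
theorem isMaximal_su (hF : Fintype.card F = q ^ 2) {p : ℕ} (hp : p.Prime) (hqp : q = p) (hp3 : p % 3 = 2)
    (hsymp : IsSymplecticTypeGroup 3 R) (habs : ActsAbsolutelyIrreducibly (matrixSet R))
    (hsim : R ≤ similarityGroup (hermForm 9 F q)) (hcard : Nat.card R = 243)
    (hZ : Nat.card (Subgroup.center R) = 3) :
    IsMaximalIn (GU 9 F q ⊓ specialLinear (Fin 9) F)
      (subgroupNormalizer R ⊓ (GU 9 F q ⊓ specialLinear (Fin 9) F)) := by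
  subst hqp
  obtain ⟨-, -, σ, -, -, -, -, hσ⟩ := exists_usigma hF
  haveI := Fact.mk hp
  haveI : CharP F q := Cfsg.Agent.Classical.Frame.charP_of_card_pow hp two_ne_zero hF
  have h3 : (3 : F) ≠ 0 := by
    rw [show (3 : F) = ((3 : ℕ) : F) by norm_num, Ne, CharP.cast_eq_zero_iff F q]
    exact fun h => by have := (Nat.prime_dvd_prime_iff_eq hp Nat.prime_three).mp h; omega
  obtain ⟨ω, Pm, Qm, h, hQP, hPQ, hmem⟩ := coords_of hsymp habs h3 hcard hZ
  have hσω : σ ω = ω * ω := by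
    rw [hσ.apply_eq, ← Nat.div_add_mod q 3, hp3, pow_add, pow_mul, pow_succ, pow_two, h.cube, one_pow, one_mul]
  have hRG : ∀ g ∈ R, g ∈ GU 9 F q := by
    intro g hg
    obtain ⟨μ, hμ⟩ := hsim hg
    have h3' : g ^ 3 = 1 := by
      have h := (Monoid.exponent_dvd_iff_forall_pow_eq_one.mp (dvd_of_eq hsymp.exponent_eq)) (⟨g, hg⟩ : R)
      simpa using congrArg Subtype.val h
    obtain ⟨y, hy⟩ : ∃ y, hermForm 9 F q (Pi.single 0 1) y ≠ 0 :=
      ((hσ.isUnitaryForm (n := 9)).nondegenerate (Pi.single 0 1 : Fin 9 → F) fun h => one_ne_zero (α := F) (by simpa using congrFun h 0)).2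
    have hfix : σ (μ : F) = μ := by
      have h1 := congrArg σ (hμ y (Pi.single 0 1))
      rw [← hσ.isUnitaryForm.herm, hμ, map_mul, ← hσ.isUnitaryForm.herm] at h1
      exact mul_right_cancel₀ hy h1.symm
    have hμ3 : (μ : F) * μ * μ = 1 := by
      have h := congrArg (fun m : GL (Fin 9) F => hermForm 9 F q ((m : Matrix (Fin 9) (Fin 9) F) *ᵥ Pi.single 0 1)
        ((m : Matrix (Fin 9) (Fin 9) F) *ᵥ y)) h3'
      simp only [pow_succ, pow_zero, one_mul, gl_mul_mulVec, hμ, Units.val_one, Matrix.one_mulVec, ← mul_assoc] at h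
      exact mul_right_cancel₀ hy (h.trans (one_mul _).symm)
    have hμ1 : (μ : F) = 1 := by
      rw [hσ.apply_eq, ← Nat.div_add_mod q 3, hp3, pow_add, pow_mul, pow_succ, pow_two, hμ3, one_pow, one_mul] at hfix
      exact mul_right_cancel₀ μ.ne_zero (hfix.trans (one_mul _).symm)
    refine mem_GU_iff.mpr fun a b => ?_
    rw [hμ, hμ1, one_mul]
  obtain ⟨a, ha0, hgram⟩ := exists_gram hσ h hσω hQP hPQ hmem hRG
  have hP : ∀ (g : GL (Fin 9) F) (x : P9 → F),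
      Pm *ᵥ ((cvt Pm Qm hQP hPQ g : Matrix P9 P9 F) *ᵥ x) = (g : Matrix (Fin 9) (Fin 9) F) *ᵥ (Pm *ᵥ x) := fun g x => by
    rw [cvt_val, Matrix.mulVec_mulVec, ← Matrix.mul_assoc, ← Matrix.mul_assoc, hPQ, Matrix.one_mul,
      Matrix.mulVec_mulVec]
  have hiff : ∀ g : GL (Fin 9) F, g ∈ GU 9 F q ↔ ∀ u v, hm σ ((cvt Pm Qm hQP hPQ g : Matrix P9 P9 F) *ᵥ u)
      ((cvt Pm Qm hQP hPQ g : Matrix P9 P9 F) *ᵥ v) = hm σ u v := fun g => by
    refine ⟨fun hg u v => mul_left_cancel₀ ha0 ?_, fun hg => mem_GU_iff.mpr fun u v => ?_⟩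
    · rw [← hgram, ← hgram, hP, hP, mem_GU_iff.mp hg]
    · have e : ∀ w, w = Pm *ᵥ (Qm *ᵥ w) := fun w => by rw [Matrix.mulVec_mulVec, hPQ, Matrix.one_mulVec]
      rw [e u, e v, ← hP, ← hP, hgram, hgram, hg]
  have hmk : ∀ M : Matrix P9 P9 F, M.det = 1 → Un σ M →
      ∃ g ∈ GU 9 F q ⊓ specialLinear (Fin 9) F, (cvt Pm Qm hQP hPQ g : Matrix P9 P9 F) = M := fun M hM hM' => by
    obtain ⟨u, hu⟩ : ∃ u : GL P9 F, (u : Matrix P9 P9 F) = M :=
      ⟨GeneralLinearGroup.mkOfDetNeZero M (by rw [hM]; exact one_ne_zero), rfl⟩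
    refine ⟨(cvt Pm Qm hQP hPQ).symm u, ⟨(hiff _).mpr ?_, mem_specialLinear_iff.mpr ?_⟩,
      by rw [MulEquiv.apply_symm_apply, hu]⟩
    · rw [MulEquiv.apply_symm_apply, hu]; exact hM'.pres
    · rw [← det_cvt Pm Qm hQP hPQ, MulEquiv.apply_symm_apply, hu, hM]
  refine isMaximal_of hQP hPQ hmem h _ (fun g hg => mem_specialLinear_iff.mp hg.2)
    (fun M hM => hmk M (hM.det h) (hM.un hσ h hσω)) (fun X hX hXS => ?_) ?_
  · have hI : Iso σ X := fun g hg => by
      have e := (hiff _).mp (hXS g hg).1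
      rwa [MulEquiv.apply_symm_apply] at e
    rcases dichotomy_su hσ (by omega) hX hI with hN | hT
    · exact Or.inl hN
    · exact Or.inr fun g hg => hT _ ((det_cvt Pm Qm hQP hPQ g).trans (mem_specialLinear_iff.mp hg.2))
        ((hiff g).mp hg.1)
  · obtain ⟨u, hu, hu', hf⟩ := exists_bad (σ := σ) h
    obtain ⟨g, hg, he⟩ := hmk _ hu hu'
    exact ⟨g, hg, fun f => he ▸ hf f⟩

end Unitary

end Cfsg.Agent.Classical.TriFrame
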